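import Cfsg.Agent.Lib.UN.AutB
import Cfsg.Agent.Lib.HX.AutA

/-! Two-elements generated by elements of odd order; the long root data -/

set_option autoImplicit false
set_option linter.unusedSectionVars false

namespace CfsgLib.UN

open Subgroup Module CfsgLib.Forms CfsgLib.LieMult
open CfsgLib.HX (Std CO Two Mv Tr LR Heis NF Fus4 Has4 M2)
open Submodule (span)
open scoped commutatorElement Pointwise

universe u

variable {K : Type} [Field K] [Finite K] {σ : K →+* K} {V : Type} [AddCommGroup V] [Module K V]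
  [FiniteDimensional K V] {P : PQ σ V} {S : Type} [Group S] [Finite S] {G : Type u} [Group G]
  [Finite G] {C : CG P S} {φ : S →* G} {t : G}

theorem Od_mono {H H' : Subgroup G} (h : H ≤ H') : Od H ≤ Od H' := 
  closure_mono fun _ ho => ⟨h ho.1, ho.2⟩

theorem Od_le (H : Subgroup G) : Od H ≤ H := (closure_le _).2 fun _ ho => ho.1

theorem map_Od {G' : Type*} [Group G'] (f : G →* G') (H : Subgroup G) : (Od H).map f ≤ Od (H.map f) := by
  rw [Od, MonoidHom.map_closure]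
  refine closure_mono ?_
  rintro _ ⟨o, ho, rfl⟩
  exact ⟨mem_map_of_mem f ho.1, ho.2.of_dvd_nat (orderOf_map_dvd f o)⟩

theorem comm_mem_Od {H : Subgroup G} {o g : G} (ho : o ∈ H) (hg : g ∈ H) (h : Odd (orderOf o)) :
    o * g * o⁻¹ * g⁻¹ ∈ Od H := by
  have h1 : g * o⁻¹ * g⁻¹ ∈ Od H := subset_closure ⟨mul_mem (mul_mem hg (inv_mem ho)) (inv_mem hg),
    by rw [← MulAut.conj_apply, (MulAut.conj g).orderOf_eq, orderOf_inv]; exact h⟩
  have := mul_mem (subset_closure ⟨ho, h⟩ : o ∈ Od H) h1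
  rwa [← mul_assoc, ← mul_assoc] at this

theorem conj_mem_Od {H : Subgroup G} {o g : G} (ho : o ∈ Od H) (hg : g ∈ H) : g * o * g⁻¹ ∈ Od H := by
  induction ho using closure_induction with
  | mem x hx =>
    exact subset_closure ⟨mul_mem (mul_mem hg hx.1) (inv_mem hg),
      by rw [← MulAut.conj_apply, (MulAut.conj g).orderOf_eq]; exact hx.2⟩
  | one => simpa using one_mem _
  | mul x y _ _ hx hy => rw [← conj_mul]; exact mul_mem hx hy
  | inv x _ hx => rw [← conj_inv]; exact inv_mem hx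

theorem odd_mem_of_pow {M : Subgroup G} {g : G} (hp : IsPGroup 2 (zpowers g)) {m : ℕ} (hm : Odd m)
    (h : g ^ m ∈ M) : g ∈ M := by
  obtain ⟨k, hk⟩ := Core.isPGroup_zpowers_iff.1 hp
  have hc : m.Coprime (orderOf g) :=
    ((Nat.coprime_two_right.2 hm).pow_right k).coprime_dvd_right (orderOf_dvd_of_pow_eq_one hk)
  obtain ⟨j, hj⟩ := exists_pow_eq_self_of_coprime hc
  exact hj ▸ pow_mem h j

theorem odd_le_of_solv {H N : Subgroup G} (h : H ≤ ⁅H, H⁆) [(N.subgroupOf H).Normal]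
    (hs : Group.IsSolvable (H ⧸ N.subgroupOf H)) : H ≤ N := by
  by_contra hn
  have : Nontrivial (H ⧸ N.subgroupOf H) := by
    rw [QuotientGroup.nontrivial_iff]
    exact fun e => hn (subgroupOf_eq_top.1 e)
  have h1 : commutator H = ⊤ := by
    refine map_injective H.subtype_injective (le_antisymm (map_mono le_top) ?_)
    rw [_root_.commutator_def, map_commutator, ← MonoidHom.range_eq_map, range_subtype]
    exact h
  have h2 := Group.IsSolvable.commutator_lt_top_of_nontrivial (H ⧸ N.subgroupOf H)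
  rw [_root_.commutator_def, ← map_top_of_surjective _ (QuotientGroup.mk'_surjective (N.subgroupOf H)),
    ← map_commutator, ← _root_.commutator_def, h1] at h2
  exact h2.false

theorem odd_pow_two (g : G) : ∃ k, Odd (orderOf (g ^ 2 ^ k)) := by
  obtain ⟨k, m, hm, e⟩ := Nat.exists_eq_two_pow_mul_odd (orderOf_pos g).ne'
  exact ⟨k, hm.of_dvd_nat (orderOf_dvd_of_pow_eq_one (by rw [← pow_mul, ← e, pow_orderOf_eq_one]))⟩

theorem odd_pow_odd (g : G) : ∃ m, Odd m ∧ IsPGroup 2 (zpowers (g ^ m)) := by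
  obtain ⟨k, m, hm, e⟩ := Nat.exists_eq_two_pow_mul_odd (orderOf_pos g).ne'
  exact ⟨m, hm, Core.isPGroup_zpowers_iff.2 ⟨k, by
    rw [← pow_mul, mul_comm, ← e, pow_orderOf_eq_one]⟩⟩

theorem odd_index {X : Type*} [Group X] [Finite X] (N : Subgroup X) [N.Normal]
    (h : ∀ x : X, ∃ m, Odd m ∧ x ^ m ∈ N) : Odd N.index := Nat.not_even_iff_odd.1 fun he => by
  obtain ⟨x, hx⟩ := exists_prime_orderOf_dvd_card' (G := X ⧸ N) 2 he.two_dvd
  obtain ⟨x, rfl⟩ := QuotientGroup.mk_surjective x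
  obtain ⟨m, hm, e⟩ := h x
  have : orderOf (x : X ⧸ N) ∣ m := orderOf_dvd_of_pow_eq_one (by
    rw [← QuotientGroup.mk_pow]; exact (QuotientGroup.eq_one_iff _).2 e)
  rw [hx] at this
  exact hm.not_two_dvd_nat this

theorem odd_map {A : Type*} [Group A] {H : Subgroup G} (f : Od H →* A)
    (hf : ∀ a b, Commute (f a) (f b)) (g : Od H) : Odd (orderOf (f g)) := by
  obtain ⟨g, hg⟩ := g
  induction hg using closure_induction with
  | mem x hx => exact hx.2.of_dvd_nat ((orderOf_map_dvd f _).trans (orderOf_mk _ _).dvd)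
  | one => rw [show (⟨1, one_mem _⟩ : Od H) = 1 from rfl, map_one, orderOf_one]; exact odd_one
  | mul x y hx hy e1 e2 =>
    rw [show (⟨x * y, mul_mem hx hy⟩ : Od H) = ⟨x, hx⟩ * ⟨y, hy⟩ from rfl, map_mul]
    exact (e1.mul e2).of_dvd_nat (hf _ _).orderOf_mul_dvd_mul_orderOf
  | inv x hx e =>
    rwa [show (⟨x⁻¹, inv_mem hx⟩ : Od H) = ⟨x, hx⟩⁻¹ from rfl, map_inv, orderOf_inv]

theorem le_Od_of_perf {H : Subgroup G} (h : H ≤ ⁅H, H⁆) : H ≤ Od H := by
  have : ((Od H).subgroupOf H).Normal := ⟨fun o ho g => conj_mem_Od ho g.2⟩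
  have : Fact (Nat.Prime 2) := ⟨Nat.prime_two⟩
  have h2 : IsPGroup 2 (H ⧸ (Od H).subgroupOf H) := fun x => by
    obtain ⟨x, rfl⟩ := QuotientGroup.mk_surjective x
    obtain ⟨k, hk⟩ := odd_pow_two (x : G)
    exact ⟨k, by
      rw [← QuotientGroup.mk_pow]
      exact (QuotientGroup.eq_one_iff _).2 (subset_closure ⟨pow_mem x.2 _, hk⟩)⟩
  have := h2.isNilpotent
  exact odd_le_of_solv h inferInstance

/-- type-free form -/
theorem mem_of_Od' {L : Subgroup G} (hc : ∀ Q ≤ centralizer (L : Set G), IsPGroup 2 Q → IsCyclic Q)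
    (hZ : Odd (Nat.card (L ⊓ centralizer (L : Set G) : Subgroup G))) {A : Type*} [CommGroup A]
    (ty : normalizer (L : Set G) →* A)
    (hty : ∀ g, ty g = 1 → ∃ m, Odd m ∧ (g : G) ^ m ∈ L ⊔ centralizer (L : Set G)) {g : G}
    (hg : g ∈ Od (normalizer (L : Set G))) (h2 : IsPGroup 2 (zpowers g)) : g ∈ L := by
  have _ := hZ
  obtain ⟨O, P, h1, hP, pP, h3, -⟩ := HX.Nrm.exists_compl _ hc
  have hCN := centralizer_le_normalizer (L : Set G)
  have hO : O ≤ normalizer (L : Set G) := fun c hc => hCN ((h1 c).1 hc).1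
  have hC : ∀ n ∈ normalizer (L : Set G), ∀ c ∈ centralizer (L : Set G),
      n * c * n⁻¹ ∈ centralizer (L : Set G) :=
    fun n hn c hc => (mem_normalizer_iff.1 (Core.normalizer_le_normalizer_centralizer _ hn) c).1 hc
  let M := (L ⊔ O).subgroupOf (normalizer (L : Set G))
  have : M.Normal := ⟨fun g hg n => by
    obtain ⟨l, hl, o, ho, e⟩ := (Core.mem_sup_of_le_normalizer_left hO).1 hg
    have := mul_mem (mem_sup_left (T := O) ((mem_normalizer_iff.1 n.2 l).1 hl)) (mem_sup_right ((h1 _).2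
      ⟨hC n n.2 o ((h1 o).1 ho).1, ((MulAut.conj n.1).orderOf_eq o).symm ▸ ((h1 o).1 ho).2⟩))
    change n.1 * g.1 * n.1⁻¹ ∈ L ⊔ O
    rw [← show l * o = g.1 from e]
    convert this using 1
    group⟩
  let π := QuotientGroup.mk' M
  have hπ : ∀ g, π g = 1 ↔ g.1 ∈ L ⊔ O := fun g => QuotientGroup.eq_one_iff g
  let T := (P.subgroupOf (normalizer (L : Set G))).map π
  have t1 : ∀ g : normalizer (L : Set G), g.1 ∈ L ⊔ centralizer (L : Set G) → π g ∈ T := fun g hg => by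
    obtain ⟨l, hl, c, hc, e⟩ := (Core.mem_sup_of_le_normalizer_left hCN).1 hg
    obtain ⟨o, ho, p, hp, rfl⟩ := h3 _ hc
    refine ⟨⟨p, hCN (hP hp)⟩, hp, (mul_inv_eq_one.1 ?_).symm⟩
    rw [← map_inv, ← map_mul, hπ]
    have := mul_mem (mem_sup_left (T := O) hl) (mem_sup_right ho)
    change g.1 * p⁻¹ ∈ L ⊔ O
    rwa [← show l * (o * p) = g.1 from e, ← mul_assoc, mul_inv_cancel_right]
  have tp : IsPGroup 2 T := pP.comap_subtype.map π
  have tc : IsCyclic T := by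
    have := hc P hP pP
    have := isCyclic_of_surjective _ (subgroupOfEquivOfLe (hP.trans hCN)).symm.surjective
    exact isCyclic_of_surjective _ (π.subgroupMap_surjective _)
  have t3 : ∀ g : normalizer (L : Set G), Odd (orderOf g.1) → π g ∈ centralizer (T : Set _) :=
    fun g hg => by
      have hn : π g ∈ normalizer (T : Set _) := mem_normalizer_fintype (by
        rintro _ ⟨p, hp, rfl⟩
        rw [← map_inv, ← map_mul, ← map_mul]
        exact t1 _ (mem_sup_right (hC g g.2 p (hP hp))))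
      obtain ⟨j, hj⟩ := TwoGrp.isPGroup_mulAut_of_isCyclic tp (T.normalizerMonoidHom ⟨_, hn⟩)
      have := HX.Nrm.eq_one_of_odd (hg.of_dvd_nat ((orderOf_map_dvd _ _).trans
        ((orderOf_mk _ _).dvd.trans ((orderOf_map_dvd π g).trans (orderOf_coe g).symm.dvd)))) hj
      rwa [← MonoidHom.mem_ker, normalizerMonoidHom_ker] at this
  let ι := inclusion (Od_le (normalizer (L : Set G)))
  let ρ := π.comp ι
  have t4 : ∀ x : Od (normalizer (L : Set G)), ρ x ∈ centralizer (T : Set _) := by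
    rintro ⟨x, hx⟩
    induction hx using closure_induction with
    | mem x hx => exact t3 ⟨x, hx.1⟩ hx.2
    | one => exact (map_one ρ).symm ▸ one_mem _
    | mul x y hx hy e1 e2 => exact (map_mul ρ ⟨x, hx⟩ ⟨y, hy⟩).symm ▸ mul_mem e1 e2
    | inv x hx e => exact (map_inv ρ ⟨x, hx⟩).symm ▸ inv_mem e
  have t5 : Odd (center ρ.range).index := odd_index _ (by
    rintro ⟨_, x, rfl⟩
    have o1 := odd_map (ty.comp ι) (fun a b => mul_comm _ _) x
    obtain ⟨m, hm, e⟩ := hty (ι x ^ orderOf (ty (ι x))) (by rw [map_pow, pow_orderOf_eq_one])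
    refine ⟨orderOf (ty (ι x)) * m, Odd.mul o1 hm, mem_center_iff.2 ?_⟩
    rintro ⟨_, y, rfl⟩
    refine Subtype.ext (t4 y _ ?_).symm
    have := t1 ((ι x ^ orderOf (ty (ι x))) ^ m) e
    rwa [← pow_mul, map_pow] at this)
  obtain ⟨k, hk⟩ := Core.isPGroup_zpowers_iff.1 h2
  have hk' : (⟨g, hg⟩ : Od (normalizer (L : Set G))) ^ 2 ^ k = 1 := Subtype.ext hk
  have t6 := HX.Nrm.eq_one_of_odd (k := k) (odd_map ((MonoidHom.transferCenterPow ρ.range).comp
    ρ.rangeRestrict) (fun a b => Subtype.ext (mem_center_iff.1 (Subtype.prop _) _)) ⟨g, hg⟩) (by rw [← map_pow, hk', map_one])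
  have t7 : ρ ⟨g, hg⟩ ^ (center ρ.range).index = 1 :=
    congrArg (fun z : center ρ.range => (z.1.1 : _ ⧸ M)) t6
  have t8 : ρ ⟨g, hg⟩ = 1 := HX.Nrm.eq_one_of_odd (k := k)
    (t5.of_dvd_nat (orderOf_dvd_of_pow_eq_one t7)) (by rw [← map_pow, hk', map_one])
  obtain ⟨l, hl, o, ho, e⟩ := (Core.mem_sup_of_le_normalizer_left hO).1 ((hπ _).1 t8)
  replace e : l * o = g := e
  have hlo : Commute l o := ((h1 o).1 ho).1 l hl
  refine odd_mem_of_pow h2 ((h1 o).1 ho).2 ?_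
  rw [← e, hlo.mul_pow, pow_orderOf_eq_one, mul_one]
  exact pow_mem hl _

namespace Sit

variable (h : Sit C φ t) {e f : V} {U : Submodule K V}
include h

theorem cj (g : G) : Sit C ((MulAut.conj g).toMonoidHom.comp φ) (g * t * g⁻¹) := 
  ⟨h.toEmb.cj g, by
    rw [MonoidHom.range_comp]
    exact h.toStd.cj g⟩

theorem tφ (s : S) : Commute (φ s) t := h.tC _ ⟨s, rfl⟩

theorem cN {g : G} (hg : Commute g t) : g ∈ normalizer (φ.range : Set G) := 
  h.CN (mem_centralizer_singleton_iff.2 hg)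

theorem mem_of_Od {g : G} (hg : g ∈ Od (centralizer {t})) (h2 : IsPGroup 2 (zpowers g)) :
    g ∈ φ.range := by
  obtain ⟨ty, hty⟩ := h.toEmb.exists_ty
  have := h.toMod.aut_cyc
  let _ : CommGroup (RingAut K) := IsCyclic.commGroup
  refine mem_of_Od' h.cyc h.toEmb.center_odd ty (fun n hn => ?_) (Od_mono h.CN hg) h2
  obtain ⟨α, γ, k⟩ := h.toEmb.exists_act n.2
  obtain rfl : α = 1 := (hty n α γ k).symm.trans hn
  exact h.toEmb.lin_odd k

theorem Od2_le : Od2 (centralizer {t}) ≤ φ.range := (closure_le _).2 fun g hg =>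
  h.mem_of_Od hg.2 (Core.isPGroup_zpowers_iff.2 ⟨1, by rw [pow_one, pow_two, hg.1]⟩)

theorem le_of_perf {H : Subgroup G} (h1 : H ≤ centralizer {t}) (h2 : H ≤ ⁅H, H⁆) : H ≤ φ.range := by
  have : (φ.range.subgroupOf H).Normal := ⟨fun o ho g =>
    (mem_normalizer_iff.1 (h.CN (h1 g.2)) o).1 ho⟩
  refine odd_le_of_solv h2 (FT.odd_order_solvable (odd_index _ fun g => ?_))
  obtain ⟨m, hm, e⟩ := odd_pow_odd (g : G)
  exact ⟨m, hm, h.mem_of_Od (Od_mono h1 (le_Od_of_perf h2 (pow_mem g.2 m))) e⟩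

theorem invol_cent {c : G} (hc : c ∈ centralizer (φ.range : Set G)) (ct : Commute c t) (c2 : c * c = 1) :
    c = 1 ∨ c = t := h.toStd.invol hc ct c2

theorem inner {s : G} (hs : Commute s t) (s2 : s * s = 1) {l : S} (l2 : l * l = 1)
    (hl : (φ l)⁻¹ * s ∈ centralizer (φ.range : Set G)) : s = φ l ∨ s = t * φ l := by
  have h1 : Commute (φ l) ((φ l)⁻¹ * s) := hl _ ⟨l, rfl⟩
  have h2 : (φ l)⁻¹ * s * ((φ l)⁻¹ * s) = 1 := by
    have := h1.mul_pow 2
    rw [mul_inv_cancel_left, pow_two, pow_two, pow_two, s2, ← map_mul, l2, map_one, one_mul] at this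
    exact this.symm
  rcases h.invol_cent hl ((h.tφ l).inv_left.mul_left hs) h2 with e | e
  · exact Or.inl (inv_mul_eq_one.1 e).symm
  · exact Or.inr ((inv_mul_eq_iff_eq_mul.1 e).trans (h.tφ l).eq)

theorem t_not_mem : t ∉ φ.range := fun ht =>
  h.t1 (HX.Nrm.eq_one_of_odd (k := 1) (h.toEmb.center_odd.of_dvd_nat
    (orderOf_dvd_natCard _ (⟨ht, h.tC⟩ : t ∈ φ.range ⊓ centralizer (φ.range : Set G))))
    (by rw [pow_one, pow_two, h.t2]))

theorem lr (hf : HP P e f) : ∃ (π : G → Wp P e f) (β : LinearMap.BilinForm (Fx σ) (Wp P e f)),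
    LR φ.range (Yg C φ (span K {e})) (Rg C φ (span K {e})) t (fun s : Fx σ => z C φ e s) π β ∧
      (∀ a c (ha : a ∈ Wp P e f), TOk P e a c → π (x C φ e a c) = ⟨a, ha⟩) ∧
      ∀ a b : Wp P e f, (β a b : K) = P.B a b + P.B b a := by
  classical
  have m := h.toMod
  have em := h.toEmb
  have he : P.B e e = 0 := hf.se.self_eq
  have h0 : e ≠ 0 := fun e0 => by simpa [e0] using hf.ef
  have hTI : TI P (span K {e}) := ti_span.2 (by simpa using he)
  have hW : ∀ {a : V}, a ∈ Wp P e f ↔ P.B e a = 0 ∧ P.B f a = 0 := CG.mem_perp_pair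
  have hQ : ∀ {g : G}, g ∈ Rg C φ (span K {e}) ↔
      ∃ a c, a ∈ Wp P e f ∧ TOk P e a c ∧ g = x C φ e a c := fun {g} => by
    constructor
    · rintro ⟨s, hs, rfl⟩
      obtain ⟨a, c, k, k', rfl⟩ := (m.mem_rad_hp hf).1 hs
      exact ⟨a, c, hW.2 ⟨k.perp, k'⟩, k, rfl⟩
    · rintro ⟨a, c, -, k, rfl⟩
      exact (em.mem_Q h0 he).2 ⟨a, c, k, rfl⟩
  obtain ⟨π, hπ⟩ : ∃ π : G → Wp P e f, ∀ a c (ha : a ∈ Wp P e f), TOk P e a c →
      π (x C φ e a c) = ⟨a, ha⟩ := by
    refine ⟨fun g => if k : ∃ a : Wp P e f, ∃ c, TOk P e a c ∧ g = x C φ e a c then k.choose else 0,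
      fun a c ha k => ?_⟩
    have k1 : ∃ a' : Wp P e f, ∃ c', TOk P e a' c' ∧ x C φ e a c = x C φ e a' c' :=
      ⟨⟨a, ha⟩, c, k, rfl⟩
    simp only [dif_pos k1]
    obtain ⟨c', k2, k3⟩ := k1.choose_spec
    have k4 := em.inj_two (m.rad_two hTI) ((m.mem_rad_pt h0 he).2 ⟨_, _, k, rfl⟩)
      ((m.mem_rad_pt h0 he).2 ⟨_, _, k2, rfl⟩) k3
    exact Subtype.ext (C.T_inj hf k k2 (hW.1 ha).2 (hW.1 k1.choose.2).2 k4).1.symm
  have hs : ∀ (s : Fx σ) (a : Wp P e f), ((s • a : Wp P e f) : V) = (s : K) • (a : V) :=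
    fun _ _ => rfl
  have hσ : ∀ s : Fx σ, σ s = s := fun s => s.2
  let β : LinearMap.BilinForm (Fx σ) (Wp P e f) := LinearMap.mk₂ (Fx σ)
    (fun a b => ⟨P.B a b + P.B b a, show σ _ = _ by rw [map_add, m.conj, m.conj, add_comm]; rfl⟩)
    (fun a a' b => Subtype.ext (by
      simp only [Submodule.coe_add, P.B_add_left, P.B_add_right, Subfield.coe_add]; ring))
    (fun s a b => Subtype.ext (by
      simp only [hs, P.B_smul_left, P.B_smul_right, hσ, smul_eq_mul, Subfield.coe_mul]; ring))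
    (fun a b b' => Subtype.ext (by
      simp only [Submodule.coe_add, P.B_add_left, P.B_add_right, Subfield.coe_add]; ring))
    (fun s a b => Subtype.ext (by
      simp only [hs, P.B_smul_left, P.B_smul_right, hσ, smul_eq_mul, Subfield.coe_mul]; ring))
  have hβ : ∀ a b : Wp P e f, (β a b : K) = P.B a b + P.B b a := fun _ _ => rfl
  have xmul : ∀ {a b c d}, TOk P e a c → TOk P e b d →
      x C φ e a c * x C φ e b d = x C φ e (a + b) (c + d + P.B b a) := fun k k' => by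
    rw [x, x, x, ← map_mul, C.T_mul k k']
  have hmul : ∀ g ∈ Rg C φ (span K {e}), ∀ g' ∈ Rg C φ (span K {e}), π (g * g') = π g + π g' :=
    fun g hg g' hg' => by
      obtain ⟨a, c, ha, k, rfl⟩ := hQ.1 hg
      obtain ⟨b, d, hb, k', rfl⟩ := hQ.1 hg'
      rw [xmul k k', hπ _ _ (add_mem ha hb) (k.add k'), hπ _ _ ha k, hπ _ _ hb k']
      rfl
  have hker : ∀ g ∈ Rg C φ (span K {e}), π g = 0 ↔ ∃ s : Fx σ, g = z C φ e s := fun g hg => by
    refine ⟨fun e1 => ?_, fun ⟨s, e1⟩ => e1 ▸ hπ 0 s (zero_mem _) (m.tok0 he s.2)⟩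
    obtain ⟨a, c, ha, k, rfl⟩ := hQ.1 hg
    rw [hπ _ _ ha k] at e1
    obtain rfl : a = 0 := congrArg Subtype.val e1
    have := (m.tok.1 k).2.2
    refine ⟨⟨c, show σ c = c from ?_⟩, rfl⟩
    rw [map_zero] at this
    linear_combination this - m.add_self c
  have hst : ∀ l : S, (∀ v, C.act l v ∈ span K {e} ↔ v ∈ span K {e}) →
      φ l ∈ normalizer (Yg C φ (span K {e}) : Set G) ∧
        φ l ∈ normalizer (Rg C φ (span K {e}) : Set G) := fun l hl =>
    ⟨(em.act_norm (em.act_self l) hl).1, (em.act_norm (em.act_self l) hl).2.1⟩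
  have hnQ : ∀ g, g * t = t * g → (∀ s : Fx σ, g * z C φ e s = z C φ e s * g) →
      g ∈ normalizer (Rg C φ (span K {e}) : Set G) := fun g e1 e2 => by
    obtain ⟨α, γ, k⟩ := em.exists_act (h.cN e1)
    exact (em.act_norm k (em.fix_of_z k he (map_one σ) (map_one σ)
      (fun e3 => by simpa [h0] using (em.z_eq_one he (map_one σ)).1 e3)
      (mul_inv_eq_iff_eq_mul.2 (e2 1)))).2.1
  have hcQ : ∀ g ∈ normalizer (φ.range : Set G), g ∈ centralizer (Rg C φ (span K {e}) : Set G) →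
      ∃ s : Fx σ, ∃ c ∈ centralizer (φ.range : Set G), g = z C φ e s * c := fun g e1 e2 =>
    let ⟨r, hr, c, hc, e3⟩ := em.cQ h0 he e1 e2; ⟨⟨r, hr⟩, c, hc, e3⟩
  have hzQ : ∀ s : Fx σ, z C φ e s ∈ Rg C φ (span K {e}) := fun s =>
    hQ.2 ⟨0, s, zero_mem _, m.tok0 he s.2, rfl⟩
  have hQY : Rg C φ (span K {e}) ≤ Yg C φ (span K {e}) := map_mono (rad_le_fix _)
  have hzi : ∀ s : Fx σ, z C φ e s = 1 → s = 0 := fun s e1 =>
    Subtype.ext (((em.z_eq_one he s.2).1 e1).resolve_left h0)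
  refine ⟨π, β, { h.toStd with
    zadd := fun s r => em.z_add he s.2 r.2
    zinj := hzi
    zQ := hzQ
    πmul := hmul
    πsurj := fun v => ?_
    πker := hker
    comm := fun g hg g' hg' => ?_
    sq := fun g hg => (hker _ (mul_mem hg hg)).1 ?_
    nd := fun v hv => ?_
    two := Subtype.ext m.two
    QY := hQY
    YH := map_le_range _ _
    Yz := ?_
    YQ := ?_
    dim := fun v => ?_
    zC := fun s e1 => hzi s ?_
    perf := ?_
    qy := ?_
    cQY := fun y hy hc => ?_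
    cQ := fun g e1 => hcQ g (h.cN e1)
    nQ := hnQ
    cV := fun g e1 e2 hc => em.cV h0 he (h.cN e1) fun q hq => ?_
    tor := fun l hl => ?_ }, hπ, hβ⟩
  · obtain ⟨c, k⟩ := m.exists_tok he (hW.1 v.2).1
    exact ⟨_, hQ.2 ⟨_, c, v.2, k, rfl⟩, hπ _ _ v.2 k⟩
  · obtain ⟨a, c, ha, k, rfl⟩ := hQ.1 hg
    obtain ⟨b, d, hb, k', rfl⟩ := hQ.1 hg'
    rw [hπ _ _ ha k, hπ _ _ hb k', hβ, ← commutatorElement_def, x, x, ← map_commutatorElement,
      C.T_commutator k k', z]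
    congr 2
    linear_combination -m.add_self (P.B a b)
  · rw [hmul g hg g hg]
    exact Subtype.ext (m.vadd_self _)
  · have h1 : ∀ w ∈ Wp P e f, P.B v w = 0 := fun w hw => by
      by_contra hb
      obtain ⟨θ, hθ⟩ := m.herm.exists_trace_one
      have := congrArg Subtype.val (hv ⟨(θ / P.B v w) • w, Submodule.smul_mem _ _ hw⟩)
      rw [hβ, ← m.conj v, P.B_smul_right, div_mul_cancel₀ _ hb, hθ] at this
      exact one_ne_zero this
    refine Subtype.ext (C.nondeg _ fun u => ?_)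
    have h2 := h1 (u - P.B f u • e - P.B e u • f) (hW.2 ⟨by simp [he, hf.ef], by
      simp [hf.fe, hf.sf.self_eq]⟩)
    have h3 : P.B v e = 0 := P.B_eq_zero_comm.1 (hW.1 v.2).1
    have h4 : P.B v f = 0 := P.B_eq_zero_comm.1 (hW.1 v.2).2
    simpa [h3, h4] using h2
  · rintro _ ⟨l, hl, rfl⟩ s
    have := em.z_conj l he s.2
    rw [hl e (Submodule.mem_span_singleton_self e)] at this
    exact mul_inv_eq_iff_eq_mul.1 this
  · rintro _ ⟨l, hl, rfl⟩
    exact (hst l (fix_le_stb _ hl)).2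
  · by_cases hv : v = 0
    · obtain ⟨e', f', k⟩ := m.exists_hh hf
      refine ⟨⟨e', hW.2 ⟨k.ee, k.fe⟩⟩, fun s e1 => ?_⟩
      have e2 : e' = 0 := by simpa [hv] using congrArg Subtype.val e1
      simpa [e2] using k.h₂.ef
    · obtain ⟨θ, hθ⟩ := m.herm.exists_ne_conj
      refine ⟨θ • v, fun s e1 => hθ ?_⟩
      have : θ = s := smul_left_injective K hv e1
      rw [this]; exact s.2
  · have := em.inj2 ((m.rad_two hTI).to_le (zpowers_le.2 ((m.mem_rad_pt h0 he).2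
      ⟨_, _, m.tok0 he s.2, rfl⟩))) e1
    rw [z, this, map_one]
  · rw [Yg, ← map_commutator]
    exact map_mono (m.fix_perf h0 he)
  · rw [Yg, Rg, ← map_commutator]
    exact map_mono (m.rad_le_comm h0 he)
  · obtain ⟨s, c, hc', e1⟩ := hcQ y (le_normalizer (map_le_range _ _ hy)) hc
    obtain ⟨l, hl, e2⟩ := mul_mem (inv_mem (hQY (hzQ s))) hy
    rw [e1, inv_mul_cancel_left] at e2
    obtain ⟨μ, hμ⟩ := m.mem_center.1 (em.mem_center (e2 ▸ hc'))
    have e3 : μ = 1 := smul_left_injective K h0 (by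
      simpa using (hμ e).symm.trans (hl e (Submodule.mem_span_singleton_self e)))
    have e4 : l = 1 := C.ext fun v => by rw [hμ, e3, one_smul, C.one_apply]
    exact ⟨s, by rw [e1, ← e2, e4, map_one, mul_one]⟩
  · have h1 := (mem_normalizer_iff.1 (hnQ g e1 e2) q).1 hq
    have h2 : π (g * q * g⁻¹ * q⁻¹) = 0 := by
      rw [hmul _ h1 _ (inv_mem hq), hc q hq, ← hmul _ hq _ (inv_mem hq), mul_inv_cancel]
      exact (hker 1 (one_mem _)).2 ⟨0, ((em.z_eq_one he (map_zero σ)).2 (Or.inr rfl)).symm⟩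
    obtain ⟨s, hs⟩ := (hker _ (mul_mem h1 (inv_mem hq))).1 h2
    exact (em.mem_Z he).2 ⟨s, s.2, hs⟩
  · have hl' : (l : K) ≠ 0 := fun e1 => hl (Subtype.ext e1)
    obtain ⟨d, -, d1, -, d2⟩ := m.exists_diag1 hf hl' l.2
    have hd : ∀ v, C.act d v ∈ span K {e} ↔ v ∈ span K {e} := fun v => by
      simp only [Submodule.mem_span_singleton]
      refine ⟨fun ⟨a, ha⟩ => ⟨a / l, (C.act d).injective ?_⟩, fun ⟨a, ha⟩ => ⟨a * l, ?_⟩⟩
      · rw [map_smul, d1, smul_smul, div_mul_cancel₀ _ hl', ha]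
      · rw [← ha, map_smul, d1, smul_smul]
    refine ⟨φ d, ⟨d, rfl⟩, (hst d hd).1, (hst d hd).2, fun g hg => ?_, fun s => ?_⟩
    · obtain ⟨a, c, ha, k, rfl⟩ := hQ.1 hg
      have k1 := k.smul (σ l)
      rw [em.x_conj d k, d1, d2 a (hW.1 ha).1 (hW.1 ha).2, x, C.T_smul_left k, hπ _ _ ha k]
      rw [P.σσ] at k1
      refine (hπ _ _ (Submodule.smul_mem _ _ ha) k1).trans (Subtype.ext ?_)
      rw [hs, hσ]
    · rw [em.z_conj d he s.2, d1, em.z_smul he s.2, hσ]
      rfl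

theorem td (h2 : Two φ.range t) (hU : TI P U) (h0 : U ≠ ⊥) : TD φ.range (Rg C φ U) (Eg C φ U) t := by
  have m := h.toMod
  have em := h.toEmb
  refine { h.toStd with
    two' := h2
    ER := map_mono (m.E_le_rad hU)
    RH := map_le_range _ _
    sq := ?_
    cen := ?_
    EC := ?_
    cR := fun g e1 e2 => ?_ }
  · rintro _ ⟨s, hs, rfl⟩
    rw [← map_mul, m.E_sq hU hs, map_one]
  · rintro _ ⟨s, hs, rfl⟩ _ ⟨r, hr, rfl⟩
    rw [← map_mul, ← map_mul, m.E_cent hU hs r (rad_le_fix _ hr)]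
  · rintro _ ⟨s, hs, rfl⟩ hc
    rw [em.inj2 (Core.isPGroup_zpowers_iff.2 ⟨1, by rw [pow_one, pow_two, m.E_sq hU hs]⟩) hc, map_one]
  · by_cases hd : 2 ≤ finrank K U
    · exact em.cR hU hd (h.cN e1) e2
    obtain ⟨e, he, he0⟩ := (Submodule.ne_bot_iff U).1 h0
    obtain rfl : span K {e} = U := Submodule.eq_of_le_of_finrank_le
      ((Submodule.span_singleton_le_iff_mem e U).2 he) (by rw [finrank_span_singleton he0]; omega)
    have hee : P.B e e = 0 := hU he e he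
    obtain ⟨r, hr, c, hc, e3⟩ := em.cQ he0 hee (h.cN e1) e2
    exact ⟨_, (em.mem_Z hee).2 ⟨r, hr, rfl⟩, c, hc, e3⟩

end Sit

end CfsgLib.UN
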