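import Cfsg.Agent.Lib.UN.Syl

/-! The layers of the Sylow subgroup -/

set_option autoImplicit false
set_option linter.unusedSectionVars false
set_option linter.unusedVariables false

namespace CfsgLib.UN

open Subgroup Module CfsgLib.Forms CfsgLib.LieMult
open CfsgLib.HX (Std CO Two Mv Tr LR Heis NF Fus4 Has4 M2)
open Submodule (span)
open scoped commutatorElement Pointwise

universe u

variable {K : Type} [Field K] [Finite K] {σ : K →+* K} {V : Type} [AddCommGroup V] [Module K V]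
  [FiniteDimensional K V] {P : PQ σ V} {S : Type} [Group S] [Finite S] {G : Type u} [Group G]
  [Finite G] {C : CG P S} {φ : S →* G} {t : G}

namespace SB

variable {m : ℕ} {b : Basis (Fin m) K V}

theorem nu_apply (s : S) (v : V) : nu C s v = C.act s v - v := rfl

theorem act_eq (s : S) (v : V) : C.act s v = v + nu C s v := by rw [nu_apply, add_sub_cancel]

theorem nu_mul (s t : S) : nu C (s * t) = nu C s + nu C t + nu C s * nu C t := LinearMap.ext fun v => by
  simp only [LinearMap.add_apply, Module.End.mul_apply, nu_apply, C.mul_apply, map_sub]; abel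

theorem nu_one : nu C (1 : S) = 0 := LinearMap.ext fun v => by rw [nu_apply, C.one_apply, sub_self]; rfl

theorem B_bas (hb : Bas P b) (i : Fin m) (v : V) : P.B (b i) v = b.repr v i.rev :=
  LinearMap.congr_fun (b.ext fun j => by
    rw [hb, Basis.coord_apply, Basis.repr_self, Finsupp.single_apply] : P.B (b i) = b.coord i.rev) v

theorem b_mem {j : Fin m} {n : ℕ} (h : (j : ℕ) < n) : b j ∈ flag b n := Submodule.subset_span ⟨j, h, rfl⟩

theorem flag_mono {n n' : ℕ} (h : n ≤ n') : flag b n ≤ flag b n' := fun _ hv =>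
  (mem_flag b).2 fun j hj => (mem_flag b).1 hv j (h.trans hj)

variable (C b) in
/-- the elements of height at least `k` -/
def D (k : ℕ) : Subgroup S where
  carrier := {s | s ∈ Ub C b ∧ nu C s ∈ Nh b k}
  one_mem' := ⟨one_mem _, by rw [nu_one]; exact zero_mem _⟩
  mul_mem' := fun h1 h2 => ⟨mul_mem h1.1 h2.1, by
    rw [nu_mul]
    exact add_mem (add_mem h1.2 h2.2) (Nh_anti b (Nat.le_add_right _ _) (Nh_mul b h1.2 h2.2))⟩
  inv_mem' := fun {s} h1 => ⟨inv_mem h1.1, by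
    have := nu_mul (C := C) s⁻¹ s
    rw [inv_mul_cancel, nu_one, add_assoc, eq_comm, add_eq_zero_iff_eq_neg] at this
    rw [this]
    exact neg_mem (add_mem h1.2 (Nh_anti b (Nat.le_add_left _ _) (Nh_mul b ((mem_Ub b).1 (inv_mem h1.1)) h1.2)))⟩

theorem mem_D {k : ℕ} (hk : 0 < k) {s : S} : s ∈ D C b k ↔ nu C s ∈ Nh b k :=
  ⟨fun h => h.2, fun h => ⟨(mem_Ub b).2 (Nh_anti b hk h), h⟩⟩

theorem D_one : D C b 1 = Ub C b := Subgroup.ext fun _ => (mem_D one_pos).trans (mem_Ub b).symm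

theorem down {k : ℕ} {H : Subgroup S} (h : ∀ l, k ≤ l → D C b (l + 1) ≤ H → D C b l ≤ H) : D C b k ≤ H := by
  have top : ∀ l, m ≤ l → D C b l ≤ H := fun l hl s hs => by
    have := Nh_anti b hl hs.2
    rw [Nh_top, Submodule.mem_bot] at this
    rw [show s = 1 from C.ext fun v => by rw [act_eq, this, C.one_apply]; simp]
    exact one_mem _
  by_cases hk : k ≤ m
  · exact Nat.decreasingInduction' (P := fun l => D C b l ≤ H) (fun l _ h1 h2 => h l h1 h2) hk (top m le_rfl)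
  · exact top k (by omega)

theorem move {s : S} (hs : s ∈ Ub C b) {n : ℕ} {v : V} (hv : v ∈ flag b (n + 1)) : C.act s v - v ∈ flag b n :=
  (hs n).2 v hv

theorem stay {s : S} (hs : s ∈ Ub C b) {n : ℕ} {v : V} (hv : v ∈ flag b n) : C.act s v ∈ flag b n :=
  ((hs n).1 v).2 hv

theorem pres {s : S} (h : ∀ j, ∃ x : K, C.act s (b j) = x • b j) (n : ℕ) (v : V) (hv : v ∈ flag b n) :
    C.act s v ∈ flag b n :=
  (Submodule.span_le.2 (by
    rintro _ ⟨j, hj, rfl⟩
    obtain ⟨x, hx⟩ := h j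
    exact Submodule.mem_comap.2 (by
      rw [LinearEquiv.coe_coe, hx]; exact Submodule.smul_mem _ _ (b_mem hj))) :
    flag b n ≤ (flag b n).comap (C.act s).toLinearMap) hv

theorem ent_mul {k : ℕ} (hk : 0 < k) {s t : S} (hs : nu C s ∈ Nh b k) (ht : nu C t ∈ Nh b k) {p q : Fin m}
    (e : (q : ℕ) = p + k) : b.repr (nu C (s * t) (b q)) p = b.repr (nu C s (b q)) p + b.repr (nu C t (b q)) p := by
  rw [nu_mul, LinearMap.add_apply, LinearMap.add_apply, map_add, map_add, Finsupp.add_apply, Finsupp.add_apply,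
    Nh_mul b hs ht p q (by omega), add_zero]

/-- an `F`-subspace that contains a subgroup of index at most 2 -/
theorem span_of {l : K} (hl : σ l = l) (l0 : l ≠ 0) (l1 : 1 + l ≠ 0) {A0 A : K → Prop}
    (h2 : ∀ s s', ¬ A0 s → ¬ A0 s' → A0 (s + s')) (hA : ∀ s ρ, A0 s → σ ρ = ρ → A (s * ρ)) (μ : K) : A μ := by
  by_cases h : A0 μ
  · simpa using hA μ 1 h (map_one σ)
  by_cases h' : A0 (l * μ)
  · have := hA _ l⁻¹ h' (by rw [map_inv₀, hl])
    rwa [mul_comm l, mul_inv_cancel_right₀ l0] at this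
  · have := hA _ (1 + l)⁻¹ (h2 _ _ h h') (by rw [map_inv₀, map_add, map_one, hl])
    rwa [show μ + l * μ = μ * (1 + l) by ring, mul_inv_cancel_right₀ l1] at this

variable (h : Mod C) (hb : Bas P b)
include h hb

theorem B_bas' (v : V) (i : Fin m) : P.B v (b i) = σ (b.repr v i.rev) := by rw [← h.conj, B_bas hb]

theorem orth {a c : ℕ} (e : a + c ≤ m) {v w : V} (hv : v ∈ flag b a) (hw : w ∈ flag b c) : P.B v w = 0 :=
  (P.mem_perp_span.2 (by
    rintro _ ⟨j, hj, rfl⟩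
    rw [B_bas hb]
    exact (mem_flag b).1 hw _ (by have : (j : ℕ) < a := hj; rw [Fin.val_rev]; omega)) : w ∈ P.perp (flag b a)) v hv

theorem nu_T {i : Fin m} {w : V} {c : K} (k : TOk P (b i) w c) (p q : Fin m) :
    b.repr (nu C (C.T (b i) w c) (b q)) p =
      (if i = p then σ (b.repr w q.rev) + if q = i.rev then σ c else 0 else 0) +
        if q = i.rev then b.repr w p else 0 := by
  rw [nu_apply, h.T_app k, add_assoc, add_sub_cancel_left, B_bas' h hb, hb, map_add, map_smul, map_smul,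
    Basis.repr_self]
  by_cases h2 : q = i.rev <;> simp [Finsupp.single_apply, h2]
  split_ifs <;> simp

theorem TDk {i : Fin m} {w : V} {c : K} (k : TOk P (b i) w c) {n l : ℕ} (hl : 0 < l) (hw : w ∈ flag b n)
    (h1 : (i : ℕ) < n) (h2 : i + n + l ≤ m) : C.T (b i) w c ∈ D C b l := (mem_D hl).2 fun p q e => by
  rw [nu_T h hb k]
  have f := (mem_flag b).1 hw
  have := Fin.val_rev q
  have := Fin.val_rev i
  by_cases h3 : q = i.rev
  · have := congrArg Fin.val h3
    rw [if_neg fun e => by have := congrArg Fin.val e; omega, if_pos h3, f p (by omega), add_zero]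
  · by_cases h4 : i = p
    · have := congrArg Fin.val h4
      simp [h3, f q.rev (by omega)]
    · simp [h3, h4]

theorem ent_symm {k : ℕ} (hk : 0 < k) {s : S} (hs : nu C s ∈ Nh b k) {i j : Fin m} (e : (i : ℕ) + j + k + 1 = m) :
    b.repr (nu C s (b j.rev)) i = σ (b.repr (nu C s (b i.rev)) j) := by
  have h1 := C.B_act s (b i.rev) (b j.rev)
  have := Fin.val_rev j
  have := Fin.val_rev i
  rw [act_eq, act_eq s (b j.rev), P.B_add_left, P.B_add_right, P.B_add_right, add_assoc, add_eq_left,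
    orth h hb (a := i.rev + 1 - k) (c := j.rev + 1 - k) (by omega)
      ((mem_Nh b).1 hs _ _ (b_mem (Nat.lt_succ_self _))) ((mem_Nh b).1 hs _ _ (b_mem (Nat.lt_succ_self _))),
    add_zero, B_bas hb, B_bas' h hb, Fin.rev_rev, Fin.rev_rev] at h1
  linear_combination h1 - h.add_self (σ (b.repr (nu C s (b i.rev)) j))

theorem iso {i : Fin m} (e : (i : ℕ) + i + 1 ≠ m) : P.B (b i) (b i) = 0 := by
  rw [hb, if_neg fun k => e (by have := congrArg Fin.val k; have := Fin.val_rev i; omega)]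

theorem perp {i j : Fin m} (e : (i : ℕ) + j + 1 ≠ m) : P.B (b i) (b j) = 0 := by
  rw [hb, if_neg fun k => e (by have := congrArg Fin.val k; have := Fin.val_rev i; omega)]

theorem tokb {i j : Fin m} (e : (i : ℕ) + i + 1 ≠ m) (e' : (i : ℕ) + j + 1 ≠ m) (μ : K) :
    ∃ c, TOk P (b i) (μ • b j) c :=
  h.exists_tok (iso h hb e) (by rw [P.B_smul_right, perp h hb e', mul_zero])

theorem layer {k : ℕ} (hk : 0 < k) {H : Subgroup S} (h1 : D C b (k + 1) ≤ H)
    (h2 : ∀ (i j : Fin m) (μ c : K), i < j → (i : ℕ) + j + k + 1 = m →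
      TOk P (b i) (μ • b j) c → C.T (b i) (μ • b j) c ∈ H)
    (h3 : ∀ (i : Fin m) (r : K), (i : ℕ) + i + k + 1 = m → σ r = r → C.T (b i) 0 r ∈ H) : D C b k ≤ H := by
  suffices ∀ n, n ≤ m → ∀ s ∈ D C b k, (∀ p q : Fin m, (q : ℕ) = p + k → (p : ℕ) < n →
    b.repr (nu C s (b q)) p = 0) → s ∈ H from fun s hs => this 0 (Nat.zero_le _) s hs fun _ _ _ e => absurd e (by omega)
  intro n hn
  refine Nat.decreasingInduction' (P := fun n => ∀ s ∈ D C b k, (∀ p q : Fin m, (q : ℕ) = p + k → (p : ℕ) < n →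
    b.repr (nu C s (b q)) p = 0) → s ∈ H) (fun n h4 _ ih s hs f => ?_) hn fun s hs f =>
      h1 ((mem_D (by omega)).2 fun p q e => (Nat.lt_or_ge q (p + k)).elim (hs.2 p q) fun e' => f p q (by omega) p.2)
  by_cases h5 : m ≤ n + k
  · exact ih s hs fun p q e e' => f p q e (by omega)
  obtain ⟨i, rfl⟩ : ∃ i : Fin m, n = i := ⟨⟨n, h4⟩, rfl⟩
  obtain ⟨j, hj⟩ : ∃ j : Fin m, (i : ℕ) + j + k + 1 = m := ⟨⟨m - 1 - i - k, by omega⟩, by simp only; omega⟩
  have ri := Fin.val_rev i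
  have rj := Fin.val_rev j
  have step : ∀ t ∈ D C b k, t ∈ H → b.repr (nu C t (b j.rev)) i = b.repr (nu C s (b j.rev)) i →
      (∀ p q : Fin m, (q : ℕ) = p + k → p < i → b.repr (nu C t (b q)) p = 0) → s ∈ H := fun t ht ht' e g =>
    (mul_mem_cancel_right ht').1 (ih _ (mul_mem hs ht) fun p q e1 e2 => by
      rw [ent_mul hk hs.2 ht.2 e1]
      by_cases e3 : p < i
      · rw [f p q e1 e3, g p q e1 e3, add_zero]
      · obtain rfl : p = i := Fin.ext (by omega)
        obtain rfl : q = j.rev := Fin.ext (by omega)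
        rw [e, h.add_self])
  rcases lt_trichotomy i j with l | rfl | l
  · obtain ⟨c, hc⟩ := tokb h hb (i := i) (j := j) (by omega) (by omega) (σ (b.repr (nu C s (b j.rev)) i))
    refine step _ (TDk h hb hc hk (Submodule.smul_mem _ _ (b_mem (Nat.lt_succ_self _))) (by omega) (by omega))
      (h2 i j _ c l hj hc) ?_ fun p q _ e => ?_
    · simp [nu_T h hb hc, l.ne', P.σσ]
    · simp [nu_T h hb hc, e.ne', (e.trans l).ne']
  · have r := (ent_symm h hb hk hs.2 hj).symm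
    have hc := h.tok0 (iso h hb (i := i) (by omega)) r
    refine step _ (TDk h hb hc hk (zero_mem _) (Nat.lt_succ_self _) (by omega)) (h3 i _ hj r) ?_ fun p q _ e => ?_
    · simp [nu_T h hb hc, r]
    · simp [nu_T h hb hc, e.ne']
  · exact step 1 (one_mem _) (one_mem _) (by
      rw [nu_one, ent_symm h hb hk hs.2 hj, f j _ (by omega) l]; simp) fun p q _ _ => by simp [nu_one]

/-- reduction modulo the next layer -/
theorem red {k : ℕ} {H : Subgroup S} (h1 : D C b (k + 1) ≤ H) {i j : Fin m} (l : i < j)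
    (e : (i : ℕ) + j + k + 1 = m) {a w : V} {c c' : K} (k1 : TOk P (b i) a c) (k2 : TOk P (b i) (a + w) c')
    (hw : w ∈ flag b j) (h2 : C.T (b i) (a + w) c' ∈ H) : C.T (b i) a c ∈ H := by
  refine (mul_mem_cancel_right h2).1 (h1 ?_)
  have k3 := k1.add k2
  rw [C.T_mul k1 k2]
  rw [← add_assoc, h.vadd_self, zero_add] at k3 ⊢
  exact TDk h hb k3 (by omega) hw l (by omega)

theorem cm_T {g : S} {e a : V} {c : K} (k : TOk P e a c) (hg : C.act g e = e) :
    ∃ d, TOk P e (C.act g a - a) d ∧ ⁅g, C.T e a c⁆ = C.T e (C.act g a - a) d := by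
  have k1 := k.act C g
  rw [hg] at k1
  exact ⟨_, sub_eq_add_neg (C.act g a) a ▸ k1.add (k.neg C), by
    rw [commutatorElement_def, C.T_conj g k, hg, C.T_inv k, C.T_mul k1 (k.neg C), sub_eq_add_neg]⟩

theorem diag {i : Fin m} (e : (i : ℕ) + i + 1 ≠ m) {l : K} (l0 : l ≠ 0) (hl : σ l = l) :
    ∃ s ∈ normalizer (Ub C b : Set S), C.act s (b i) = l • b i ∧
      ∀ j : Fin m, j ≠ i → j ≠ i.rev → C.act s (b j) = b j := by
  obtain ⟨s, -, h1, h2, h3⟩ := h.exists_diag1 (h.hp_iff.2 ⟨iso h hb e, iso h hb (i := i.rev) (by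
    have := Fin.val_rev i; omega), by rw [hb, if_pos rfl]⟩) l0 hl
  have h4 : ∀ j : Fin m, j ≠ i → j ≠ i.rev → C.act s (b j) = b j := fun j a c =>
    h3 _ (by rw [hb, if_neg c]) (by rw [hb, Fin.rev_rev, if_neg a])
  have h5 : ∀ j, ∃ x : K, x ≠ 0 ∧ C.act s (b j) = x • b j := fun j => by
    by_cases a : j = i
    · exact ⟨l, l0, a ▸ h1⟩
    by_cases c : j = i.rev
    · exact ⟨l⁻¹, inv_ne_zero l0, c ▸ h2⟩
    · exact ⟨1, one_ne_zero, by rw [h4 j a c, one_smul]⟩
  have h6 := pres fun j => (h5 j).imp fun _ k => k.2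
  have h7 := pres (s := s⁻¹) fun j => by
    obtain ⟨x, x0, e⟩ := h5 j
    exact ⟨x⁻¹, C.inv_apply_eq (by rw [map_smul, e, smul_smul, inv_mul_cancel₀ x0, one_smul])⟩
  refine ⟨s, Tech.mem_normalizer_of_forall fun u hu => (mem_Ub b).2 ((mem_Nh b).2 fun n v hv => ?_), h1, h4⟩
  rw [nu_apply, C.mul_apply, C.mul_apply, ← C.apply_inv s v, C.inv_apply, ← map_sub]
  exact h6 _ _ ((mem_Nh b).1 ((mem_Ub b).1 hu) n _ (h7 n v hv))

omit hb in
theorem exists_l (hq : ¬ Small σ) : ∃ l : K, σ l = l ∧ l ≠ 0 ∧ 1 + l ≠ 0 := by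
  by_contra k
  exact hq fun c hc => by_contra fun k' => k ⟨c, hc, (not_or.1 k').1, fun e => (not_or.1 k').2 (by
    linear_combination e - h.add_self 1)⟩

theorem fpf (hq : ¬ Small σ) {H : Subgroup S} (hH : ∀ l ∈ normalizer (Ub C b : Set S), ∀ u ∈ Ub C b,
    l * u * l⁻¹ * u⁻¹ ∈ H) : Ub C b ≤ H := by
  obtain ⟨l, hl, l0, l1⟩ := exists_l h hq
  refine D_one.ge.trans (down fun k hk ih => layer h hb hk ih (fun i j μ c lt e hc => ?_) fun i r e hr => ?_)
  · obtain ⟨s, hs, h1, h2⟩ := diag h hb (i := i) (by omega) l0 hl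
    obtain ⟨d, hd⟩ := tokb h hb (i := i) (j := j) (by omega) (by omega) (μ * (1 + l)⁻¹)
    have := hH s hs _ (TDk h hb hd hk (Submodule.smul_mem _ _ (b_mem (Nat.lt_succ_self _))) (by omega) (by omega)).1
    have k1 : TOk P (b i) (σ l • (μ * (1 + l)⁻¹) • b j) (l * σ l * d) := h.tok.2 ⟨hc.sing.self_eq, by
      rw [P.B_smul_right, hd.perp, mul_zero], by
      rw [P.B_smul_left, P.B_smul_right, ← hd.trace C, map_mul, map_mul, P.σσ]; ring⟩
    have k2 := k1.add (hd.neg C)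
    rw [C.T_conj s hd, h1, map_smul, h2 j lt.ne' (fun k => by
      have := congrArg Fin.val k; have := Fin.val_rev i; omega), C.T_smul_left hd, C.T_inv hd,
      C.T_mul k1 (hd.neg C)] at this
    have e' : σ l • (μ * (1 + l)⁻¹) • b j + -((μ * (1 + l)⁻¹) • b j) = μ • b j + 0 := by
      rw [neg_eq_of_add_eq_zero_right (h.vadd_self _), smul_smul, ← add_smul, hl, add_zero]
      congr 1; field_simp; ring
    rw [e'] at k2 this
    exact red h hb ih lt e hc k2 (zero_mem _) this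
  · obtain ⟨s, hs, h1, -⟩ := diag h hb (i := i) (by omega) l0 hl
    have hr' : σ (r * ((1 + l) * (1 + l))⁻¹) = r * ((1 + l) * (1 + l))⁻¹ := by simp [hr, hl]
    have z := iso h hb (i := i) (by omega)
    have hd := h.tok0 z hr'
    have := hH s hs _ (TDk h hb hd hk (zero_mem _) (Nat.lt_succ_self _) (by omega)).1
    rw [C.T_conj s hd, h1, map_zero, C.T_smul_left hd, smul_zero, C.T_inv hd, neg_zero,
      C.T_mul (h.tok0 z (by rw [map_mul, map_mul, hr', hl, hl])) (h.tok0 z (by rw [hr', hr'])), hr', hl] at this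
    convert this using 2
    · rw [add_zero]
    · rw [map_zero, add_zero]; field_simp; linear_combination r * h.add_self l

theorem gr (hq : ¬ Small σ) {J : Subgroup S} (h2 : ∀ a ∈ Ub C b, ∀ a' ∈ Ub C b, a ∉ J → a' ∉ J → a * a' ∈ J) :
    D C b 2 ≤ ⁅J, J⁆ := by
  obtain ⟨l, hl, l0, l1⟩ := exists_l h hq
  refine down fun k hk ih => layer h hb (by omega) ih (fun i j μ c lt e hc => ?_) fun i r e hr => ?_
  · obtain ⟨a, ha⟩ : ∃ a : Fin m, (a : ℕ) = i + 1 := ⟨⟨i + 1, by omega⟩, rfl⟩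
    have ra := Fin.val_rev a
    have lt' : (i : ℕ) < j := lt
    have zi := iso h hb (i := i) (by omega)
    have tk : ∀ s : K, TOk P (b i) (s • b a.rev) 0 := fun s => h.tok1 zi (by
      rw [P.B_smul_left, P.B_smul_right, iso h hb (by omega), mul_zero, mul_zero]) (by
      rw [P.B_smul_right, perp h hb (by omega), mul_zero]) (map_zero σ)
    have xU : ∀ s : K, C.T (b i) (s • b a.rev) 0 ∈ Ub C b := fun s => (TDk h hb (tk s) one_pos
      (Submodule.smul_mem _ _ (b_mem (Nat.lt_succ_self _))) (by omega) (by omega)).1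
    have xa : ∀ s s' : K, C.T (b i) (s • b a.rev) 0 * C.T (b i) (s' • b a.rev) 0 = C.T (b i) ((s + s') • b a.rev) 0 :=
      fun s s' => by
        rw [C.T_mul (tk s) (tk s'), add_smul, P.B_smul_left, P.B_smul_right, iso h hb (by omega)]; simp
    let R : S → K → Prop := fun y ρ => y ∈ Ub C b ∧ C.act y (b i) = b i ∧ C.act y (b a.rev) - b a.rev - ρ • b j ∈ flag b j
    have Rm : ∀ y ρ y' ρ', R y ρ → R y' ρ' → R (y * y') (ρ + ρ') := fun y ρ y' ρ' k1 k2 =>
      ⟨mul_mem k1.1 k2.1, by rw [C.mul_apply, k2.2.1, k1.2.1], by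
        have := add_mem (add_mem (stay k1.1 k2.2.2) k1.2.2)
          (Submodule.smul_mem _ ρ' (move k1.1 (b_mem (Nat.lt_succ_self (j : ℕ)))))
        convert this using 1
        rw [C.mul_apply, map_sub, map_sub, map_smul]; module⟩
    have Rx : ∀ s : K, R (C.T (b i) (s • b a.rev) 0) 0 := fun s => ⟨xU s, C.T_self (tk s), by
      rw [C.T_perp (tk s) (perp h hb (by omega)), zero_smul, sub_zero, add_sub_cancel_left]
      exact Submodule.smul_mem _ _ (b_mem lt)⟩
    have Rg : ∀ ρ : K, σ ρ = ρ → ∃ y, R y ρ := fun ρ hρ => by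
      have za := iso h hb (i := a) (by omega)
      by_cases e' : a = j
      · subst e'
        have hd := h.tok0 za hρ
        refine ⟨_, (TDk h hb hd one_pos (zero_mem _) (Nat.lt_succ_self _) (by omega)).1,
          C.T_fix hd (perp h hb (by omega)) (by simp), ?_⟩
        rw [h.T_app hd, hb, if_pos rfl, hρ]
        simp
      · have : (a : ℕ) ≠ j := fun k => e' (Fin.ext k)
        obtain ⟨d, hd⟩ := tokb h hb (i := a) (j := j) (by omega) (by omega) ρ
        refine ⟨_, (TDk h hb hd one_pos (Submodule.smul_mem _ _ (b_mem (Nat.lt_succ_self _))) (by omega) (by omega)).1,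
          C.T_fix hd (perp h hb (by omega)) (by rw [P.B_smul_left, perp h hb (by omega), mul_zero]), ?_⟩
        rw [h.T_app hd, hb, if_pos rfl, one_smul, add_assoc, add_sub_cancel_left, add_sub_cancel_right]
        exact Submodule.smul_mem _ _ (b_mem (by omega))
    let A : K → Prop := fun μ => ∃ w ∈ flag b j, ∃ d, TOk P (b i) (μ • b j + w) d ∧ C.T (b i) (μ • b j + w) d ∈ ⁅J, J⁆
    have key : ∀ y ∈ J, ∀ ρ s, R y ρ → C.T (b i) (s • b a.rev) 0 ∈ J → A (s * ρ) := fun y hy ρ s k1 k2 => by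
      obtain ⟨d, k3, k4⟩ := cm_T h hb (tk s) k1.2.1
      have e' : C.act y (s • b a.rev) - s • b a.rev = (s * ρ) • b j + s • (C.act y (b a.rev) - b a.rev - ρ • b j) := by
        rw [map_smul]; module
      rw [e'] at k3 k4
      exact ⟨_, Submodule.smul_mem _ _ k1.2.2, d, k3, k4 ▸ commutator_mem_commutator hy k2⟩
    suffices A μ from this.elim fun w ⟨k1, d, k2, k3⟩ => red h hb ih lt e hc k2 k1 k3
    by_cases k : ∀ s : K, C.T (b i) (s • b a.rev) 0 ∈ J
    · obtain ⟨y, hy, ρ, ρ0, k1⟩ : ∃ y ∈ J, ∃ ρ, ρ ≠ 0 ∧ R y ρ := by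
        obtain ⟨y, k1⟩ := Rg 1 (map_one σ)
        obtain ⟨y', k2⟩ := Rg l hl
        by_cases a1 : y ∈ J
        · exact ⟨y, a1, 1, one_ne_zero, k1⟩
        by_cases a2 : y' ∈ J
        · exact ⟨y', a2, l, l0, k2⟩
        · exact ⟨_, h2 y k1.1 y' k2.1 a1 a2, _, l1, Rm _ _ _ _ k1 k2⟩
      have := key y hy ρ (μ * ρ⁻¹) k1 (k _)
      rwa [inv_mul_cancel_right₀ ρ0] at this
    obtain ⟨s0, k⟩ := not_forall.1 k
    refine span_of hl l0 l1 (A0 := fun s => C.T (b i) (s • b a.rev) 0 ∈ J)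
      (fun s s' k1 k2 => xa s s' ▸ h2 _ (xU s) _ (xU s') k1 k2) (fun s ρ k1 hρ => ?_) μ
    obtain ⟨y, k2⟩ := Rg ρ hρ
    by_cases a1 : y ∈ J
    · exact key y a1 ρ s k2 k1
    · exact key _ (h2 _ (xU s0) y k2.1 k a1) ρ s (zero_add ρ ▸ Rm _ _ _ _ (Rx s0) k2) k1
  · obtain ⟨a, ha⟩ : ∃ a : Fin m, (a : ℕ) = i + 1 := ⟨⟨i + 1, by omega⟩, rfl⟩
    have ra := Fin.val_rev a
    let A : Fin m → K → Prop := fun j s => ∃ c, TOk P (b i) (s • b j) c ∧ C.T (b i) (s • b j) c ∈ J
    have hA : ∀ j : Fin m, (i : ℕ) ≤ j → (i : ℕ) + j + 2 ≤ m → ∀ s s', ¬ A j s → ¬ A j s' → A j (s + s') :=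
      fun j k0 k s s' k1 k2 => by
        obtain ⟨c, hc⟩ := tokb h hb (i := i) (j := j) (by omega) (by omega) s
        obtain ⟨c', hc'⟩ := tokb h hb (i := i) (j := j) (by omega) (by omega) s'
        have := h2 _ (TDk h hb hc one_pos (Submodule.smul_mem _ _ (b_mem (Nat.lt_succ_self _))) (by omega) (by omega)).1
          _ (TDk h hb hc' one_pos (Submodule.smul_mem _ _ (b_mem (Nat.lt_succ_self _))) (by omega) (by omega)).1
          (fun e => k1 ⟨c, hc, e⟩) fun e => k2 ⟨c', hc', e⟩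
        rw [C.T_mul hc hc'] at this
        exact ⟨_, add_smul s s' (b j) ▸ hc.add hc', add_smul s s' (b j) ▸ this⟩
    have h3 := hA a (by omega) (by omega)
    have h4 := hA a.rev (by omega) (by omega)
    obtain ⟨θ, hθ⟩ := h.herm.exists_trace_one
    have key : ∀ s, s ≠ 0 → A a.rev s → ∀ ρ, σ ρ = ρ → A a ((σ s)⁻¹ * (r * θ + ρ)) → C.T (b i) 0 r ∈ ⁅J, J⁆ :=
      fun s s0 ⟨c, hc, k1⟩ ρ hρ ⟨c', hc', k2⟩ => by
        have := commutator_mem_commutator k1 k2
        have s1 : σ s ≠ 0 := (map_ne_zero σ).2 s0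
        rw [C.T_commutator hc hc', P.B_smul_left, P.B_smul_right, P.B_smul_left, P.B_smul_right, hb, hb, if_pos rfl,
          if_pos (Fin.rev_rev a).symm, map_mul, map_inv₀, P.σσ, map_add, map_mul, hr, hρ] at this
        convert this using 2
        field_simp
        linear_combination (-r) * hθ + h.add_self (r * θ)
    by_cases k : ∀ s, A a.rev s → ∀ ρ, σ ρ = ρ → A a (s * ρ)
    · have k' := span_of hl l0 l1 h4 fun s ρ k1 k2 => k s k1 ρ k2
      by_cases a1 : A a.rev 1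
      · exact key 1 one_ne_zero a1 0 (map_zero σ) (k' _)
      by_cases a2 : A a.rev l
      · exact key l l0 a2 0 (map_zero σ) (k' _)
      · exact key _ l1 (h4 _ _ a1 a2) 0 (map_zero σ) (k' _)
    push Not at k
    obtain ⟨s, k1, ρ, hρ, k2⟩ := k
    have s0 : s ≠ 0 := fun e => k2 ⟨0, by
      rw [e, zero_mul, zero_smul]
      have := h.tok0 (iso h hb (i := i) (by omega)) (map_zero σ)
      exact ⟨this, by rw [C.T_zero this.sing]; exact one_mem _⟩⟩
    have s1 : σ s ≠ 0 := (map_ne_zero σ).2 s0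
    by_cases a1 : A a ((σ s)⁻¹ * (r * θ + 0))
    · exact key s s0 k1 0 (map_zero σ) a1
    · refine key s s0 k1 (σ s * s * ρ) (by rw [map_mul, map_mul, P.σσ, hρ]; ring) ?_
      convert h3 _ _ a1 k2 using 1
      field_simp; ring

theorem fix2 (hm : 4 ≤ m) {v : V} (hv : ∀ u ∈ Ub C b, C.act u v - v ∈ flag b 1) : v ∈ flag b 2 := by
  obtain ⟨i, hi⟩ : ∃ i : Fin m, (i : ℕ) = 0 := ⟨⟨0, by omega⟩, rfl⟩
  obtain ⟨j, hj⟩ : ∃ j : Fin m, (j : ℕ) = 1 := ⟨⟨1, by omega⟩, rfl⟩
  have ij : i ≠ j := fun e => by have := congrArg Fin.val e; omega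
  have zj := iso h hb (i := j) (by omega)
  have h1 : b.repr v i.rev = 0 := by
    obtain ⟨c, hc⟩ := tokb h hb (i := i) (j := j) (by omega) (by omega) 1
    have := (mem_flag b).1 (hv _ (TDk h hb hc one_pos (Submodule.smul_mem _ _ (b_mem (Nat.lt_succ_self _)))
      (by omega) (by omega)).1) j (by omega)
    rw [h.T_app hc] at this
    simpa [B_bas hb, ij, add_assoc] using this
  have h2 : b.repr v j.rev = 0 := by
    have hc := h.tok0 zj (map_one σ)
    have := (mem_flag b).1 (hv _ (TDk h hb hc one_pos (zero_mem _) (Nat.lt_succ_self _) (by omega)).1) j (by omega)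
    simpa [h.T_app hc, B_bas hb] using this
  refine (mem_flag b).2 fun q hq => ?_
  have rq := Fin.val_rev q
  by_cases e1 : q = i.rev
  · rw [e1, h1]
  by_cases e2 : q = j.rev
  · rw [e2, h2]
  have e3 : (q : ℕ) + 1 ≠ m := fun e => e1 (Fin.ext (by rw [Fin.val_rev]; omega))
  have e4 : (q : ℕ) + 2 ≠ m := fun e => e2 (Fin.ext (by rw [Fin.val_rev]; omega))
  obtain ⟨c, hc⟩ := tokb h hb (i := j) (j := q.rev) (by omega) (by omega) 1
  have := (mem_flag b).1 (hv _ (TDk h hb hc one_pos (Submodule.smul_mem _ _ (b_mem (Nat.lt_succ_self _)))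
    (by omega) (by omega)).1) j (by omega)
  rw [h.T_app hc] at this
  simpa [B_bas hb, h2] using this

end SB

open SB

namespace Mod

variable (h : Mod C) {b : Basis (Fin (finrank K V)) K V} (hb : Bas P b)
include h hb

/-- the layer of height `k` is generated by root elements -/
theorem layer {k : ℕ} (hk : 0 < k) {H : Subgroup S} (h1 : ∀ s ∈ Ub C b, nu C s ∈ Nh b (k + 1) → s ∈ H)
    (h2 : ∀ (i j : Fin (finrank K V)) (μ c : K), i < j → (i : ℕ) + j + k + 1 = finrank K V →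
      TOk P (b i) (μ • b j) c → C.T (b i) (μ • b j) c ∈ H)
    (h3 : ∀ (i : Fin (finrank K V)) (r : K), (i : ℕ) + i + k + 1 = finrank K V → σ r = r →
      C.T (b i) 0 r ∈ H) {s : S} (hs : s ∈ Ub C b) (hs' : nu C s ∈ Nh b k) : s ∈ H :=
  SB.layer h hb hk (fun s hs => h1 s hs.1 hs.2) h2 h3 ⟨hs, hs'⟩

theorem comm_Ub {s : S} (hs : s ∈ ⁅Ub C b, Ub C b⁆) : nu C s ∈ Nh b 2 := by
  refine ((commutator_le (H₃ := D C b 2)).2 (fun u hu v hv => (mem_D two_pos).2 ?_) hs).2
  have e : nu C ⁅u, v⁆ = (nu C u * nu C v - nu C v * nu C u) * (1 + nu C (u⁻¹ * v⁻¹)) := LinearMap.ext fun x => by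
    have : x = C.act v (C.act u (C.act (u⁻¹ * v⁻¹) x)) := by
      rw [← C.mul_apply, ← C.mul_apply, mul_assoc, mul_inv_cancel_left, mul_inv_cancel, C.one_apply]
    rw [Module.End.mul_apply, LinearMap.add_apply, Module.End.one_apply, ← act_eq, nu_apply, commutatorElement_def,
      mul_assoc, C.mul_apply, C.mul_apply]
    conv_lhs => rw [this]
    simp only [LinearMap.sub_apply, Module.End.mul_apply, nu_apply, map_sub, ← this]
    abel
  have a := (mem_Ub b).1 hu
  have c := (mem_Ub b).1 hv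
  have d := sub_mem (Nh_mul b a c) (Nh_mul b c a)
  rw [e, mul_add, mul_one]
  exact add_mem d (Nh_anti b (Nat.le_add_right _ _) (Nh_mul b d ((mem_Ub b).1 (mul_mem (inv_mem hu) (inv_mem hv)))))

variable (hq : ¬ Small σ)
include hq

theorem fpf {H : Subgroup S} (hH : ∀ l ∈ normalizer (Ub C b : Set S), ∀ u ∈ Ub C b,
    l * u * l⁻¹ * u⁻¹ ∈ H) : Ub C b ≤ H := SB.fpf h hb hq hH

theorem gr1 {J : Subgroup S} (h1 : J ≤ Ub C b)
    (h2 : ∀ a ∈ Ub C b, ∀ a' ∈ Ub C b, a ∉ J → a' ∉ J → a * a' ∈ J) :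
    ⁅Ub C b, Ub C b⁆ ≤ ⁅J, J⁆ := fun _ hs => gr h hb hq h2 ((mem_D two_pos).2 (h.comm_Ub hb hs))

theorem gr2 {J : Subgroup S} (h1 : J ≤ Ub C b)
    (h2 : ∀ a ∈ Ub C b, ∀ a' ∈ Ub C b, a ∉ J → a' ∉ J → a * a' ∈ J) {α : RingAut K} {γ : AV V}
    (k : SI P α γ) (hα : ∀ c, α c = σ c)
    (hn : ∀ u ∈ Ub C b, ∃ u' ∈ Ub C b, ∀ v, C.act u' (γ v) = γ (C.act u v)) :
    ∃ u ∈ J, ∃ u', (∀ v, C.act u' (γ v) = γ (C.act u v)) ∧ u' * u⁻¹ ∉ ⁅Ub C b, Ub C b⁆ := by
  by_contra k'
  have hm := h.d4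
  obtain ⟨l, hl, l0, l1⟩ := exists_l h hq
  obtain ⟨i, hi⟩ : ∃ i : Fin (finrank K V), (i : ℕ) = 0 := ⟨⟨0, by omega⟩, rfl⟩
  obtain ⟨j, hj⟩ : ∃ j : Fin (finrank K V), (j : ℕ) = 1 := ⟨⟨1, by omega⟩, rfl⟩
  have rj := Fin.val_rev j
  have ij : i ≠ j := fun e => by have := congrArg Fin.val e; omega
  have f1 : ∀ v ∈ flag b 1, v = b.repr v i • b i := fun v hv => b.ext_elem fun q => by
    by_cases e : i = q
    · simp [e]
    · simp [e, (mem_flag b).1 hv q (by have : (i : ℕ) ≠ q := fun k => e (Fin.ext k); omega)]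
  have f2 : ∀ v ∈ flag b 2, v = b.repr v i • b i + b.repr v j • b j := fun v hv => b.ext_elem fun q => by
    by_cases e : i = q
    · simp [← e, ij.symm]
    by_cases e' : j = q
    · simp [← e', ij]
    · have : (i : ℕ) ≠ q := fun k => e (Fin.ext k)
      have : (j : ℕ) ≠ q := fun k => e' (Fin.ext k)
      simp [e, e', (mem_flag b).1 hv q (by omega)]
  have ui : ∀ u ∈ Ub C b, C.act u (b i) = b i := fun u hu => by
    have := move hu (b_mem (j := i) (n := 0 + 1) (by omega))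
    rwa [flag, show {j : Fin (finrank K V) | (j : ℕ) < 0} = ∅ by simp, Set.image_empty, Submodule.span_empty,
      Submodule.mem_bot, sub_eq_zero] at this
  have uj : ∀ u ∈ Ub C b, C.act u (b j) = b j + b.repr (nu C u (b j)) i • b i := fun u hu => by
    rw [← f1 (nu C u (b j)) (move hu (b_mem (by omega))), ← act_eq]
  have tk : ∀ s : K, TOk P (b i) (σ s • b j.rev) 0 := fun s => h.tok1 (iso h hb (by omega)) (by
    rw [P.B_smul_left, P.B_smul_right, iso h hb (by omega), mul_zero, mul_zero]) (by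
    rw [P.B_smul_right, perp h hb (by omega), mul_zero]) (map_zero σ)
  have xU : ∀ s : K, C.T (b i) (σ s • b j.rev) 0 ∈ Ub C b := fun s => (TDk h hb (tk s) one_pos
    (Submodule.smul_mem _ _ (b_mem (Nat.lt_succ_self _))) (by omega) (by omega)).1
  have xe : ∀ s : K, b.repr (nu C (C.T (b i) (σ s • b j.rev) 0) (b j)) i = s := fun s => by
    have : j ≠ i.rev := fun e => by have := congrArg Fin.val e; have := Fin.val_rev i; omega
    simp [nu_T h hb (tk s), this, P.σσ]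
  obtain ⟨v, hv⟩ := γ.surjective (b i)
  obtain ⟨w, hw⟩ := γ.surjective (b j)
  have uv : ∀ u ∈ Ub C b, C.act u v = v := fun u hu => by
    obtain ⟨u', k1, k2⟩ := hn u hu
    exact γ.injective (by rw [← k2, hv, ui u' k1])
  have uw : ∀ u u', u' ∈ Ub C b → (∀ v, C.act u' (γ v) = γ (C.act u v)) →
      C.act u w = w + σ (b.repr (nu C u' (b j)) i) • v := fun u u' k1 k2 =>
    γ.injective (by rw [← k2, hw, uj u' k1, map_add, k.semi, hα, P.σσ, hv, hw])
  have v2 := f2 v (fix2 h hb hm fun u hu => by rw [uv u hu, sub_self]; exact zero_mem _)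
  have act2 : ∀ u ∈ Ub C b, ∀ x y : K, C.act u (x • b i + y • b j) =
      x • b i + y • b j + (y * b.repr (nu C u (b j)) i) • b i := fun u hu x y => by
    rw [map_add, map_smul, map_smul, ui u hu, uj u hu]; module
  have v1 : b.repr v j = 0 := by
    have := uv _ (xU 1)
    rw [v2, act2 _ (xU 1), xe, mul_one, add_eq_left] at this
    exact (smul_eq_zero.1 this).resolve_right (b.ne_zero i)
  rw [v1, zero_smul, add_zero] at v2
  have w2 := f2 w (fix2 h hb hm fun u hu => by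
    obtain ⟨u', k1, k2⟩ := hn u hu
    rw [uw u u' k1 k2, add_sub_cancel_left, v2]
    exact Submodule.smul_mem _ _ (Submodule.smul_mem _ _ (b_mem (by omega))))
  have main : ∀ s, b.repr w j * s = σ s * b.repr v i := span_of hl l0 l1
    (A0 := fun s => ∃ u ∈ J, b.repr (nu C u (b j)) i = s) (fun s s' k1 k2 => ⟨_, h2 _ (xU s) _ (xU s')
      (fun e => k1 ⟨_, e, xe s⟩) fun e => k2 ⟨_, e, xe s'⟩, by
        rw [ent_mul one_pos ((mem_Ub b).1 (xU s)) ((mem_Ub b).1 (xU s')) (by omega), xe, xe]⟩) (by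
    rintro _ ρ ⟨u, hu, rfl⟩ hρ
    obtain ⟨u', k1, k2⟩ := hn u (h1 hu)
    have k3 := h.comm_Ub hb (by_contra fun e => k' ⟨u, hu, u', k2, e⟩) i j (by omega)
    have k4 := ent_mul (s := u' * u⁻¹) one_pos ((mem_Ub b).1 (mul_mem k1 (inv_mem (h1 hu)))) ((mem_Ub b).1 (h1 hu))
      (p := i) (q := j) (by omega)
    rw [inv_mul_cancel_right, k3, zero_add] at k4
    have k5 := uw u u' k1 k2
    rw [w2, act2 u (h1 hu), add_right_inj, k4, v2, smul_smul] at k5
    have k6 := smul_left_injective K (b.ne_zero i) k5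
    rw [map_mul, hρ]
    linear_combination ρ * k6)
  obtain ⟨x, hx⟩ := h.herm.exists_ne_conj
  have m1 := main 1
  rw [map_one, mul_one, one_mul] at m1
  have m2 := main x
  rw [m1, mul_comm] at m2
  refine b.ne_zero i ?_
  rw [← hv, v2, (mul_eq_mul_right_iff.1 m2).resolve_left hx.symm, zero_smul, map_zero]

end Mod

end CfsgLib.UN
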