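import Cfsg.Agent.Lib.UN.Line
import Cfsg.Agent.Lib.UN.Inv
import Cfsg.Agent.Lib.SLE.NG
import Cfsg.Agent.Lib.UFP.NU

/-! The normaliser of the group generated by the hats -/

set_option autoImplicit false
set_option linter.unusedSectionVars false

namespace CfsgLib.UN

open Subgroup Module CfsgLib.Forms CfsgLib.LieMult
open CfsgLib.HX (Std CO Two Mv Tr LR Heis NF Fus4 Has4 M2)
open Submodule (span)
open scoped commutatorElement Pointwise

universe u

variable {K : Type} [Field K] [Finite K] {σ : K →+* K} {V : Type} [AddCommGroup V] [Module K V]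
  [FiniteDimensional K V] {P : PQ σ V} {S : Type} [Group S] [Finite S] {G : Type u} [Group G]
  [Finite G] {C : CG P S} {φ : S →* G} {t : G}

theorem TD.iso_of {H R E Gs G₁ : Subgroup G} (h : TD H R E t) (hG : SLE.Glob Gs t) (hL : H ≤ Gs) (ht : t ∉ Gs)
    (h4 : ∀ e ∈ E, ∃ p ∈ Gs, p * p = 1 ∧ CO H t p ∧ p ∈ centralizer (R : Set G) ∧ p * t * p⁻¹ = t * e) :
    UFP.Iso G₁ t R := by
  have := hG.nrm
  have h0 := h.ER
  have h1 := h.RH
  have h2 := h.sq
  have dec : ∀ g ∈ Gs, g ∈ centralizer (R : Set G) → g * t = t * g → ∃ e ∈ E,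
      ∃ o ∈ centralizer (H : Set G), o * t = t * o ∧ Odd (orderOf o) ∧ g = e * o := fun g g1 g2 g3 => by
    obtain ⟨e, he, c, hc, rfl⟩ := h.cR g g3 g2
    have eL := h1 (h0 he)
    obtain ⟨o, o1, o2, o3, rfl | rfl⟩ := h.two'.dec hc (mul_left_cancel (a := e) (by
      rw [← mul_assoc, g3, ← mul_assoc, ← mul_assoc, h.tC e eL]))
    · exact ⟨e, he, c, hc, o2, o3, rfl⟩
    · exact absurd ((Gs.mul_mem_cancel_right (hG.mem_of_odd o3 (by rw [pow_orderOf_eq_one]; exact one_mem _))).1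
        ((Gs.mul_mem_cancel_left (hL eL)).1 g1)) ht
  have key : ∀ k, ∀ d ∈ Gs, d ∈ centralizer (R : Set G) → d * t * d = t → d ^ 2 ^ k = 1 → d ∈ E := by
    intro k
    induction k with
    | zero => intro d _ _ _ e; rw [pow_zero, pow_one] at e; exact e ▸ one_mem _
    | succ k ih =>
      intro d d1 d2 d3 d4
      have hd := ih (d * d) (mul_mem d1 d1) (mul_mem d2 d2) (by
        rw [show d * d * t * (d * d) = d * (d * t * d) * d by group, d3, d3]) (by
        rw [← pow_two, ← pow_mul, ← pow_succ', d4])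
      have dd : d * d = 1 := by
        obtain ⟨p, p1, p2, p3, p4, p5⟩ := h4 _ hd
        obtain ⟨e, he, o, o1, o2, o3, e1⟩ := dec (p⁻¹ * d) (mul_mem (inv_mem p1) d1) (mul_mem (inv_mem p4) d2) (by
            rw [eq_inv_of_mul_eq_one_left (h2 _ hd)] at p5
            calc _ = p⁻¹ * (d * t * d * (d * d)⁻¹) * d := by group
              _ = _ := by rw [d3, ← p5]; group)
        have c1 : Commute e p := p4 e (h0 he)
        have c2 : Commute p o := p3 o o1 o2 o3
        have c3 : Commute e o := o1 e (h1 (h0 he))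
        have e2 : d * d = o * o := by
          rw [inv_mul_eq_iff_eq_mul.1 e1, ← pow_two, (c1.symm.mul_right c2).mul_pow, c3.mul_pow, pow_two, pow_two,
            pow_two, p2, h2 e he, one_mul, one_mul]
        have := h2 _ hd
        rw [e2] at this ⊢
        exact UFP.eq_one_of_odd (UFP.pgroup_zpowers_of_sq this) (mem_zpowers _) o3 (by
          rw [← pow_two, ← pow_mul, mul_comm, pow_mul, pow_orderOf_eq_one, one_pow])
      obtain ⟨e, he, o, o1, o2, o3, rfl⟩ := dec d d1 d2 (by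
        rw [← d3, mul_assoc (d * t), dd, mul_one, d3])
      rw [← pow_two, (show Commute e o from o1 e (h1 (h0 he))).mul_pow, pow_two, pow_two, h2 e he, one_mul] at dd
      rwa [UFP.eq_one_of_odd (UFP.pgroup_zpowers_of_sq dd) (mem_zpowers _) o3 (pow_orderOf_eq_one o), mul_one]
  intro m _ hm P hP _ p1 p2
  have tR : t ∈ centralizer (R : Set G) := centralizer_le h1 h.tC
  obtain ⟨k, hk⟩ := hP ⟨_, mul_mem (inv_mem p1) p2⟩
  refine h0 (key k _ ?_ (mul_mem (inv_mem tR) (mul_mem (mul_mem hm tR) (inv_mem hm))) ?_ (congrArg Subtype.val hk))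
  · simpa [commutatorElement_def, mul_assoc] using
      hG.comm_le (commutator_mem_commutator (mem_top t⁻¹) (mem_top m))
  · rw [show t⁻¹ * (m * t * m⁻¹) * t * (t⁻¹ * (m * t * m⁻¹)) = t⁻¹ * (m * (t * t) * m⁻¹) by group, h.t2,
      inv_eq_of_mul_eq_one_right h.t2]; group

theorem top_ne {e f : V} (k : HP P e f) : e ≠ 0 := fun e0 => by simpa [e0] using k.ef

theorem top_not_mem {e f e' f' : V} (k : HH P e f e' f') : e' ∉ span K {e} := fun e0 => by
  obtain ⟨l, rfl⟩ := Submodule.mem_span_singleton.1 e0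
  simpa [k.ef] using k.h₂.ef

theorem top_orth {U : Submodule K V} (hU : TI P U) {a b : V} (ha : a ∈ U) (hb : b ∈ U) : P.B a b = 0 := hU hb a ha

theorem top_fix_anti {U U' : Submodule K V} (h : U ≤ U') : C.fixG U' ≤ C.fixG U := fun _ hs v hv => hs v (h hv)

theorem top_rad_le_stb {U U' : Submodule K V} (hU : TI P U') (h : U ≤ U') : Rad C U ≤ Stb C U' := by
  have k : ∀ s ∈ Rad C U, ∀ v ∈ U', C.act s v ∈ U' := fun s hs v hv => by
    simpa using add_mem (h (hs.2 v (P.perp_anti h (hU hv)))) hv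
  exact fun s hs v => ⟨fun hv => by simpa [C.inv_apply] using k _ (inv_mem hs) _ hv, k s hs v⟩

theorem Mod.top_hh (h : Mod C) : ∃ e f e' f', HH P e f e' f' := by
  obtain ⟨e, -, f, -, k⟩ := h.exists_hp_perp (U := ⊥) disjoint_bot_left (by have := h.d4; simp; omega)
  exact ⟨e, f, h.exists_hh k⟩

theorem Mod.top_T_zero (h : Mod C) {a : V} {c : K} (k : TOk P 0 a c) : C.T 0 a c = 1 :=
  C.ext fun v => by simp [h.T_app k, C.one_apply]


namespace HL

variable {y : V → K → G} (h : HL C φ t y) {Gs : Subgroup G}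
include h

theorem top_L_le : φ.range ≤ G0 C φ y := le_sup_left

theorem top_Zh_le {p : V} (hp : P.B p p = 0) : Zh C φ y p ≤ G0 C φ y :=
  (closure_le _).2 (by
    rintro _ ⟨s, hs, rfl | rfl⟩
    exacts [h.top_L_le ⟨_, rfl⟩, h.y_mem hp hs])

theorem top_G0_le {H : Subgroup G} (hL : φ.range ≤ H) (hy : ∀ p s, p ≠ 0 → P.B p p = 0 → σ s = s → y p s ∈ H) :
    G0 C φ y ≤ H :=
  sup_le hL ((closure_le _).2 (by
    rintro _ ⟨p, s, hp, hs, rfl⟩
    by_cases h0 : p = 0
    · rw [h0, h.y_zero' hs]; exact one_mem H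
    · exact hy p s h0 hp hs))

theorem top_z_ne {p : V} (h0 : p ≠ 0) (hp : P.B p p = 0) : z C φ p 1 ≠ 1 := fun e => by
  simpa [h0] using (h.z_eq_one hp (map_one σ)).1 e


theorem cent_le {g : G} (hg : g * t = t * g) : g ∈ normalizer (G0 C φ y : Set G) := by
  obtain ⟨α, γ, k⟩ := h.exists_act (h.cN hg)
  refine mem_normalizer_fintype fun a ha => (h.top_G0_le (H := (G0 C φ y).comap (MulAut.conj g).toMonoidHom)
    (fun a ha => h.top_L_le (UFP.conj_mem (h.cN hg) ha)) fun p s h0 hp hs => ?_) ha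
  show g * y p s * g⁻¹ ∈ G0 C φ y
  have h0' : γ p ≠ 0 := by simpa using h0
  have hp' : P.B (γ p) (γ p) = 0 := by rw [k.B_eq, hp, map_zero]
  have hs' : σ (α s) = α s := by rw [← h.aut_comm, hs]
  have e1 : g * y p s * g⁻¹ * t * (g * y p s * g⁻¹)⁻¹ = t * z C φ (γ p) (α s) := by
    calc _ = g * (y p s * (g⁻¹ * (t * g)) * (y p s)⁻¹) * g⁻¹ := by group
      _ = g * t * g⁻¹ * (g * z C φ p s * g⁻¹) := by rw [← hg, inv_mul_cancel_left, (h.mv p s hp hs).pt]; group
      _ = _ := by rw [hg, mul_inv_cancel_right, h.act_z k hp hs]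
  rcases h.chr h0' hp' hs' (g := g * y p s * g⁻¹) (by
    rw [show g * y p s * g⁻¹ * (g * y p s * g⁻¹) = g * (y p s * y p s) * g⁻¹ by group, h.y_sq hp hs]; group)
    (fun q hq => by
      obtain ⟨a, c, hc, rfl⟩ := (h.mem_Q h0' hp').1 hq
      obtain ⟨k1, k2⟩ := h.act_x (h.act_inv k) hc
      rw [show γ⁻¹ (γ p) = p from γ.symm_apply_apply p] at k1 k2
      have k3 := (h.y_fix hp hs (C.T_self k1)).eq
      change x C φ _ _ _ * _ = _ * x C φ _ _ _ at k3
      rw [← k2] at k3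
      calc _ = g * (g⁻¹ * x C φ (γ p) a c * g⁻¹⁻¹ * y p s) * g⁻¹ := by group
        _ = _ := by rw [k3]; group) e1 with e | e
  · exact h.top_Zh_le hp' e
  · have c1 : Commute (g * y p s * g⁻¹) t := by
      obtain ⟨l, -, e⟩ := e
      rw [← inv_mul_cancel_left t (g * y p s * g⁻¹), ← e]
      exact (Commute.refl t).inv_left.mul_left (h.tφ l)
    rw [c1.eq, mul_inv_cancel_right, left_eq_mul, h.z_eq_one hp' hs', map_eq_zero] at e1
    rw [e1.resolve_left h0', h.y_zero hp]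
    simp

theorem t_norm : t ∈ normalizer (G0 C φ y : Set G) := by
  exact h.cent_le rfl

theorem cent_odd : Odd (Nat.card (centralizer (G0 C φ y : Set G))) := by
  obtain ⟨e, f, -, -, k, -⟩ := h.top_hh
  have he := (h.hp_iff.1 k).1
  refine SLE.odd_of_inv h.t2 (Core.normalizer_le_normalizer_centralizer _ h.t_norm) fun c hc c2 ct =>
    (h.invol_cent (centralizer_le h.top_L_le hc) ct c2).resolve_right fun e1 => ?_
  have := (h.mv e 1 he (map_one σ)).pt
  rw [e1] at hc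
  rw [hc _ (h.y_mem he (map_one σ)), mul_inv_cancel_right, left_eq_mul] at this
  exact h.top_z_ne (top_ne k) he this

theorem G0_eq {e : V} (h0 : e ≠ 0) (he : P.B e e = 0) : G0 C φ y = φ.range ⊔ Zh C φ y e := by
  refine le_antisymm (h.top_G0_le le_sup_left fun p s p0 hp hs => ?_) (sup_le h.top_L_le (h.top_Zh_le he))
  obtain ⟨l, rfl⟩ := h.trans h0 he p0 hp
  rw [← h.eqv l e s he hs]
  exact mul_mem (mul_mem_sup ⟨l, rfl⟩ (subset_closure ⟨s, hs, Or.inr rfl⟩)) (mem_sup_left (inv_mem ⟨l, rfl⟩))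

theorem G0_le {H : Subgroup G} (hH : G0 C φ y ≤ normalizer (H : Set G)) (hL : φ.range ≤ H) :
    G0 C φ y ≤ H := by
  refine h.top_G0_le hL fun p s p0 hp hs => ?_
  obtain ⟨f, k⟩ := h.exists_hp p0 hp
  obtain ⟨a, b, k⟩ := h.exists_hh k
  obtain ⟨θ, hθ⟩ := h.herm.exists_trace_one
  have ha := (h.hp_iff.1 k.h₂).1
  obtain ⟨d, hd⟩ := h.exists_tok (a := (s * θ) • b) hp (by simp [k.ef])
  have e := h.wx hp ha k.ee hd
  rw [show P.B a ((s * θ) • b) + P.B ((s * θ) • b) a = s by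
    simp only [map_smul, map_smulₛₗ, LinearMap.smul_apply, k.h₂.ef, k.h₂.fe, smul_eq_mul, map_mul, hs]
    linear_combination s * hθ] at e
  have m : x C φ p ((s * θ) • b) d ∈ H := hL ⟨_, rfl⟩
  have := mul_mem (UFP.conj_mem' (hH (h.w_mem hp ha k.ee)) m) (inv_mem m)
  rwa [mul_assoc _⁻¹, mul_assoc _⁻¹, e, inv_mul_cancel_left] at this

theorem G0_le_Gs (hG : SLE.Glob Gs t) (hL : φ.range ≤ Gs) : G0 C φ y ≤ Gs := by
  have := hG.nrm
  exact h.G0_le le_normalizer_of_normal hL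

/-- the hats of the elements of `E(U)` -/
theorem top_hat {U : Submodule K V} (hU : TI P U) {a : G} (ha : a ∈ Eg C φ U) :
    ∃ g ∈ G0 C φ y, g * g = 1 ∧ g ∈ centralizer (Yg C φ U : Set G) ∧ g * t * g⁻¹ = t * a := by
  let X : Set G := {g | ∃ p ∈ U, ∃ s, σ s = s ∧ g = y p s}
  have h1 : closure X ≤ centralizer (closure X : Set G) := by
    rw [centralizer_closure, closure_le]
    rintro _ ⟨p, hp, s, hs, rfl⟩ _ ⟨p', hp', s', hs', rfl⟩
    exact h.com _ _ _ _ (top_orth hU hp' hp') (top_orth hU hp hp) (top_orth hU hp' hp) hs' hs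
  have h2 : ∀ g ∈ closure X, g * g = 1 := fun g hg => by
    induction hg using closure_induction with
    | mem _ hx => obtain ⟨p, hp, s, hs, rfl⟩ := hx; exact h.y_sq (top_orth hU hp hp) hs
    | one => exact one_mul 1
    | mul a b ha hb ea eb => rw [mul_assoc, ← mul_assoc b, h1 ha b hb, mul_assoc, eb, mul_one, ea]
    | inv a _ ea => rw [← mul_inv_rev, ea, inv_one]
  have h3 : closure X ≤ G0 C φ y ⊓ centralizer (Yg C φ U : Set G) := (closure_le _).2 (by
    rintro _ ⟨p, hp, s, hs, rfl⟩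
    refine ⟨h.y_mem (top_orth hU hp hp) hs, ?_⟩
    rintro _ ⟨l, hl, rfl⟩
    exact h.y_fix (top_orth hU hp hp) hs (hl p hp))
  suffices ∃ g ∈ closure X, g * t * g⁻¹ = t * a by
    obtain ⟨g, hg, e⟩ := this
    exact ⟨g, (h3 hg).1, h2 g hg, (h3 hg).2, e⟩
  obtain ⟨a, ha, rfl⟩ := ha
  have h4 := h.E_eq hU
  rw [SetLike.mem_coe, h4] at ha
  induction ha using closure_induction with
  | mem _ hx =>
    obtain ⟨p, hp, s, hs, rfl⟩ := hx
    exact ⟨_, subset_closure ⟨p, hp, s, hs, rfl⟩, (h.mv p s (top_orth hU hp hp) hs).pt⟩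
  | one => exact ⟨1, one_mem _, by simp⟩
  | mul a b _ hb ea eb =>
    obtain ⟨g, hg, ea⟩ := ea
    obtain ⟨g', hg', eb⟩ := eb
    have := (h3 hg).2 (φ b) ⟨b, rad_le_fix U (h.E_le_rad hU (h4 ▸ hb)), rfl⟩
    refine ⟨g * g', mul_mem hg hg', ?_⟩
    calc _ = g * (g' * t * g'⁻¹) * g⁻¹ := by group
      _ = g * t * g⁻¹ * (g * φ b) * g⁻¹ := by rw [eb]; group
      _ = _ := by rw [ea, ← this, map_mul]; group
  | inv a ha ea => rwa [inv_eq_of_mul_eq_one_right (h.E_sq hU (h4 ▸ ha))]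


theorem fus4 : Fus4 φ.range t := by
  obtain ⟨e, f, e', f', k⟩ := h.top_hh
  have he := (h.hp_iff.1 k.h₁).1
  have he' := (h.hp_iff.1 k.h₂).1
  have hU : TI P (span K {e, e'}) := ti_span.2 (by simp [he, he', k.ee, P.B_eq_zero_comm.1 k.ee])
  have m : ∀ p ∈ ({e, e'} : Set V), C.T p 0 1 ∈ C.fixG (P.perp (span K {e, e'})) := fun p hp =>
    h.T_mem_E hU (h.tok0 (top_orth hU (Submodule.subset_span hp) (Submodule.subset_span hp)) (map_one σ))
      (Submodule.subset_span hp) (zero_mem _)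
  have m1 := m e (by simp)
  have m2 := m e' (by simp)
  have c := fun s hs => rad_le_fix _ (h.E_le_rad hU (x := s) hs)
  refine ⟨z C φ e 1, ⟨_, rfl⟩, z C φ e' 1, ⟨_, rfl⟩, h.z_sq he (map_one σ), h.z_sq he' (map_one σ),
    (show Commute _ _ from h.E_cent hU m2 _ (c _ m1)).map φ, h.top_z_ne (top_ne k.h₁) he,
    h.top_z_ne (top_ne k.h₂) he', fun e1 => top_not_mem k
      (h.z_eq_z he he' (map_one σ) (map_one σ) e1 (h.top_z_ne (top_ne k.h₁) he)), fun a ha => ?_⟩
  obtain ⟨g, -, -, g1, g2⟩ := h.top_hat hU (a := a) (by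
    rcases ha with rfl | rfl | rfl
    exacts [⟨_, m1, rfl⟩, ⟨_, m2, rfl⟩, mul_mem ⟨_, m1, rfl⟩ ⟨_, m2, rfl⟩])
  exact ⟨g, (g1 _ ⟨_, c _ m1, rfl⟩).symm, (g1 _ ⟨_, c _ m2, rfl⟩).symm, g2⟩

theorem exists_conj {j : S} (j2 : j * j = 1) : ∃ g ∈ G0 C φ y, g * t * g⁻¹ = t * φ j := by
  obtain ⟨l, h1, rfl⟩ := h.invol_list j2
  have hU : TI P (span K {p | p ∈ l}) := ti_span.2 h1
  obtain ⟨g, g1, -, -, g2⟩ := h.top_hat hU ⟨_, list_prod_mem fun s hs => by
    obtain ⟨p, hp, rfl⟩ := List.mem_map.1 hs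
    exact h.T_mem_E hU (h.tok0 (h1 p hp p hp) (map_one σ)) (Submodule.subset_span hp) (zero_mem _), rfl⟩
  exact ⟨g, g1, g2⟩

/-- multiplying a conjugate of `t` by an involution of `O²` of its centraliser -/
theorem conj_mul {g k : G} (hk : k ∈ Od (centralizer {g * t * g⁻¹})) (k2 : k * k = 1) :
    ∃ g', g' * t * g'⁻¹ = g * t * g⁻¹ * k := by
  have h1 : g⁻¹ * k * g ∈ Od (centralizer {t}) := by
    refine Od_mono ?_ (map_Od (MulAut.conj g⁻¹).toMonoidHom _ ⟨k, hk, by simp⟩)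
    rintro _ ⟨a, ha, rfl⟩
    refine UFP.mem_cent1.2 ?_
    calc _ = g⁻¹ * (g * t * g⁻¹ * a) * g := by simp [mul_assoc]
      _ = _ := by rw [UFP.mem_cent1.1 ha]; simp [mul_assoc]
  have h2 : g⁻¹ * k * g * (g⁻¹ * k * g) = 1 := by
    rw [show g⁻¹ * k * g * (g⁻¹ * k * g) = g⁻¹ * (k * k) * g by group, k2]; group
  have h3 := UFP.pgroup_zpowers_of_sq h2
  obtain ⟨j, -, j1, j2⟩ := h.exists_two (h.mem_of_Od h1 h3) h3
  obtain ⟨a, -, e⟩ := h.exists_conj (j := j) (by
    rw [← pow_two, ← orderOf_dvd_iff_pow_eq_one, j1, orderOf_dvd_iff_pow_eq_one, pow_two, h2])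
  refine ⟨g * a, ?_⟩
  calc _ = g * (a * t * a⁻¹) * g⁻¹ := by group
    _ = _ := by rw [e, j2]; group

theorem top_hat_x {U0 : Subgroup G} {p a : V} (h0 : p ≠ 0) (hp : P.B p p = 0) (ha : P.B a a = 0) (hpa : P.B p a = 0)
    (h1 : a ∉ span K {p}) (hU : ∀ d, TOk P p a d → x C φ p a d ∈ U0) {d : K} (hd : σ d = d) :
    UFP.Hat t U0 (x C φ p a d) := by
  have k := fun d (hd : σ d = d) => h.tok1 hp ha hpa hd
  have c : ∀ b d, TOk P p b d → P.B a b = 0 → Commute (x C φ p b d) (w y p a) := fun b d k e => by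
    have := h.wx hp ha hpa k
    rwa [e, P.B_eq_zero_comm.1 e, add_zero, h.y_zero hp, mul_one, mul_inv_eq_iff_eq_mul] at this
  refine ⟨w y p a * y p d, closure {g | ∃ d, σ d = d ∧ g = x C φ p a d}, ?_, subset_closure ⟨d, hd, rfl⟩,
    (closure_le _).2 ?_, (closure_le _).2 ?_, fun W h2 h3 h4 => h.cent_odd_sub h2 (h3.trans h.CN) h0 hp ha hpa h1
      (fun d hd => h4 (subset_closure ⟨d, hd, rfl⟩)) hd⟩
  · have e1 : x C φ p a d = x C φ p a 0 * z C φ p d := by
      rw [x, x, z, ← map_mul, C.T_mul (k 0 (map_zero σ)) (h.tok0 hp hd)]; simp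
    have e2 : z C φ p d * w y p a = _ := (c 0 d (h.tok0 hp hd) (by simp)).eq
    calc _ = w y p a * t * (w y p a)⁻¹ * (z C φ p d * w y p a) * (w y p a)⁻¹ := by rw [e1, h.w_t hp ha hpa]; group
      _ = w y p a * (t * z C φ p d) * (w y p a)⁻¹ := by rw [e2, z, x]; group
      _ = _ := by rw [← (h.mv p d hp hd).pt]; group
  · rintro _ ⟨d, hd, rfl⟩
    exact hU d (k d hd)
  · rintro _ ⟨d', hd', rfl⟩
    exact UFP.mem_cent1.2 ((c a d' (k d' hd') ha).mul_right (h.y_fix hp hd (C.T_self (k d' hd')))).symm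

theorem top_x_mem {U0 : Subgroup G} {U : Submodule K V} (hU : TI P U) (hd : finrank K V ≠ 2 * finrank K U + 1) {p : V}
    (hp : p ∈ U) (h1 : ∀ a ∈ P.perp U, ∀ d, TOk P p a d → x C φ p a d ∈ U0)
    (h2 : p ≠ 0 → ∃ a ∈ P.perp U, P.B a a = 0 ∧ a ∉ span K {p}) {a : V} (ha : a ∈ P.perp U) :
    ∀ d, TOk P p a d → x C φ p a d ∈ closure {g | UFP.Hat t U0 g} := by
  by_cases h0 : p = 0
  · intro d k
    subst h0
    rw [x, h.top_T_zero k, map_one]; exact one_mem _
  have pp := top_orth hU hp hp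
  have k1 : ∀ a ∈ P.perp U, P.B a a = 0 → a ∉ span K {p} → ∀ d, σ d = d → x C φ p a d ∈ closure {g | UFP.Hat t U0 g} :=
    fun a ha aa n d hd => subset_closure (h.top_hat_x h0 pp aa (ha p hp) n (h1 a ha) hd)
  have k2 : ∀ {c : K}, c + σ c = 0 → σ c = c := fun {c} e => by linear_combination e - h.add_self c
  suffices a ∈ P.perp U ∧ ∀ d, TOk P p a d → x C φ p a d ∈ closure {g | UFP.Hat t U0 g} from this.2
  have := h.iso_span hU hd ha
  clear ha
  induction this using AddSubgroup.closure_induction with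
  | mem a ha =>
    refine ⟨ha.1, fun d k => ?_⟩
    have hd := k2 ((h.tok.1 k).2.2.trans ha.2)
    by_cases n : a ∈ span K {p}
    · obtain ⟨l, rfl⟩ := Submodule.mem_span_singleton.1 n
      obtain ⟨b, b1, b2, b3⟩ := h2 h0
      obtain ⟨-, k3, e⟩ := h.T_shift (h.tok0 pp hd) l
      have k4 := k2 ((h.tok.1 k3).2.2.trans (by simp))
      have := mul_mem (k1 b b1 b2 b3 0 (map_zero σ)) (k1 b b1 b2 b3 _ k4)
      rw [x, x, ← map_mul, C.T_mul (h.tok1 pp b2 (b1 p hp) (map_zero σ)) (h.tok1 pp b2 (b1 p hp) k4), h.vadd_self, b2,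
        zero_add, add_zero, ← e, zero_add] at this
      exact this
    · exact k1 a ha.1 ha.2 n d hd
  | zero =>
    obtain ⟨b, b1, b2, b3⟩ := h2 h0
    refine ⟨zero_mem _, fun d k => ?_⟩
    have hd := k2 ((h.tok.1 k).2.2.trans (by simp))
    have := mul_mem (k1 b b1 b2 b3 0 (map_zero σ)) (k1 b b1 b2 b3 _ hd)
    rwa [x, x, ← map_mul, C.T_mul (h.tok1 pp b2 (b1 p hp) (map_zero σ)) (h.tok1 pp b2 (b1 p hp) hd), h.vadd_self, b2,
      zero_add, add_zero] at this
  | add a b _ _ ea eb =>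
    refine ⟨add_mem ea.1 eb.1, fun d k => ?_⟩
    obtain ⟨c, hc⟩ := h.exists_tok pp (ea.1 p hp)
    have hc' : TOk P p b (d - c - P.B b a) := h.tok.2 ⟨pp, eb.1 p hp, by
      have e1 := (h.tok.1 k).2.2
      simp only [map_add, LinearMap.add_apply, map_sub, h.conj] at e1 ⊢
      linear_combination e1 - (h.tok.1 hc).2.2⟩
    have := mul_mem (ea.2 c hc) (eb.2 _ hc')
    rwa [x, x, ← map_mul, C.T_mul hc hc', show c + (d - c - P.B b a) + P.B b a = d by ring] at this
  | neg a _ ea => rwa [neg_eq_of_add_eq_zero_left (h.vadd_self a)]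


theorem uw (hG : SLE.Glob Gs t) (hL : φ.range ≤ Gs) (ht : t ∉ Gs)
    (hu : UFP.U (normalizer (G0 C φ y : Set G)) t) {e e' : V} (he : P.B e e = 0) (he' : P.B e' e' = 0)
    (hee : P.B e e' = 0) (h0 : e ≠ 0) (h1 : e' ∉ span K {e}) :
    UFP.UW (normalizer (G0 C φ y : Set G)) t
      (Rg C φ (span K {e}) ⊔ Rg C φ (span K {e, e'})) := by
  obtain ⟨f, f', k⟩ := h.exists_hh' he he' hee h0 h1
  have hee' := P.B_eq_zero_comm.1 hee
  have m1 : e ∈ span K {e} := Submodule.mem_span_singleton_self e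
  have m2 : e ∈ span K {e, e'} := Submodule.subset_span (by simp)
  have m3 : e' ∈ span K {e, e'} := Submodule.subset_span (by simp)
  have t1 : TI P (span K {e}) := ti_span.2 (by simp [he])
  have t2 : TI P (span K {e, e'}) := ti_span.2 (by simp [he, he', hee, hee'])
  have le : span K {e} ≤ span K {e, e'} := Submodule.span_mono (by simp)
  let U : Bool → Submodule K V := fun i => cond i (span K {e, e'}) (span K {e})
  have tU : ∀ i, TI P (U i) := Bool.forall_bool.2 ⟨t1, t2⟩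
  have mU : ∀ i, e ∈ U i := Bool.forall_bool.2 ⟨m1, m2⟩
  set U0 := Rg C φ (span K {e}) ⊔ Rg C φ (span K {e, e'})
  have r1 : ∀ a d, TOk P e a d → x C φ e a d ∈ closure {g | UFP.Hat t U0 g} := fun a d hd =>
    h.top_x_mem t1 (by have := h.d4; rw [finrank_span_singleton h0]; omega) m1
      (fun a ha d hd => mem_sup_left (mem_map_of_mem φ (h.T_mem_rad t1 hd m1 ha)))
      (fun _ => ⟨e', P.perp_anti le (t2 m3), he', h1⟩) (fun v hv => by
        obtain ⟨l, rfl⟩ := Submodule.mem_span_singleton.1 hv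
        simp [hd.perp]) d hd
  have hX : ∀ i, Rg C φ (U i) ≤ closure {g | UFP.Hat t U0 g} := by
    refine Bool.forall_bool.2 ⟨fun g hg => ?_, ?_⟩
    · obtain ⟨a, c, hc, rfl⟩ := (h.mem_Q h0 he).1 hg
      exact r1 a c hc
    · refine map_le_iff_le_comap.2 ((h.rad_eq t2).le.trans ((closure_le _).2 ?_))
      rintro _ ⟨p, hp, a, ha, c, hc, rfl⟩
      refine h.top_x_mem t2 ?_ hp (fun a ha d hd => mem_sup_right (mem_map_of_mem φ (h.T_mem_rad t2 hd hp ha)))
        (fun p0 => ?_) ha c hc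
      · rw [Submodule.span_insert, Submodule.finrank_sup_span_singleton h1, finrank_span_singleton h0]
        exact h.d5
      · by_cases c : e ∈ span K {p}
        · exact ⟨e', t2 m3, he', fun c' =>
            h1 (eq_span_singleton_of_mem_of_finrank_eq_one (finrank_span_singleton p0) c h0 ▸ c')⟩
        · exact ⟨e, t2 m2, he, c⟩
  have hz : ∀ r, σ r = r → z C φ e r ∈ closure {g | UFP.Hat t U0 g} := fun r hr => r1 0 r (h.tok0 he hr)
  have hY : ∀ i, Rg C φ (U i) ≤ Yg C φ (span K {e}) := fun i =>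
    map_mono ((rad_le_fix _).trans (top_fix_anti ((Submodule.span_singleton_le_iff_mem _ _).2 (mU i))))
  refine UFP.UWData.uw (L := φ.range) (Zh := Zh C φ y e) (X := {g | UFP.Hat t U0 g}) (R := fun i => Rg C φ (U i))
    (P := fun i => (Stb C (U i)).map φ) ⟨⟨true⟩, fun _ e => e, ?_, ?_, fun i => map_le_range _ _, ?_,
      fun H hH e1 => ?_, hX, fun i => (h.rad_two (tU i)).map φ,
      fun i => (map_mono ((h.stb_norm _).trans (inf_le_left.trans inf_le_right))).trans (le_normalizer_map φ),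
      fun i e => h.t_not_mem (map_le_range _ _ e), fun i => (h.td h.two' (tU i) fun e0 => h0 (by
        simpa [e0] using mU i)).iso_of hG hL ht fun a ha => ?_,
      fun i => (h.Zh_cY he).trans (centralizer_le (hY i)), fun g hg => ?_,
      UFP.fin_of (fun H hH e1 => le_sup_right.trans ((h.G0_eq h0 he).ge.trans (h.G0_le ((h.G0_eq h0 he).le.trans hH) e1)))
        (by rw [← h.G0_eq h0 he]; exact centralizer_le_normalizer _)⟩ hu
  · rintro _ ⟨l, rfl⟩
    exact UFP.mem_cent1.2 (h.tφ l).symm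
  · exact Bool.forall_bool.2 ⟨sup_le (map_mono (top_rad_le_stb t1 le_rfl))
      (map_mono ((rad_le_fix _).trans ((top_fix_anti le).trans (fix_le_stb _)))),
      sup_le (map_mono (top_rad_le_stb t2 le)) (map_mono (top_rad_le_stb t2 le_rfl))⟩
  · have fx : ∀ s, C.act s e = e → φ s ∈ ⨆ i, (Stb C (U i)).map φ := fun s hs =>
      mem_iSup_of_mem false ⟨s, fix_le_stb _ fun v hv => by
        obtain ⟨l, rfl⟩ := Submodule.mem_span_singleton.1 hv
        rw [map_smul, hs], rfl⟩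
    have t3 : TI P (span K {e'}) := ti_span.2 (by simp [he'])
    rintro _ ⟨l, rfl⟩
    refine (h.gen_line k (H := (⨆ i, (Stb C (U i)).map φ).comap φ) (fun p s hp hep hs => fx _
      (C.T_fix (h.tok0 hp hs) (P.B_eq_zero_comm.1 hep) (by simp))) (fun l => fx _ (C.T_self (h.tok1 he ?_ ?_
        (map_zero σ)))) fun l => mem_iSup_of_mem true ⟨_, top_rad_le_stb t2
          ((Submodule.span_singleton_le_iff_mem _ _).2 m3) ((h.mem_rad_pt (top_ne k.h₂) he').2
            ⟨_, _, h.tok1 he' ?_ ?_ (map_zero σ), rfl⟩), rfl⟩).ge (mem_top l)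
    · simp [(h.hp_iff.1 k.h₂).2.1]
    · simp [k.ef]
    · simp [(h.hp_iff.1 k.h₁).2.1]
    · simp [P.B_eq_zero_comm.1 k.fe]
  · rcases h.le_or_cent (H := H ⊓ φ.range) (fun g hg => UFP.norm_inf (hH hg) (le_normalizer hg))
      (inf_le_right.trans le_normalizer) with e2 | e2
    · exact e2.trans inf_le_left
    · refine absurd ?_ (h.top_z_ne h0 he)
      have k1 := h.tok0 he (map_one σ)
      rw [z, h.inj2 (UFP.pgroup_zpowers_of_sq (by rw [C.T_mul k1 k1]; simp [h.add_self, C.T_zero k1.sing]))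
        (e2 ⟨(closure_le H).2 e1 (hz 1 (map_one σ)), _, rfl⟩), map_one]
  · obtain ⟨g, g1, g2, g3, g4⟩ := h.top_hat (tU i) ha
    exact ⟨g, h.G0_le_Gs hG hL g1, g2, h.G0_co g1, centralizer_le (map_mono (rad_le_fix _)) g3, g4⟩
  · obtain ⟨s, r, hs, hr, rfl⟩ := (h.mem_Zh he).1 hg
    have e1 : z C φ e s * y e r * t * (z C φ e s * y e r)⁻¹ = t * z C φ e r := by
      rw [(h.zy he he he hr hs).eq, mul_assoc _ _ t, show z C φ e s * t = _ from (h.tφ _).eq,
        ← (h.mv e r he hr).pt, z]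
      group
    rw [e1, inv_mul_cancel_left]
    exact hz r hr

theorem eq_Gs (hG : SLE.Glob Gs t) (hL : φ.range ≤ Gs)
    (h1 : ∀ u ∈ Gs, u * u = 1 → u ∈ normalizer (G0 C φ y : Set G)) : G0 C φ y = Gs := by
  obtain ⟨e, f, -, -, k, -⟩ := h.top_hh
  have he := (h.hp_iff.1 k).1
  have h2 := h.top_z_ne (top_ne k) he
  exact hG.eq_of_norm (h.G0_le_Gs hG hL) (UFP.le_of_invol hG.simple (hL ⟨_, rfl⟩) h2 (h.z_sq he (map_one σ)) h1)
    (h.top_L_le ⟨_, rfl⟩) h2

end HL

end CfsgLib.UN
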