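import Cfsg.Agent.Lib.UN.Sym
import Cfsg.Agent.Lib.Spec.Zsig

/-! Semilinear involutions -/

set_option autoImplicit false
set_option linter.unusedSectionVars false

namespace CfsgLib.UN

open Subgroup Module CfsgLib.Forms CfsgLib.LieMult
open CfsgLib.HX (Std CO Two Mv Tr LR Heis NF Fus4 Has4 M2)
open Submodule (span)
open scoped commutatorElement Pointwise

universe u

variable {K : Type} [Field K] [Finite K] {σ : K →+* K} {V : Type} [AddCommGroup V] [Module K V]
  [FiniteDimensional K V] {P : PQ σ V} {S : Type} [Group S] [Finite S] {G : Type u} [Group G]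
  [Finite G] {C : CG P S} {φ : S →* G} {t : G}

theorem ppd_core {q n : ℕ} (hq : 1 < q) (hn : Odd n ∧ 3 ≤ n ∨ 4 ∣ n ∧ 0 < n) :
    ∃ r, r.Prime ∧ r ∣ q ^ n - 1 ∧ ¬ r ∣ q ∧ ¬ r ∣ q ^ 2 - 1 ∧
      ∀ i, (r : ℤ) ∣ (q : ℤ) ^ i - (-1) ^ i → Even i ∧ n ∣ i := by
  have h3 : 3 ≤ n ∧ n ≠ 6 := by
    rcases hn with ⟨⟨k, hk⟩, h⟩ | h <;> omega
  obtain ⟨r, hr, h1, h2⟩ := Spec.zsigmondy hq (n := n) (by omega) (by omega) (by omega)
  haveI : Fact r.Prime := ⟨hr⟩
  have hz : ∀ k, r ∣ q ^ k - 1 ↔ (q : ZMod r) ^ k = 1 := fun k => by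
    rw [← ZMod.natCast_eq_zero_iff, Nat.cast_sub (Nat.one_le_pow _ _ (by omega)), sub_eq_zero]
    simp
  have ho : orderOf (q : ZMod r) = n := (orderOf_eq_iff (by omega)).2
    ⟨(hz n).1 h1, fun k hk h0 e => h2 k h0 hk ((hz k).2 e)⟩
  refine ⟨r, hr, h1, fun e => ?_, h2 2 (by omega) (by omega), fun i hi => ?_⟩
  · have := (hz n).1 h1
    rw [(ZMod.natCast_eq_zero_iff _ _).2 e, zero_pow (by omega)] at this
    exact zero_ne_one this
  · have e1 : (q : ZMod r) ^ i = (-1) ^ i := by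
      have := (ZMod.intCast_zmod_eq_zero_iff_dvd _ r).2 hi
      push_cast at this
      exact sub_eq_zero.1 this
    have e2 : n ∣ 2 * i := by
      rw [← ho, orderOf_dvd_iff_pow_eq_one, mul_comm, pow_mul, e1, ← pow_mul, mul_comm, pow_mul]
      simp
    have e3 : Even i := by
      by_contra e
      have e4 := Nat.not_even_iff_odd.1 e
      rcases hn with ⟨hn, -⟩ | ⟨hn, -⟩
      · have e5 : n ∣ i := (Nat.coprime_two_right.2 hn).dvd_of_dvd_mul_left e2
        rw [← ho, orderOf_dvd_iff_pow_eq_one, e1, e4.neg_one_pow] at e5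
        have e6 : r ∣ 2 := (ZMod.natCast_eq_zero_iff 2 r).1 (by
          push_cast
          linear_combination -e5)
        obtain rfl := (Nat.prime_dvd_prime_iff_eq hr Nat.prime_two).1 e6
        have e7 := h2 1 one_pos (by omega)
        rw [pow_one] at e7
        have e8 : 2 ∣ q ^ n := (show 2 ∣ q by omega).trans (dvd_pow_self q (by omega))
        have e9 : 1 ≤ q ^ n := Nat.one_le_pow _ _ (by omega)
        omega
      · obtain ⟨k, hk⟩ := e4
        have := hn.trans e2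
        omega
    refine ⟨e3, ?_⟩
    rw [← ho, orderOf_dvd_iff_pow_eq_one, e1, e3.neg_one_pow]

theorem exists_notMem_pair {F W : Type*} [Field F] [AddCommGroup W] [Module F W]
    {U : Submodule F W} (h : 3 ≤ finrank F U) (x y : W) : ∃ z ∈ U, z ∉ span F {x, y} := by
  classical
  by_contra! k
  have h1 := Submodule.finrank_mono (show U ≤ span F ({x, y} : Finset W) from fun z hz => by simpa using k z hz)
  have h2 := finrank_span_finset_le_card (R := F) ({x, y} : Finset W)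
  have h3 : ({x, y} : Finset W).card ≤ 2 := Finset.card_le_two
  exact absurd (h.trans (h1.trans (h2.trans h3))) (by decide)

theorem exists_sub_finrank {F W : Type*} [Field F] [AddCommGroup W] [Module F W]
    [FiniteDimensional F W] (U : Submodule F W) {n : ℕ} (h : n ≤ finrank F U) :
    ∃ U' ≤ U, finrank F U' = n := by
  induction n with
  | zero => exact ⟨⊥, bot_le, finrank_bot _ _⟩
  | succ n ih =>
    obtain ⟨U', h1, h2⟩ := ih (by omega)
    obtain ⟨z, hz, hz'⟩ : ∃ z ∈ U, z ∉ U' := by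
      by_contra! k
      have := Submodule.finrank_mono (show U ≤ U' from k)
      omega
    exact ⟨U' ⊔ span F {z}, sup_le h1 ((Submodule.span_singleton_le_iff_mem _ _).2 hz),
      by rw [Submodule.finrank_sup_span_singleton hz', h2]⟩

variable (σ) in
/-- a `σ`-semilinear involution -/
structure SInv (γ : AV V) : Prop where
  semi : ∀ (c : K) (v : V), γ (c • v) = σ c • γ v
  sq : ∀ v, γ (γ v) = v

/-- the fixed vectors -/
def SInv.W {γ : AV V} (k : SInv σ γ) : Submodule (Fx σ) V where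
  carrier := {v | γ v = v}
  add_mem' {a b} ha hb := by
    change γ (a + b) = a + b
    rw [map_add, ha, hb]
  zero_mem' := map_zero γ
  smul_mem' c v hv := by
    change γ ((c : K) • v) = (c : K) • v
    rw [k.semi, hv, c.2]
    rfl

theorem Gr.sinv {α : RingAut K} {γ : AV V} (k : Gr P α γ) : SInv σ γ :=
  ⟨fun c v => by rw [k.semi, k.eq], k.sq⟩

/-- transvections in `SL(V)` -/
noncomputable def tv {f : Module.Dual K V} {a : V} (h : f a = 0) : SLV K V :=
  ⟨LinearEquiv.transvection h, LinearEquiv.transvection.det_eq_one h⟩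

theorem tv_app {f : Module.Dual K V} {a : V} (h : f a = 0) (v : V) :
    (tv h).1 v = v + f v • a := LinearEquiv.transvection.apply h v

theorem slv_ext {g g' : SLV K V} (e : ∀ v, g.1 v = g'.1 v) : g = g' :=
  Subtype.ext (LinearEquiv.ext e)

theorem slv_mul (g g' : SLV K V) (v : V) : (g * g').1 v = g.1 (g'.1 v) := rfl

theorem finite_slv : Finite (SLV K V) := by
  haveI : Finite V := Module.finite_of_finite K
  exact Finite.of_injective (fun g : SLV K V => (g.1 : V → V)) fun g g' e => slv_ext (congrFun e)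

namespace Mod

variable (h : Mod C) {α : RingAut K} {γ : AV V}
include h

theorem si_dec (k : SInv σ γ) {θ : K} (hθ : θ + σ θ = 1) (v : V) :
    ∃ a b, γ a = a ∧ γ b = b ∧ v = a + θ • b := by
  refine ⟨σ θ • v + θ • γ v, v + γ v, ?_, ?_, ?_⟩
  · rw [map_add, k.semi, k.semi, P.σσ, k.sq, add_comm]
  · rw [map_add, k.sq, add_comm]
  · linear_combination (norm := module) -hθ • v - h.two • (θ • γ v)

theorem si_rank (k : SInv σ γ) : finrank (Fx σ) k.W = finrank K V := by
  haveI : Finite V := Module.finite_of_finite K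
  obtain ⟨θ, hθ⟩ := h.herm.exists_trace_one
  have h1 : Nat.card (k.W × k.W) = Nat.card V :=
    Nat.card_eq_of_bijective (fun x => (x.1 : V) + θ • (x.2 : V)) ⟨fun x y e => by
      have e1 := congrArg γ e
      simp only [map_add, k.semi, show γ x.1 = x.1 from x.1.2, show γ x.2 = x.2 from x.2.2,
        show γ y.1 = y.1 from y.1.2, show γ y.2 = y.2 from y.2.2] at e e1
      have e2 : (x.2 : V) = y.2 := by
        linear_combination (norm := module) e + e1 - hθ • ((x.2 : V) - y.2) -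
          h.two • ((x.1 : V) - y.1)
      rw [e2, add_left_inj] at e
      exact Prod.ext (Subtype.ext e) (Subtype.ext e2), fun v => by
      obtain ⟨a, b, ha, hb, rfl⟩ := h.si_dec k hθ v
      exact ⟨(⟨a, ha⟩, ⟨b, hb⟩), rfl⟩⟩
  rw [Nat.card_prod, Module.natCard_eq_pow_finrank (K := Fx σ),
    Module.natCard_eq_pow_finrank (K := K) (V := V), h.card_K, ← pow_add, ← pow_mul] at h1
  have := Nat.pow_right_injective (Finite.one_lt_card (α := Fx σ)) h1
  omega

theorem si_span (k : SInv σ γ) {s : Set V} (hs : ∀ c ∈ s, γ c = c) {a : V} (ha : γ a = a)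
    (e : a ∈ span K s) : a ∈ span (Fx σ) s := by
  have h1 : ∀ v ∈ span K s, ∀ c : K, c • v + γ (c • v) ∈ span (Fx σ) s := by
    intro v hv
    induction hv using Submodule.span_induction with
    | mem v hv =>
      intro c
      rw [k.semi, hs v hv, ← add_smul]
      exact Submodule.smul_mem _ (⟨c + σ c, show σ _ = c + σ c by
        rw [map_add, P.σσ, add_comm]⟩ : Fx σ) (Submodule.subset_span hv)
    | zero => intro c; simp
    | add v w _ _ h1 h2 =>
      intro c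
      rw [smul_add, map_add, add_add_add_comm]
      exact add_mem (h1 c) (h2 c)
    | smul d v _ h1 => intro c; rw [smul_smul]; exact h1 _
  obtain ⟨θ, hθ⟩ := h.herm.exists_trace_one
  have := h1 a e θ
  rwa [k.semi, ha, ← add_smul, hθ, one_smul] at this

theorem gr_B (k : Gr P α γ) {a : V} (ha : γ a = a) (v : V) : P.B a (γ v) = σ (P.B a v) := by
  rw [← k.eq, ← k.B_eq, ha]

theorem z_app1 {a : V} (ha : P.B a a = 0) (v : V) : C.act (C.T a 0 1) v = v + P.B a v • a := by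
  rw [h.T_app (h.tok0 ha (map_one σ))]
  simp

theorem gr_z (k : Gr P α γ) {a : V} (ha : γ a = a) (h0 : P.B a a = 0) : C.T a 0 1 ∈ Cg C γ :=
  fun v => by rw [h.z_app1 h0, h.z_app1 h0, map_add, k.sinv.semi, ha, h.gr_B k ha]

theorem gr_sym (k : Gr P α γ) : ∃ (β : LinearMap.BilinForm (Fx σ) k.sinv.W)
    (ρ : Cg C γ →* (k.sinv.W ≃ₗ[Fx σ] k.sinv.W)) (τ : k.sinv.W → Cg C γ), SymD β ρ τ ∧
    (∀ a b, (β a b : K) = P.B a b) ∧ ∀ a, β a a = 0 → (τ a : S) = C.T a 0 1 := by
  classical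
  obtain ⟨θ, hθ⟩ := h.herm.exists_trace_one
  have hF : ∀ a b : k.sinv.W, σ (P.B a b) = P.B a b := fun a b => by
    rw [← h.gr_B k a.2, show γ b = b from b.2]
  let β : LinearMap.BilinForm (Fx σ) k.sinv.W := LinearMap.mk₂ (Fx σ)
    (fun a b => ⟨P.B a b, hF a b⟩) (fun a b c => Subtype.ext (P.B_add_left _ _ _))
    (fun c a b => Subtype.ext ((P.B_smul_left (c : K) _ _).trans (by rw [c.2]; rfl)))
    (fun a b c => Subtype.ext (P.B_add_right _ _ _))
    (fun c a b => Subtype.ext (P.B_smul_right (c : K) _ _))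
  have hβ : ∀ a b, (β a b : K) = P.B a b := fun _ _ => rfl
  have hm : ∀ (g : Cg C γ) (a : k.sinv.W), C.act g a ∈ k.sinv.W := fun g a => by
    change γ _ = _
    rw [← g.2, show γ a = a from a.2]
  let ρ : Cg C γ →* (k.sinv.W ≃ₗ[Fx σ] k.sinv.W) :=
    { toFun := fun g =>
        { toFun := fun a => ⟨C.act g a, hm g a⟩
          invFun := fun a => ⟨C.act (g⁻¹ : Cg C γ) a, hm g⁻¹ a⟩
          map_add' := fun a b => Subtype.ext (map_add _ _ _)
          map_smul' := fun c a => Subtype.ext ((C.act g).map_smul (c : K) a)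
          left_inv := fun a => Subtype.ext (C.inv_apply _ _)
          right_inv := fun a => Subtype.ext (C.apply_inv _ _) }
      map_one' := LinearEquiv.ext fun a => Subtype.ext (C.one_apply _)
      map_mul' := fun g g' => LinearEquiv.ext fun a => Subtype.ext (C.mul_apply _ _ _) }
  let τ : k.sinv.W → Cg C γ := fun a =>
    if h0 : P.B a a = 0 then ⟨C.T a 0 1, h.gr_z k a.2 h0⟩ else 1
  have hτ : ∀ a, β a a = 0 → (τ a : S) = C.T a 0 1 := fun a ha => by
    simp only [τ, dif_pos (show P.B a a = 0 from congrArg Subtype.val ha)]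
  refine ⟨β, ρ, τ, ⟨Subtype.ext h.two, fun v w => Subtype.ext ?_, fun v hv => Subtype.ext ?_,
    (injective_iff_map_eq_one ρ).2 fun g hg => Subtype.ext (C.ext fun v => ?_),
    fun a ha v => Subtype.ext ?_, by rw [h.si_rank]; exact h.d4,
    fun e => by rw [h.si_rank]; exact h.d7 (h.small_iff.2 e)⟩, hβ, hτ⟩
  · rw [hβ, hβ, ← h.conj, hF]
  · refine C.nondeg _ fun w => ?_
    obtain ⟨a, b, ha, hb, rfl⟩ := h.si_dec k.sinv hθ w
    rw [P.B_add_right, P.B_smul_right, ← hβ v ⟨a, ha⟩, ← hβ v ⟨b, hb⟩, hv, hv]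
    simp
  · have e : ∀ a, γ a = a → C.act g a = a := fun a ha =>
      congrArg Subtype.val (LinearEquiv.congr_fun hg ⟨a, ha⟩)
    obtain ⟨a, b, ha, hb, rfl⟩ := h.si_dec k.sinv hθ v
    rw [map_add, map_smul, e a ha, e b hb]
    exact (C.one_apply _).symm
  · change C.act (τ a) v = _
    rw [hτ a ha, h.z_app1 (congrArg Subtype.val ha)]
    rfl

theorem gr_T (k : Gr P α γ) : ∃ e a, γ e = e ∧ γ a = a ∧ P.B e e = 0 ∧ P.B a a = 0 ∧ P.B e a = 0 ∧
    e ≠ 0 ∧ a ∉ span K {e} ∧ C.T e a 0 ∈ Od (Cg C γ) := by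
  haveI : Finite V := Module.finite_of_finite K
  obtain ⟨β, ρ, τ, hs, hβ, hτ⟩ := h.gr_sym k
  obtain ⟨e, a, h1, h2, h3, h4, h5, h6⟩ := hs.exists_T
  have k1 : P.B e e = 0 := (hβ _ _).symm.trans (congrArg Subtype.val h1)
  have k2 : P.B a a = 0 := (hβ _ _).symm.trans (congrArg Subtype.val h2)
  have k3 : P.B e a = 0 := (hβ _ _).symm.trans (congrArg Subtype.val h3)
  have k4 : P.B a e = 0 := P.B_eq_zero_comm.1 k3
  have k5 := hs.add_iso h2 h1
  refine ⟨e, a, e.2, a.2, k1, k2, k3, fun k => h4 (Subtype.ext k), fun k' => h5 ?_, ?_⟩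
  · obtain ⟨c, hc⟩ := Submodule.mem_span_singleton.1
      (h.si_span k.sinv (by rintro _ rfl; exact e.2) a.2 k')
    exact Submodule.mem_span_singleton.2 ⟨c, Subtype.ext hc⟩
  · have := Od_mono (H' := Cg C γ) (by rintro _ ⟨g, -, rfl⟩; exact g.2)
      (map_Od (Cg C γ).subtype ⊤ ⟨_, h6, rfl⟩)
    convert this using 1
    simp only [coe_subtype, coe_mul, hτ _ h1, hτ _ h2, hτ _ k5]
    refine C.ext fun v => ?_
    rw [C.mul_apply, C.mul_apply, h.z_app1 ((hβ _ _).symm.trans (congrArg Subtype.val k5)),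
      h.z_app1 k2, h.z_app1 k1,
      h.T_app (h.tok1 k1 k2 k3 (map_zero σ))]
    simp only [Submodule.coe_add, map_add, map_smul, LinearMap.add_apply, k1, k2, k3, k4, map_zero,
      smul_eq_mul]
    linear_combination (norm := module) -h.two • (P.B a v • (a : V)) - h.two • (P.B e v • (e : V))

theorem gr_big' (k : Gr P α γ)
    (hw : (∀ v, γ v = v → P.B v v = 0) ∨ ∃ w, γ w = w ∧ (∀ v, γ v = v → P.B v v = P.B w v ^ 2) ∧
      P.B w w ≠ 0) :
    Nat.card (Fx σ) ^ (4 * (finrank K V / 4)) - 1 ∣ Nat.card (Od2 (Cg C γ)) := by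
  haveI : Finite V := Module.finite_of_finite K
  obtain ⟨β, ρ, τ, hs, hβ, hτ⟩ := h.gr_sym k
  have d4 := h.d4
  refine (hs.big ?_ ⟨2 * (finrank K V / 4), by omega⟩ (by omega) (by rw [h.si_rank]; omega)).trans
    (card_Od2_dvd (Cg C γ).subtype (subtype_injective _) fun g => g.2)
  rcases hw with hw | ⟨w, h1, h2, h3⟩
  · exact Or.inl fun v => Subtype.ext ((hβ _ _).trans (hw v v.2))
  · exact Or.inr ⟨⟨w, h1⟩, fun v => Subtype.ext (by
      rw [SubmonoidClass.coe_pow, hβ, hβ]; exact h2 v v.2),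
      fun e => h3 ((hβ ⟨w, h1⟩ ⟨w, h1⟩).symm.trans (congrArg Subtype.val e))⟩

theorem gr_big (k : Gr P α γ) : ∃ j ∈ Od (Cg C γ), j * j = 1 ∧ ∃ γ' : AV V,
    (∀ v, γ' v = C.act j (γ v)) ∧ Gr P α γ' ∧
      Nat.card (Fx σ) ^ (4 * (finrank K V / 4)) - 1 ∣ Nat.card (Od2 (Cg C γ')) := by
  haveI : Finite V := Module.finite_of_finite K
  obtain ⟨β, ρ, τ, hs, hβ, hτ⟩ := h.gr_sym k
  obtain ⟨w, h1, h2⟩ := hs.exists_w
  have h3 : ∀ v, γ v = v → P.B v v = P.B w v ^ 2 := fun v hv => by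
    have := congrArg Subtype.val (h1 ⟨v, hv⟩)
    rwa [SubmonoidClass.coe_pow, hβ, hβ] at this
  by_cases hw : β w w = 0
  · have hw' : P.B w w = 0 := (hβ _ _).symm.trans (congrArg Subtype.val hw)
    have hj := h.gr_z k w.2 hw'
    have j2 : C.T w 0 1 * C.T w 0 1 = 1 := by
      rw [← hτ w hw]
      exact congrArg Subtype.val (hs.tau_sq hw)
    have k' : Gr P α (γ.trans ((C.act (C.T w 0 1)).restrictScalars ℤ)) :=
      ⟨⟨fun c v => by simp [k.semi c v], fun a b => by simp [C.B_act, k.B_eq]⟩, k.eq, fun v => by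
        change C.act _ (γ (C.act _ (γ v))) = v
        rw [← hj, k.sq, ← C.mul_apply, j2, C.one_apply]⟩
    refine ⟨C.T w 0 1, ?_, j2, _, fun v => rfl, k', h.gr_big' k' (Or.inl fun v hv => ?_)⟩
    · rw [← hτ w hw]
      exact Od_mono (H' := Cg C γ) (by rintro _ ⟨g, -, rfl⟩; exact g.2)
        (map_Od (Cg C γ).subtype ⊤ ⟨_, h2 hw, rfl⟩)
    · have e1 : P.B (γ v) v = P.B w v ^ 2 := by
        obtain ⟨θ, hθ⟩ := h.herm.exists_trace_one
        obtain ⟨a, b, ha, hb, rfl⟩ := h.si_dec k.sinv hθ v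
        have e2 : P.B b a = P.B a b := by rw [← h.conj, ← h.gr_B k ha, hb]
        simp only [map_add, k.sinv.semi, ha, hb, LinearMap.add_apply, P.B_smul_left, P.σσ,
          map_smul, smul_eq_mul, h3 a ha, h3 b hb, e2]
        linear_combination (θ * P.B a b - θ * P.B w a * P.B w b) * h.two
      change C.act _ (γ v) = v at hv
      rw [h.z_app1 hw', h.gr_B k w.2] at hv
      have e2 := congrArg (fun x => P.B x v) hv
      simp only [P.B_add_left, P.B_smul_left, P.σσ, e1] at e2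
      linear_combination -e2 + P.B w v ^ 2 * h.two
  · exact ⟨1, one_mem _, one_mul _, γ, fun v => (C.one_apply _).symm, k,
      h.gr_big' k (Or.inr ⟨w, w.2, h3, fun e => hw (Subtype.ext ((hβ _ _).trans e))⟩)⟩

theorem exists_lam (k : SInv σ γ) {s : Set V} (hs : ∀ c ∈ s, γ c = c) {a : V} (ha : γ a = a)
    (e : a ∉ span (Fx σ) s) : ∃ f : Module.Dual K V, (∀ v, f (γ v) = σ (f v)) ∧ f a = 1 ∧
      ∀ c ∈ s, f c = 0 := by
  obtain ⟨θ, hθ⟩ := h.herm.exists_trace_one
  obtain ⟨g, h1, h2⟩ := (span K s).exists_dual_map_eq_bot_of_notMem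
    (fun e' => e (h.si_span k hs ha e')) inferInstance
  have h3 : ∀ c ∈ s, g c = 0 := fun c hc =>
    (Submodule.mem_bot K).1 (h2 ▸ Submodule.mem_map_of_mem (Submodule.subset_span hc))
  refine ⟨{ toFun := fun v => θ / g a * g v + σ (θ / g a * g (γ v))
            map_add' := fun v w => by simp only [map_add, mul_add]; ring
            map_smul' := fun c v => by
              simp only [k.semi, map_smul, smul_eq_mul, map_mul, P.σσ, RingHom.id_apply]
              ring }, fun v => ?_, ?_, fun c hc => ?_⟩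
  · simp only [LinearMap.coe_mk, AddHom.coe_mk, k.sq, map_add, P.σσ, add_comm]
  · simp only [LinearMap.coe_mk, AddHom.coe_mk, ha, div_mul_cancel₀ _ h1, hθ]
  · simp [hs c hc, h3 c hc]

theorem tv_sq {f : Module.Dual K V} {a : V} (e : f a = 0) : tv e * tv e = 1 := slv_ext fun v => by
  simp only [slv_mul, tv_app, map_add, map_smul, e, smul_eq_mul, OneMemClass.coe_one,
    LinearEquiv.coe_one, id_eq]
  linear_combination (norm := module) h.two • (f v • a)

theorem tv_od (k : SInv σ γ) {H : Subgroup (SLV K V)}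
    (hH : ∀ g : SLV K V, (∀ v, g.1 (γ v) = γ (g.1 v)) → g ∈ H) {f : Module.Dual K V}
    (hf : ∀ v, f (γ v) = σ (f v)) {b c : V} (hb : γ b = b) (hc : γ c = c) (h1 : f b = 1)
    (h0 : f c = 0) : tv h0 ∈ Od H := by
  have hm : ∀ {f : Module.Dual K V} {a : V} (e : f a = 0), (∀ v, f (γ v) = σ (f v)) → γ a = a →
      tv e ∈ H := fun e hf ha => hH _ fun v => by
    rw [tv_app, tv_app, map_add, k.semi, ha, hf]
  obtain ⟨z, hz, hz'⟩ := exists_notMem_pair (U := k.W) (by rw [h.si_rank]; have := h.d4; omega) c b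
  replace hz : γ z = z := hz
  have hfz : σ (f z) = f z := by rw [← hf, hz]
  have ha : γ (z - f z • b) = z - f z • b := by rw [map_sub, k.semi, hz, hb, hfz]
  have fa : f (z - f z • b) = 0 := by simp [h1]
  obtain ⟨μ, hμ, k1, k2⟩ := h.exists_lam k (s := {c, b}) (by rintro _ (rfl | rfl) <;> assumption) ha
    (fun e => hz' (by
      have := add_mem e (Submodule.smul_mem _ (⟨f z, hfz⟩ : Fx σ)
        (Submodule.subset_span (Set.mem_insert_of_mem c rfl)))
      rwa [show (⟨f z, hfz⟩ : Fx σ) • b = f z • b from rfl, sub_add_cancel] at this))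
  generalize z - f z • b = a at ha fa k1
  have μb : μ b = 0 := k2 b (by simp)
  have μc : μ c = 0 := k2 c (by simp)
  have key : ∀ {a : V} (e : f a = 0), γ a = a → μ a = 1 → tv e * tv μb ∈ Od H :=
    fun {a} e ha e1 => braid_mem_Od (hm e hf ha) (hm μb hμ hb) (h.tv_sq _) (h.tv_sq _)
      (slv_ext fun v => by
        simp only [slv_mul, tv_app, map_add, map_smul, e, e1, h1, μb, smul_eq_mul]
        linear_combination (norm := module) h.two • (f v • a) - h.two • (μ v • b))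
  have fac : f (a + c) = 0 := by rw [map_add, fa, h0, add_zero]
  have e1 : tv fac = tv h0 * tv fa := slv_ext fun v => by
    simp only [slv_mul, tv_app, map_add, map_smul, fa, smul_eq_mul]
    module
  have := mul_mem (key fac (by rw [map_add, ha, hc]) (by rw [map_add, k1, μc, add_zero]))
    (inv_mem (key fa ha k1))
  rwa [e1, mul_assoc (tv h0), mul_inv_cancel_right] at this

/-- field type in `SL(V)` -/
theorem fld_big (k : Semi α γ) (hα : ∀ c, α c = σ c) (h2 : ∀ v, γ (γ v) = v) {H : Subgroup (SLV K V)}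
    (hH : ∀ g : SLV K V, (∀ v, g.1 (γ v) = γ (g.1 v)) → g ∈ H) :
    ∃ n, Odd n ∧ 3 ≤ n ∧ finrank K V < 2 * n ∧ Nat.card (Fx σ) ^ n - 1 ∣ Nat.card (Od2 H) := by
  haveI : Finite V := Module.finite_of_finite K
  haveI := finite_slv (K := K) (V := V)
  have k' : SInv σ γ := ⟨fun c v => by rw [k, hα], h2⟩
  have d4 := h.d4
  obtain ⟨n, h1, h3⟩ : ∃ n, 2 * n + 1 ≤ finrank K V ∧ finrank K V ≤ 2 * n + 2 :=
    ⟨(finrank K V - 1) / 2, by omega⟩
  obtain ⟨U, hU, hn⟩ := exists_sub_finrank k'.W (n := 2 * n + 1) (by rw [h.si_rank]; exact h1)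
  refine ⟨2 * n + 1, ⟨n, rfl⟩, by omega, by omega, ?_⟩
  let X : Set (SLV K V) := {g | ∃ (f : Module.Dual K V) (a : V) (e : f a = 0),
    (∀ v, f (γ v) = σ (f v)) ∧ a ∈ U ∧ (∃ b, γ b = b ∧ f b = 1) ∧ g = tv e}
  have step : ∀ x ∈ U, x ≠ 0 → ∀ z ∈ U, z ∉ span (Fx σ) {x} → ∃ g ∈ closure X, g • x = z := by
    intro x hx x0 z hz e
    obtain ⟨f, k1, k2, k3⟩ := h.exists_lam k' (s := {z - x})
      (by rintro _ rfl; exact hU (U.sub_mem hz hx)) (hU hx) (fun e' => e (by
        obtain ⟨c, hc⟩ := Submodule.mem_span_singleton.1 e'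
        have c0 : c ≠ 0 := by
          rintro rfl
          exact x0 (by rw [← hc, zero_smul])
        exact Submodule.mem_span_singleton.2 ⟨c⁻¹ + 1, by
          rw [add_smul, one_smul, ← eq_sub_iff_add_eq, inv_smul_eq_iff₀ c0, hc]⟩))
    refine ⟨tv (k3 _ rfl), subset_closure ⟨f, _, _, k1, U.sub_mem hz hx, ⟨x, hU hx, k2⟩, rfl⟩, ?_⟩
    change (tv _).1 x = z
    rw [tv_app, k2, one_smul, add_sub_cancel]
  have h4 := card_dvd_of_trans (X := X) (U := (U : Set V) \ {0}) (by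
    rintro _ ⟨f, a, e, k1, k2, -, rfl⟩ v ⟨hv, v0⟩
    change (tv e).1 v ∈ _
    refine ⟨?_, fun e' => v0 ((tv e).1.map_eq_zero_iff.1 e')⟩
    rw [tv_app]
    exact U.add_mem hv (U.smul_mem (⟨f v, show σ _ = f v by
      rw [← k1, show γ v = v from hU hv]⟩ : Fx σ) k2)) (fun x hx y hy => by
      obtain ⟨z, hz, hz'⟩ := exists_notMem_pair (U := U) (by omega) x y
      obtain ⟨g, hg, e1⟩ := step x hx.1 hx.2 z hz fun e =>
        hz' (Submodule.span_mono (by simp) e)
      obtain ⟨g', hg', e2⟩ := step y hy.1 hy.2 z hz fun e =>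
        hz' (Submodule.span_mono (by simp) e)
      exact ⟨g'⁻¹ * g, mul_mem (inv_mem hg') hg, by rw [mul_smul, e1, ← e2, inv_smul_smul]⟩) (by
      obtain ⟨a, ha, a0⟩ := Submodule.exists_mem_ne_zero_of_ne_bot (p := U) (by
        rintro rfl
        rw [finrank_bot] at hn
        omega)
      exact ⟨a, ha, a0⟩)
  rw [ncard_ne_zero_sub, hn] at h4
  refine h4.trans (card_dvd_of_le (closure_mono ?_))
  rintro _ ⟨f, a, e, k1, k2, ⟨b, k3, k4⟩, rfl⟩
  exact ⟨h.tv_sq e, h.tv_od k' hH k1 k3 (hU k2) k4 e⟩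

theorem sym_sym (β : LinearMap.BilinForm K V) (hs : ∀ v v', β v v' = β v' v)
    (hn : ∀ v, (∀ v', β v v' = 0) → v = 0) : ∃ (M : Subgroup (SLV K V)) (τ : V → M),
    (∀ g ∈ M, ∀ v v', β (g.1 v) (g.1 v') = β v v') ∧
      SymD β ((SLV K V).subtype.comp M.subtype) τ := by
  classical
  let M : Subgroup (SLV K V) :=
    { carrier := {g | ∀ v v', β (g.1 v) (g.1 v') = β v v'}
      one_mem' := fun _ _ => rfl
      mul_mem' := fun {a b} ha hb v v' => by rw [slv_mul, slv_mul, ha, hb]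
      inv_mem' := fun {a} ha v v' => by rw [← ha, ← slv_mul, ← slv_mul, mul_inv_cancel]; rfl }
  have hm : ∀ {a : V} (e : β a a = 0), tv e ∈ M := fun {a} e v v' => by
    simp only [tv_app, map_add, map_smul, LinearMap.add_apply, LinearMap.smul_apply, e,
      smul_eq_mul, hs v a]
    linear_combination (β a v * β a v') * h.two
  refine ⟨M, fun a => if e : β a a = 0 then ⟨tv e, hm e⟩ else 1, fun g hg => hg, h.two, hs, hn,
    (subtype_injective _).comp (subtype_injective _), fun a ha v => ?_, h.d4, fun e => ?_⟩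
  · rw [dif_pos ha]
    exact tv_app ha v
  · rw [h.card_K] at e
    have := Finite.one_lt_card (α := Fx σ)
    nlinarith

/-- graph type in `SL(V)` -/
theorem sym_big (β : LinearMap.BilinForm K V) (hs : ∀ v v', β v v' = β v' v)
    (hn : ∀ v, (∀ v', β v v' = 0) → v = 0) : ∃ j : SLV K V, j * j = 1 ∧
      (∀ H : Subgroup (SLV K V), (∀ g : SLV K V, (∀ v v', β (g.1 v) (g.1 v') = β v v') → g ∈ H) →
        j ∈ Od H) ∧ ∃ n, 4 ∣ n ∧ finrank K V < n ∧ ∀ H : Subgroup (SLV K V),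
      (∀ g : SLV K V, (∀ v v', β (j.1 (g.1 v)) (g.1 v') = β (j.1 v) v') → g ∈ H) →
        Nat.card (Fx σ) ^ n - 1 ∣ Nat.card (Od2 H) := by
  haveI := finite_slv (K := K) (V := V)
  have d4 := h.d4
  have big : ∀ β : LinearMap.BilinForm K V, (∀ v v', β v v' = β v' v) →
      (∀ v, (∀ v', β v v' = 0) → v = 0) →
      ((∀ v, β v v = 0) ∨ ∃ w, (∀ v, β v v = β w v ^ 2) ∧ β w w ≠ 0) → ∀ H : Subgroup (SLV K V),
      (∀ g : SLV K V, (∀ v v', β (g.1 v) (g.1 v') = β v v') → g ∈ H) →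
        Nat.card (Fx σ) ^ (4 * (finrank K V / 2)) - 1 ∣ Nat.card (Od2 H) := by
    intro β hs hn hw H hH
    obtain ⟨M, τ, h1, h2⟩ := h.sym_sym β hs hn
    have := h2.big hw (n := 2 * (finrank K V / 2)) (even_two_mul _) (by omega) (by omega)
    rw [h.card_K, ← pow_mul, ← mul_assoc] at this
    exact this.trans (card_Od2_dvd M.subtype (subtype_injective _) fun g => hH _ (h1 _ g.2))
  obtain ⟨M, τ, h1, h2⟩ := h.sym_sym β hs hn
  obtain ⟨w, hw, h3⟩ := h2.exists_w
  by_cases hww : β w w = 0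
  · have hj : ∀ v, (τ w).1.1 v = v + β w v • w := h2.tau w hww
    have j2 : (τ w).1 * (τ w).1 = 1 := congrArg Subtype.val (h2.tau_sq hww)
    refine ⟨τ w, j2, fun H hH => Od_mono (by rintro _ ⟨g, -, rfl⟩; exact hH _ (h1 _ g.2))
      (map_Od M.subtype ⊤ ⟨_, h3 hww, rfl⟩), 4 * (finrank K V / 2), dvd_mul_right _ _, by omega,
      big (β ∘ₗ (τ w).1.1.toLinearMap) (fun v v' => ?_) (fun v hv => ?_) (Or.inl fun v => ?_)⟩
    · simp only [LinearMap.comp_apply, LinearEquiv.coe_coe, hj, map_add, map_smul,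
        LinearMap.add_apply, LinearMap.smul_apply, smul_eq_mul, hs v v']
      ring
    · exact (τ w).1.1.map_eq_zero_iff.1 (hn _ hv)
    · simp only [LinearMap.comp_apply, LinearEquiv.coe_coe, hj, map_add, map_smul,
        LinearMap.add_apply, LinearMap.smul_apply, smul_eq_mul, hw v]
      linear_combination β w v ^ 2 * h.two
  · exact ⟨1, one_mul _, fun H _ => one_mem _, 4 * (finrank K V / 2), dvd_mul_right _ _, by omega,
      big β hs hn (Or.inr ⟨w, hw, hww⟩)⟩

theorem ppdA {n : ℕ} (hn : Odd n ∧ 3 ≤ n ∧ finrank K V < 2 * n ∨ 4 ∣ n ∧ finrank K V < n) :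
    ∃ r, r.Prime ∧ r ∣ Nat.card (Fx σ) ^ n - 1 ∧ ¬ r ∣ Nat.card S ∧ ¬ r ∣ Nat.card K - 1 := by
  obtain ⟨r, hr, h1, h2, h3, h4⟩ := ppd_core (Finite.one_lt_card (α := Fx σ)) (n := n)
    (hn.imp (fun e => ⟨e.1, e.2.1⟩) fun e => ⟨e.1, by omega⟩)
  refine ⟨r, hr, h1, fun e => ?_, by rwa [h.card_K]⟩
  obtain ⟨N, hN⟩ := h.card
  have hr' := Nat.prime_iff_prime_int.1 hr
  rcases hr'.dvd_or_dvd ((Int.natCast_dvd_natCast.2 e).trans hN) with e1 | e1
  · exact h2 (Int.natCast_dvd_natCast.1 (hr'.dvd_of_dvd_pow e1))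
  · obtain ⟨i, hi, e2⟩ := hr'.exists_mem_finset_dvd e1
    obtain ⟨e3, e4⟩ := h4 i e2
    rw [Finset.mem_Icc] at hi
    rcases hn with ⟨k1, -, k2⟩ | ⟨-, k2⟩
    · have := Nat.le_of_dvd hi.1
        ((Nat.coprime_two_left.2 k1).mul_dvd_of_dvd_of_dvd e3.two_dvd e4)
      omega
    · have := Nat.le_of_dvd hi.1 e4
      omega

theorem ppdB {n : ℕ} (hn : 4 ∣ n) (h1 : finrank K V < 2 * n) : ∃ r a : ℕ, r.Prime ∧
    r ^ a ∣ Nat.card (Fx σ) ^ n - 1 ∧ ¬ r ^ (2 * a) ∣ Nat.card S ∧ ¬ r ∣ Nat.card K - 1 := by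
  have hq := Finite.one_lt_card (α := Fx σ)
  obtain ⟨r, hr, k1, h2, h3, h4⟩ := ppd_core hq (n := n) (Or.inr ⟨hn, by omega⟩)
  have hq' : 1 < Nat.card (Fx σ) ^ n := Nat.one_lt_pow (by omega) hq
  obtain ⟨a, m, hm, e⟩ := Nat.exists_eq_pow_mul_and_not_dvd
    (show Nat.card (Fx σ) ^ n - 1 ≠ 0 by omega) r hr.ne_one
  refine ⟨r, a, hr, ⟨m, e⟩, fun e1 => ?_, by rwa [h.card_K]⟩
  obtain ⟨N, hN⟩ := h.card
  have hr' := Nat.prime_iff_prime_int.1 hr
  have e2 : (r : ℤ) ^ (2 * a) ∣ _ := (by exact_mod_cast e1 : (r : ℤ) ^ (2 * a) ∣ Nat.card S).trans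
    (hN.trans (mul_dvd_mul_left _ (Finset.prod_dvd_prod_of_subset _
      (insert n ((Finset.Icc 1 (finrank K V)).erase n)) _ (Finset.subset_insert_iff.2 le_rfl))))
  rw [Finset.prod_insert (Finset.notMem_erase _ _), mul_left_comm] at e2
  have e3 := IsCoprime.dvd_of_dvd_mul_right (IsCoprime.pow_left
    (hr'.irreducible.coprime_iff_not_dvd.2 fun e3 => by
      rcases hr'.dvd_or_dvd e3 with e4 | e4
      · exact h2 (Int.natCast_dvd_natCast.1 (hr'.dvd_of_dvd_pow e4))
      · obtain ⟨i, hi, e5⟩ := hr'.exists_mem_finset_dvd e4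
        obtain ⟨-, c, rfl⟩ := h4 i e5
        rw [Finset.mem_erase, Finset.mem_Icc] at hi
        have : c < 2 := by
          by_contra! k
          have := Nat.mul_le_mul_left n k
          omega
        interval_cases c <;> omega)) e2
  rw [(even_iff_two_dvd.2 ((by decide : 2 ∣ 4).trans hn)).neg_one_pow] at e3
  have e4 : r ^ (2 * a) ∣ r ^ a * m := by
    rw [← e, ← Int.natCast_dvd_natCast, Nat.cast_sub hq'.le]
    exact_mod_cast e3
  rw [two_mul, pow_add] at e4
  have a0 : a ≠ 0 := by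
    rintro rfl
    rw [e, pow_zero, one_mul] at k1
    exact hm k1
  exact hm ((dvd_pow_self r a0).trans (Nat.dvd_of_mul_dvd_mul_left (pow_pos hr.pos a) e4))

end Mod

end CfsgLib.UN
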