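import Cfsg.Agent.Lib.UN.Top
import Cfsg.Agent.Lib.UN.Gr
import Cfsg.Agent.Lib.SLE.NG

/-! Product case: the unique fixed point -/

set_option autoImplicit false
set_option linter.unusedSectionVars false

namespace CfsgLib.UN

open Subgroup Module CfsgLib.Forms CfsgLib.LieMult
open CfsgLib.HX (Std CO Two Mv Tr LR Heis NF Fus4 Has4 M2)
open Submodule (span)
open CfsgLib.UFP (mem_cent mem_cent1 conj_mem conj_mem' norm_conj pgroup_zpowers_of_sq conj_conj)
open scoped commutatorElement Pointwise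

universe u

variable {K : Type} [Field K] [Finite K] {σ : K →+* K} {V : Type} [AddCommGroup V] [Module K V]
  [FiniteDimensional K V] {P : PQ σ V} {S : Type} [Group S] [Finite S] {G : Type u} [Group G]
  [Finite G] {C : CG P S} {φ : S →* G} {t : G}

omit [Finite G] in
theorem PrdA_conj_self (t2 : t * t = 1) (x : G) : t * (t * x * t⁻¹) * t⁻¹ = x := by
  rw [show t * (t * x * t⁻¹) * t⁻¹ = t * t * x * (t * t)⁻¹ by group, t2]; group

omit [Finite S] [Finite G] in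
theorem PrdA_range_cj (φ : S →* G) (g : G) :
    ((MulAut.conj g).toMonoidHom.comp φ).range = MulAut.conj g • φ.range := by
  ext x
  rw [Coprime.mem_conj_smul_iff]
  constructor
  · rintro ⟨s, rfl⟩
    exact ⟨s, by simp [mul_assoc]⟩
  · rintro ⟨s, hs⟩
    exact ⟨s, by simp [hs, mul_assoc]⟩

namespace DblP

variable {y : V → K → G} {c : K} {φ₁ φ₂ : S →* G} (h : DblP C φ t y c φ₁ φ₂) {Gs : Subgroup G}
include h

theorem emb₁ : Emb C φ₁ := ⟨h.toMod, h.ker₁⟩

theorem emb₂ : Emb C φ₂ := ⟨h.toMod, h.ker₂⟩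

theorem cm {p q : G} (hp : p ∈ φ₁.range) (hq : q ∈ φ₂.range) : p * q = q * p := by
  obtain ⟨s, rfl⟩ := hp
  obtain ⟨s', rfl⟩ := hq
  exact (h.c12 s s').eq

theorem c21 : φ₂.range ≤ centralizer (φ₁.range : Set G) := fun _ hq => mem_cent.2 fun _ hp => h.cm hp hq

theorem symm : DblP C φ t y c φ₂ φ₁ := 
  ⟨h.toHQ, h.ker₂, h.ker₁, fun s s' => (h.c12 s' s).symm, fun s => by rw [h.ext, (h.c12 s s).eq],
    fun s => by rw [← h.tc, PrdA_conj_self h.t2], by rw [sup_comm, h.eqG]⟩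

theorem conj_t : MulAut.conj t • φ₁.range = φ₂.range := by
  rw [← PrdA_range_cj]
  congr 1
  ext s
  exact h.tc s

theorem ne : φ₁.range ≠ φ₂.range := fun e => h.emb₁.not_cent (e.le.trans h.c21)

theorem t_not_norm : t ∉ normalizer (φ₁.range : Set G) := fun e =>
  h.ne ((Coprime.mem_normalizer_iff_conj_smul_eq.1 e).symm.trans h.conj_t)

theorem mem_W {k : G} (h1 : k ∈ centralizer (φ₁.range : Set G))
    (h2 : k ∈ centralizer (φ₂.range : Set G)) : k ∈ centralizer (G0 C φ y : Set G) := by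
  rw [← h.eqG]
  exact le_centralizer_iff.1 (sup_le (le_centralizer_iff.1 (zpowers_le.2 h1))
    (le_centralizer_iff.1 (zpowers_le.2 h2))) (mem_zpowers k)

theorem le1 : φ₁.range ≤ G0 C φ y := h.eqG ▸ le_sup_left

theorem L1_le : φ₁.range ≤ normalizer (G0 C φ y : Set G) := h.le1.trans le_normalizer

theorem norm1 : G0 C φ y ≤ normalizer (φ₁.range : Set G) :=
  h.eqG ▸ sup_le le_normalizer (h.c21.trans (centralizer_le_normalizer _))

theorem card_eq : Nat.card φ₂.range = Nat.card φ₁.range := by rw [← h.conj_t, Coprime.card_conj_smul]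

theorem perm' {g : G} (hg : g ∈ normalizer (G0 C φ y : Set G)) :
    MulAut.conj g • φ₁.range = φ₁.range ∨ MulAut.conj g • φ₁.range = φ₂.range := by
  have h1 : MulAut.conj g • φ₁.range ≤ G0 C φ y :=
    Coprime.conj_smul_le_iff.2 fun x hx => conj_mem hg (h.le1 hx)
  have h2 : G0 C φ y ≤ normalizer ((MulAut.conj g • φ₁.range : Subgroup G) : Set G) := fun x hx => by
    have := norm_conj (g := g) (h.norm1 (conj_mem' hg hx))
    rwa [show g * (g⁻¹ * x * g) * g⁻¹ = x by group] at this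
  rcases h.emb₁.le_or_cent (h.le1.trans h2) (h1.trans h.norm1) with h3 | h3
  · exact .inl (Core.eq_of_le_of_card_le h3 (Coprime.card_conj_smul g _).le).symm
  rcases h.emb₂.le_or_cent (h.symm.le1.trans h2) (h1.trans h.symm.norm1) with h4 | h4
  · exact .inr (Core.eq_of_le_of_card_le h4 ((Coprime.card_conj_smul g _).trans h.card_eq.symm).le).symm
  · refine absurd ?_ (h.emb₁.cj g).not_cent
    rw [PrdA_range_cj]
    exact fun x hx => centralizer_le h1 (h.mem_W (h3 hx) (h4 hx))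

theorem norm2 {g : G} (hg : g ∈ normalizer (G0 C φ y : Set G)) (h1 : g ∈ normalizer (φ₁.range : Set G)) :
    g ∈ normalizer (φ₂.range : Set G) := by
  rcases h.symm.perm' hg with h2 | h2
  · exact Coprime.mem_normalizer_iff_conj_smul_eq.2 h2
  · exact absurd (MulAction.injective _ ((Coprime.mem_normalizer_iff_conj_smul_eq.1 h1).trans h2.symm)) h.ne

theorem perm {g : G} (hg : g ∈ normalizer (G0 C φ y : Set G)) :
    g ∈ normalizer (φ₁.range : Set G) ∧ g ∈ normalizer (φ₂.range : Set G) ∨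
      g * t ∈ normalizer (φ₁.range : Set G) ∧ g * t ∈ normalizer (φ₂.range : Set G) := by
  rcases h.symm.perm' hg with h1 | h1
  · have h2 := Coprime.mem_normalizer_iff_conj_smul_eq.2 h1
    exact .inl ⟨h.symm.norm2 hg h2, h2⟩
  · have h2 : g * t ∈ normalizer (φ₁.range : Set G) := Coprime.mem_normalizer_iff_conj_smul_eq.2 (by
      rw [map_mul, mul_smul, h.conj_t, h1])
    exact .inr ⟨h2, h.norm2 (mul_mem hg h.toHL.t_norm) h2⟩

theorem swap : UFP.Swap (normalizer (G0 C φ y : Set G))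
    (normalizer (G0 C φ y : Set G) ⊓ normalizer (φ₁.range : Set G))
    (normalizer (G0 C φ y : Set G) ⊓ centralizer (φ₂.range : Set G))
    (normalizer (G0 C φ y : Set G) ⊓ centralizer (φ₁.range : Set G)) := by
  have := UFP.swap_of h.t2 h.toHL.t_norm h.t_not_norm (fun _ hg => (h.perm hg).imp And.left And.left) (by
    rw [h.conj_t]
    exact h.toHL.cent_odd.of_dvd_nat (card_dvd_of_le fun x hx => h.mem_W hx.2.2 hx.1.2))
  rwa [h.conj_t] at this

/-- the diagonal map of a swapping element -/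
theorem exists_diag {s : G} (hs : MulAut.conj s • φ₁.range = φ₂.range) :
    ∃ ψ : φ₁.range →* G, ∀ x, ψ x = x * (s * x * s⁻¹) :=
  ⟨MonoidHom.mk' (fun x => x * (s * x * s⁻¹)) fun p q => by
    simp only [coe_mul]
    rw [mul_assoc (p : G) (s * p * s⁻¹), ← mul_assoc (s * p * s⁻¹),
      ← h.cm q.2 (hs.le (Coprime.conj_mem_conj_smul p.2))]
    group, fun _ => rfl⟩

/-- the involutions of `L t` are conjugate to `t` in `G₀` -/
theorem exists_conj' {l : G} (hl : l ∈ φ.range) (l2 : l * l = 1) : ∃ p ∈ φ₁.range, l * t = p * t * p⁻¹ := by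
  obtain ⟨s, -, ho, rfl⟩ := h.toEmb.exists_two hl (pgroup_zpowers_of_sq l2)
  have s2 : s * s = 1 := by
    rw [← pow_two, ← orderOf_dvd_iff_pow_eq_one, ho, orderOf_dvd_iff_pow_eq_one, pow_two, l2]
  have h4 : φ₁ s * φ₁ s = 1 := by rw [← map_mul, s2, map_one]
  exact ⟨φ₁ s, ⟨s, rfl⟩, by rw [h.ext, ← h.tc, inv_eq_of_mul_eq_one_right h4]; group⟩

theorem nat1 {g : G} (hg : MulAut.conj (g * t * g⁻¹) • φ₁.range = φ₂.range) {x : G} (hx : x ∈ φ₁.range) :
    g⁻¹ * x * g ∈ G0 C φ y := by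
  obtain ⟨s, hs⟩ : ∃ s, s = g * t * g⁻¹ := ⟨_, rfl⟩
  have H := h.toSit.cj g
  rw [← hs] at hg H
  have h2 : ∀ p ∈ φ₁.range, s * p * s⁻¹ ∈ φ₂.range := fun p hp => hg ▸ Coprime.conj_mem_conj_smul hp
  obtain ⟨ψ, hψ⟩ := h.exists_diag hg
  have hD : ∀ p ∈ φ₁.range, g⁻¹ * (p * (s * p * s⁻¹)) * g ∈ φ.range := fun p hp => by
    refine Coprime.mem_conj_smul_iff.1 (PrdA_range_cj φ g ▸ H.le_of_perf (H := ψ.range) ?_ ?_ ⟨⟨p, hp⟩, hψ _⟩)
    · rintro _ ⟨q, rfl⟩
      rw [hψ, mem_cent1, ← mul_inv_eq_iff_eq_mul, show s * (q * (s * q * s⁻¹)) * s⁻¹ =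
        s * q * s⁻¹ * (s * (s * q * s⁻¹) * s⁻¹) by group, PrdA_conj_self H.t2, h.cm q.2 (h2 q q.2)]
    · have : (⊤ : Subgroup φ₁.range) ≤ ⁅⊤, ⊤⁆ := (map_le_map_iff_of_injective φ₁.range.subtype_injective).1 (by
        rw [map_commutator, ← MonoidHom.range_eq_map, range_subtype]; exact h.emb₁.perf)
      rw [ψ.range_eq_map, ← map_commutator]
      exact map_mono this
  have h3 : ∀ z ∈ φ₁.range, z * z = 1 → z ∈ MulAut.conj g • normalizer (G0 C φ y : Set G) := fun z hz z2 => by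
    obtain ⟨p, hp, e⟩ := h.exists_conj' (hD z hz) (by
      rw [show g⁻¹ * (z * (s * z * s⁻¹)) * g * (g⁻¹ * (z * (s * z * s⁻¹)) * g) =
        g⁻¹ * (z * (s * z * s⁻¹ * z) * (s * z * s⁻¹)) * g by group, ← h.cm hz (h2 z hz),
        show z * (z * (s * z * s⁻¹)) * (s * z * s⁻¹) = z * z * (s * (z * z) * s⁻¹) by group, z2]
      group)
    refine Coprime.mem_conj_smul_iff.2 ((Subgroup.mul_mem_cancel_left _ (inv_mem (h.L1_le hp))).1
      (h.toHL.cent_le ?_))
    calc _ = p⁻¹ * (g⁻¹ * (z * s * (z * s⁻¹ * (g * t * g⁻¹) * z)) * g) := by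
          rw [← hs, inv_mul_cancel_right, z2, hs]; group
      _ = p⁻¹ * (p * t * p⁻¹) * (g⁻¹ * z * g) := by rw [← e]; group
      _ = _ := by group
  have h3' : φ₁.range ≤ MulAut.conj g • normalizer (G0 C φ y : Set G) := by
    rintro _ ⟨a, rfl⟩
    have := h.gen ((MulAut.conj g • normalizer (G0 C φ y : Set G)).comap φ₁) fun p r hp hr =>
      h3 _ ⟨_, rfl⟩ (h.emb₁.z_sq hp hr)
    exact (this ▸ mem_top a : a ∈ (MulAut.conj g • normalizer (G0 C φ y : Set G)).comap φ₁)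
  have h4 : ⁅φ₁.range, φ₁.range⁆ ≤ MulAut.conj g • G0 C φ y := commutator_le.2 fun z hz p hp => by
    have h5 : _ ∈ G0 C φ y := mem_sup_left (hD p hp)
    have h6 := mul_mem (conj_mem (Coprime.mem_conj_smul_iff.1 (h3' hz)) h5) (inv_mem h5)
    refine Coprime.mem_conj_smul_iff.2 ?_
    rwa [show g⁻¹ * z * g * (g⁻¹ * (p * (s * p * s⁻¹)) * g) * (g⁻¹ * z * g)⁻¹ *
      (g⁻¹ * (p * (s * p * s⁻¹)) * g)⁻¹ = g⁻¹ * (z * p * (s * p * s⁻¹ * z⁻¹) * (s * p * s⁻¹)⁻¹ * p⁻¹) * g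
      by group, ← h.cm (inv_mem hz) (h2 p hp), show z * p * (z⁻¹ * (s * p * s⁻¹)) * (s * p * s⁻¹)⁻¹ *
      p⁻¹ = ⁅z, p⁆ by rw [commutatorElement_def]; group] at h6
  exact Coprime.mem_conj_smul_iff.1 (h4 (h.emb₁.perf hx))

theorem native {g : G} (hg : g * t * g⁻¹ ∈ normalizer (G0 C φ y : Set G))
    (h1 : g * t * g⁻¹ ∉ normalizer (φ₁.range : Set G)) : g ∈ normalizer (G0 C φ y : Set G) := by
  have h2 := (h.perm' hg).resolve_left fun e => h1 (Coprime.mem_normalizer_iff_conj_smul_eq.2 e)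
  have h3 : MulAut.conj (g * t * g⁻¹) • φ₂.range = φ₁.range := by rw [← h2, conj_conj (h.toSit.cj g).t2]
  refine inv_mem_iff.1 (mem_normalizer_fintype fun z hz => ?_)
  rw [SetLike.mem_coe, ← h.eqG] at hz
  obtain ⟨p, hp, q, hq, rfl⟩ := SLE.mem_sup_comm (fun _ hp _ hq => h.cm hp hq) hz
  rw [show g⁻¹ * (p * q) * g⁻¹⁻¹ = g⁻¹ * p * g * (g⁻¹ * q * g) by group]
  exact mul_mem (h.nat1 h2 hp) (h.symm.nat1 h3 hq)

theorem not_mem (hG : SLE.Glob Gs t) : t ∉ Gs := by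
  have k := h.swap
  obtain ⟨B, _, _, l, -, hl⟩ := SLE.exists_two_hom k.le fun p hp q hq => by
    by_cases e : q ∈ normalizer (G0 C φ y : Set G) ⊓ normalizer (φ₁.range : Set G)
    · exact mul_mem (k.conj hp e) (inv_mem e)
    · exact k.idx _ (mul_mem (mul_mem hp hq) (inv_mem hp)) _ (inv_mem hq) (k.conj_not hp e)
        fun e' => e (inv_mem_iff.1 e')
  refine hG.not_mem (UFP.not_mem_commutator h.t2 h.toHL.t_norm l (fun e => ?_) fun x hx e =>
    h.native hx fun e' => e ((hl _).2 ⟨1, odd_one, by rw [pow_one]; exact ⟨hx, e'⟩⟩))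
  obtain ⟨m, hm, h1⟩ := (hl _).1 e
  exact h.t_not_norm (SLE.mem_of_odd_pow (pgroup_zpowers_of_sq h.t2) hm h1).2

end DblP

end CfsgLib.UN
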