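import Cfsg.Agent.Lib.UN.Aut

/-! The Sylow subgroup of a flag -/

set_option autoImplicit false
set_option linter.unusedSectionVars false

namespace CfsgLib.UN

open Subgroup Module CfsgLib.Forms CfsgLib.LieMult
open CfsgLib.HX (Std CO Two Mv Tr LR Heis NF Fus4 Has4 M2)
open Submodule (span)
open scoped commutatorElement Pointwise

universe u

variable {K : Type} [Field K] [Finite K] {σ : K →+* K} {V : Type} [AddCommGroup V] [Module K V]
  [FiniteDimensional K V] {P : PQ σ V} {S : Type} [Group S] [Finite S] {G : Type u} [Group G]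
  [Finite G] {C : CG P S} {φ : S →* G} {t : G}

section
variable {m : ℕ} (b : Basis (Fin m) K V)

theorem mem_flag {i : ℕ} {v : V} : v ∈ flag b i ↔ ∀ j : Fin m, i ≤ j → b.repr v j = 0 := by
  rw [flag, b.mem_span_image]
  exact ⟨fun h j hj => by_contra fun h0 => absurd (h (Finsupp.mem_support_iff.2 h0)) (not_lt.2 hj),
    fun h j hj => not_le.1 fun h0 => Finsupp.mem_support_iff.1 hj (h j h0)⟩

theorem b_mem_flag {i : ℕ} {j : Fin m} (h : (j : ℕ) < i) : b j ∈ flag b i := Submodule.subset_span ⟨j, h, rfl⟩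

theorem flag_mono {i j : ℕ} (h : i ≤ j) : flag b i ≤ flag b j := fun _ hv =>
  (mem_flag b).2 fun l hl => (mem_flag b).1 hv l (h.trans hl)

theorem flag_zero : flag b 0 = ⊥ := eq_bot_iff.2 fun _ hv =>
  b.repr.map_eq_zero_iff.1 (Finsupp.ext fun j => (mem_flag b).1 hv j (Nat.zero_le _))

theorem flag_top {i : ℕ} (h : m ≤ i) : flag b i = ⊤ := eq_top_iff.2 fun _ _ =>
  (mem_flag b).2 fun j hj => absurd (j.2.trans_le h) (not_lt.2 hj)

theorem sub_mem_flag {j : Fin m} {v : V} (hv : v ∈ flag b (j + 1)) : v - b.repr v j • b j ∈ flag b j :=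
  (mem_flag b).2 fun l hl => by
    rcases hl.lt_or_eq with h | h
    · simp [(mem_flag b).1 hv l h, Finsupp.single_eq_of_ne (Fin.ne_of_gt h)]
    · simp [Fin.ext h]

theorem mem_of_map_mem {g : V ≃ₗ[K] V} {M : Submodule K V} (h : ∀ v ∈ M, g v ∈ M) {v : V} (hv : g v ∈ M) : v ∈ M := by
  have h1 : M.map g.toLinearMap = M := Submodule.eq_of_le_of_finrank_eq (by
    rintro _ ⟨w, hw, rfl⟩
    exact h w hw) (g.finrank_map_eq M)
  obtain ⟨w, hw, e⟩ := h1.ge hv
  exact g.injective e ▸ hw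

theorem mem_Nh {k : ℕ} {n : V →ₗ[K] V} : n ∈ Nh b k ↔ ∀ i, ∀ v ∈ flag b i, n v ∈ flag b (i - k) := by
  refine ⟨fun h i v hv => ?_, fun h i j hj => (mem_flag b).1 (h _ _ (b_mem_flag b j.1.lt_succ_self)) i (by omega)⟩
  refine Submodule.mem_comap.1 ((Submodule.span_le (p := (flag b (i - k)).comap n)).2 ?_ hv)
  rintro _ ⟨j, hj, rfl⟩
  exact (mem_flag b).2 fun l hl => h l j (by have : (j : ℕ) < i := hj; omega)

theorem Nh_anti {k l : ℕ} (h : k ≤ l) : Nh b l ≤ Nh b k := by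
  exact fun _ hn i j hj => hn i j (by omega)

theorem Nh_mul {k l : ℕ} {n n' : V →ₗ[K] V} (h : n ∈ Nh b k) (h' : n' ∈ Nh b l) :
    n * n' ∈ Nh b (k + l) := by
  refine (mem_Nh b).2 fun i v hv => ?_
  have := (mem_Nh b).1 h _ _ ((mem_Nh b).1 h' i v hv)
  rwa [Nat.sub_sub, add_comm] at this

theorem Nh_top : Nh b m = ⊥ := by
  refine eq_bot_iff.2 fun n hn => b.ext fun j => b.repr.map_eq_zero_iff.1 (Finsupp.ext fun i => hn i j ?_)
  omega

theorem map_mem_flag {k : ℕ} {g : V ≃ₗ[K] V} (h : g.toLinearMap - LinearMap.id ∈ Nh b k) (i : ℕ) :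
    ∀ v ∈ flag b i, g v ∈ flag b i := fun v hv => by
  simpa using add_mem (flag_mono b (Nat.sub_le _ _) ((mem_Nh b).1 h i v hv)) hv

theorem mem_Ub {s : S} : s ∈ Ub C b ↔ nu C s ∈ Nh b 1 := by
  refine ⟨fun h => (mem_Nh b).2 fun i v hv => ?_, fun h i => ⟨fun v => ⟨mem_of_map_mem (map_mem_flag b h i),
    map_mem_flag b h i v⟩, (mem_Nh b).1 h (i + 1)⟩⟩
  rcases i with _ | i
  · rw [flag_zero, Submodule.mem_bot] at hv
    rw [hv, map_zero]
    exact zero_mem _
  · exact (h i).2 v hv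

theorem mem_Mh {k : ℕ} (hk : 0 < k) {g : SLV K V} :
    g ∈ Mh b k ↔ g.1.toLinearMap - LinearMap.id ∈ Nh b k := by
  refine ⟨fun h => ?_, fun h => subset_closure h⟩
  induction h using closure_induction with
  | mem _ h => exact h
  | one => exact fun i j _ => by simp
  | mul x y _ _ hx hy =>
    have := add_mem (add_mem (Nh_anti b (Nat.le_add_left _ _) (Nh_mul b hx hy)) hx) hy
    convert this using 1
    ext v
    simp only [Subgroup.coe_mul, LinearMap.sub_apply, LinearEquiv.coe_coe, LinearMap.add_apply,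
      LinearEquiv.mul_apply, LinearMap.id_apply, Module.End.mul_apply, map_sub]
    abel
  | inv x _ hx =>
    refine (mem_Nh b).2 fun i v hv => mem_of_map_mem (map_mem_flag b hx _) ?_
    simpa using neg_mem ((mem_Nh b).1 hx i v hv)

theorem exists_Mh (h2 : (2 : K) = 0) {n : V →ₗ[K] V} (hn : n ∈ Nh b 1) :
    ∃ g : SLV K V, g.1.toLinearMap = LinearMap.id + n := by
  have hd : LinearMap.det (LinearMap.id + n) = 1 := by
    rw [← LinearMap.det_toMatrix b, Matrix.det_of_isUpperTriangular fun i j hij => by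
      have : (j : ℕ) < i := hij
      simp [LinearMap.toMatrix_apply, hn i j (by omega), Finsupp.single_eq_of_ne (show i ≠ j from Fin.ne_of_gt hij)]]
    exact Finset.prod_eq_one fun i _ => by simp [LinearMap.toMatrix_apply, hn i i (by omega)]
  refine ⟨⟨LinearMap.equivOfDetNeZero _ (hd ▸ one_ne_zero), Units.ext ?_⟩, rfl⟩
  rw [LinearEquiv.coe_det]
  exact hd

theorem Mh_two (h2 : (2 : K) = 0) : IsPGroup 2 (Mh b 1) := by
  rintro ⟨g, hg⟩
  have key : ∀ j : ℕ, g ^ 2 ^ j ∈ Mh b (j + 1) := fun j => by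
    induction j with
    | zero => simpa using hg
    | succ j ih =>
      rw [mem_Mh b (by omega)] at ih ⊢
      have := Nh_anti b (show j + 1 + 1 ≤ _ by omega) (Nh_mul b ih ih)
      convert this using 1
      ext v
      have e : ∀ w : V, w + w = 0 := fun w => by rw [← two_smul K, h2, zero_smul]
      simp only [pow_succ, pow_mul, pow_zero, one_mul, Subgroup.coe_mul, LinearMap.sub_apply, LinearEquiv.coe_coe,
        LinearEquiv.mul_apply, LinearMap.id_apply, Module.End.mul_apply, map_sub]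
      linear_combination (norm := abel1) e ((g ^ 2 ^ j).1 v) - e v
  refine ⟨m, Subtype.ext (Subtype.ext (LinearEquiv.toLinearMap_injective (sub_eq_zero.1 ?_)))⟩
  exact (Nh_top b).le (Nh_anti b (Nat.le_succ m) ((mem_Mh b (by omega)).1 (key m)))

theorem Ub_le_fix : Ub C b ≤ C.fixG (flag b 1) := fun _ hs v hv =>
  sub_eq_zero.1 ((flag_zero b).le ((hs 0).2 v hv))

theorem exists_fixed_quot (h2 : (2 : K) = 0) {H : Subgroup (V ≃ₗ[K] V)} (hH : IsPGroup 2 H) {M : Submodule K V}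
    (h1 : ∀ g ∈ H, ∀ v ∈ M, g v ∈ M) {x : V} (hx : x ∉ M) : ∃ v, v ∉ M ∧ ∀ g ∈ H, g v - v ∈ M := by
  have : Finite (V ⧸ M) := Module.finite_of_finite K
  let _ : MulAction H (V ⧸ M) :=
    { smul := fun g => M.mapQ M g.1.toLinearMap (h1 g g.2)
      one_smul := fun q => by obtain ⟨v, rfl⟩ := M.mkQ_surjective q; rfl
      mul_smul := fun g g' q => by obtain ⟨v, rfl⟩ := M.mkQ_surjective q; rfl }
  obtain ⟨q, hq, hq'⟩ := hH.exists_fixed_point_of_prime_dvd_card_of_fixed_point (V ⧸ M) (a := 0) (by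
    rw [← addOrderOf_eq_prime (x := M.mkQ x) (p := 2) (by rw [← ofNat_smul_eq_nsmul K, h2, zero_smul])
      fun e => hx ((Submodule.Quotient.mk_eq_zero M).1 e)]
    exact addOrderOf_dvd_natCard _) fun g => map_zero (M.mapQ M g.1.toLinearMap (h1 g g.2))
  obtain ⟨v, rfl⟩ := M.mkQ_surjective q
  exact ⟨v, fun e => hq' ((Submodule.Quotient.mk_eq_zero M).2 e).symm,
    fun g hg => (Submodule.Quotient.eq M).1 (hq ⟨g, hg⟩)⟩

end

namespace Mod

section
variable (h : Mod C) {e f e' f' a : V} {c : K}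
include h

theorem T_mem_fix_iff (k : TOk P e a c) (h0 : e ≠ 0) {U : Submodule K V} (he : e ∈ U) :
    C.T e a c ∈ C.fixG (P.perp U) ↔ a ∈ U := by
  refine ⟨fun h1 => (P.perp_perp C.nondeg U).le (P.mem_perp'.2 fun v hv => ?_),
    fun ha v hv => C.T_fix k (P.mem_perp.1 hv e he) (P.mem_perp.1 hv a ha)⟩
  have := h1 v hv
  rw [C.T_perp k (P.mem_perp.1 hv e he), add_eq_left] at this
  exact (smul_eq_zero.1 this).resolve_right h0

theorem fix_of_comm (hf : HP P e f) {s : S} (hs : C.act s e = e) (ha : P.B e a = 0)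
    (hc : ∀ (l c : K), TOk P e (l • a) c → s * C.T e (l • a) c = C.T e (l • a) c * s) : C.act s a = a := by
  have key : ∀ l : K, l • (C.act s a - a) = (σ l * (P.B a f - P.B (C.act s a) f)) • e := fun l => by
    obtain ⟨c, k⟩ := h.exists_tok hf.se.self_eq (show P.B e (l • a) = 0 by simp [ha])
    have h1 := C.T_conj s k
    have k' := k.act C s
    rw [hc l c k, mul_inv_cancel_right] at h1
    rw [hs] at h1 k'
    have h2 := h.T_app k f
    rw [h1, h.T_app k', hf.ef, map_smul, P.B_smul_left, P.B_smul_left] at h2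
    linear_combination (norm := module) h2
  obtain ⟨t, ht⟩ := h.herm.exists_ne_conj
  have h1 := key 1
  have h2 := key t
  rw [one_smul, map_one, one_mul] at h1
  rw [h1, smul_smul] at h2
  have h3 := smul_left_injective K (fun e0 => by simpa [e0] using hf.ef : e ≠ 0) h2
  rw [(mul_eq_mul_right_iff.1 h3).resolve_left ht.symm, zero_smul] at h1
  exact sub_eq_zero.1 h1

theorem comm_T (k : TOk P e a c) {s : S} (hs : C.act s e = e) :
    ∃ d, TOk P e (C.act s a - a) d ∧ ⁅s, C.T e a c⁆ = C.T e (C.act s a - a) d := by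
  have k' := k.act C s
  rw [hs] at k'
  rw [commutatorElement_def, C.T_conj s k, hs, C.T_inv k, C.T_mul k' (k.neg C), sub_eq_add_neg]
  exact ⟨_, k'.add (k.neg C), rfl⟩

theorem mem_Q (k : HH P e f e' f') {x : S} {l : K} (l0 : l ≠ 0) (xe : C.act x e = e) (xe' : nu C x e' = l • e)
    (x2 : ∀ v, P.B e v = 0 → C.act x (C.act x v) = v)
    (hc : ∀ a d, TOk P e' a d → P.B e a = 0 → ∀ v, P.B e v = 0 →
      C.act (x * (C.T e' a d * x * (C.T e' a d)⁻¹)) v = C.act (C.T e' a d * x * (C.T e' a d)⁻¹ * x) v)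
    {u : V} (hu : P.B e u = 0) : nu C x u ∈ span K {e} := by
  have hn : ∀ v, nu C x v = C.act x v - v := fun _ => rfl
  have hn' : ∀ v, C.act x v = v + nu C x v := fun v => by rw [hn, add_sub_cancel]
  have ne : nu C x e = 0 := by rw [hn, xe, sub_self]
  have adj : ∀ u v, P.B e v = 0 → P.B (nu C x u) v = P.B u (nu C x v) := fun u v hv => by
    rw [hn, hn, P.B_sub_left, P.B_sub_right, ← C.B_act x u (C.act x v), x2 v hv]
  have p1 : ∀ v, P.B e (nu C x v) = 0 := fun v => by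
    rw [hn, P.B_sub_right, ← C.B_act x e v, xe, sub_self]
  have nn : ∀ v, P.B e v = 0 → nu C x (nu C x v) = 0 := fun v hv => by
    rw [hn, hn, map_sub, x2 v hv]
    linear_combination (norm := module) h.vadd_self v - h.vadd_self (C.act x v)
  have ee := k.h₁.se.self_eq
  have e'e := P.B_eq_zero_comm.1 k.ee
  obtain ⟨n, hn0⟩ : ∃ n, n = nu C x := ⟨_, rfl⟩
  rw [← hn0] at hn' ne adj p1 nn xe' ⊢
  obtain ⟨a, ha⟩ : ∃ a, a = n f := ⟨_, rfl⟩
  have ea : P.B e a = 0 := ha ▸ p1 f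
  have e'a : P.B e' a = σ l := by rw [← h.conj, ha, adj _ _ k.ee, xe', map_smul, k.h₁.fe, smul_eq_mul, mul_one]
  have na : ∀ v, P.B e v = 0 → P.B (n a) v = 0 := fun v hv => by
    rw [adj _ _ hv, ha, adj _ _ (p1 v), nn v hv, map_zero]
  have q0 : ∀ w, P.B e w = 0 → P.B e' w = 0 → P.B f w = 0 → P.B (n w) w = 0 := fun w w1 w2 w3 => by
    have r0 : ∀ d, TOk P e' w d → ∀ u, P.B e u = 0 → P.B (n (C.act (C.T e' w d) a)) u = l * P.B (n w) u :=
      fun d kd u hu => by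
        rw [h.T_app kd, n.map_add, n.map_add, n.map_smul, n.map_smul, xe']
        simp only [P.B_add_left, P.B_smul_left, na u hu, hu, e'a, P.σσ, mul_zero, zero_add]
    obtain ⟨d, kd⟩ := h.exists_tok k.h₂.se.self_eq w2
    have kd' := kd.neg C
    have gi := C.T_inv kd
    rw [neg_eq_of_add_eq_zero_left (h.vadd_self w)] at kd' gi
    have ge : C.act (C.T e' w d) e = e := C.T_fix kd e'e (P.B_eq_zero_comm.1 w1)
    have gf : C.act (C.T e' w d) f = f := C.T_fix kd (P.B_eq_zero_comm.1 k.fe) (P.B_eq_zero_comm.1 w3)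
    have r1 := r0 d kd
    have r2 := r0 _ kd'
    have r3 := h.T_app kd f'
    have r4 := hc w d kd w1
    rw [← gi] at r2
    generalize C.T e' w d = g at *
    have g1 : ∀ v, P.B e (C.act g v) = P.B e v := fun v => by rw [← C.B_act g e v, ge]
    have g2 : ∀ v, P.B f (C.act g v) = P.B f v := fun v => by rw [← C.B_act g f v, gf]
    have r5 := r4 (C.act g f') ((g1 _).trans k.ef)
    simp only [C.mul_apply, hn', map_add, C.inv_apply, C.apply_inv] at r5
    have r6 : n (C.act g (n f')) = C.act g (n (C.act g⁻¹ (n (C.act g f')))) := by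
      linear_combination (norm := module) r5
    have r7 := congrArg (P.B f) r6
    rw [g2, ← adj _ _ ((g1 _).trans (p1 _)), ← adj _ _ (by rw [← g1, C.apply_inv, p1]), ← ha, ← C.B_act_left,
      ← adj _ _ ((g1 _).trans k.ef), r1 _ ((g1 _).trans k.ef), ← C.B_act g⁻¹, C.inv_apply, ← adj _ _ k.ef,
      r2 _ k.ef, r3, k.h₂.ef, one_smul, map_add, map_add, map_smul, adj w e' k.ee, xe', map_smul,
      P.B_eq_zero_comm.1 w1] at r7
    simpa [l0] using r7
  have q1 : ∀ w, P.B e w = 0 → P.B e' w = 0 → P.B f w = 0 → ∀ w', P.B e w' = 0 → P.B e' w' = 0 →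
      P.B f w' = 0 → P.B (n w) w' = 0 := fun w w1 w2 w3 w' w4 w5 w6 => by
    by_contra h0
    obtain ⟨t, ht⟩ := h.herm.exists_trace_one
    have := q0 (w + (t / P.B (n w) w') • w') (by simp [w1, w4]) (by simp [w2, w5]) (by simp [w3, w6])
    rw [n.map_add, n.map_smul] at this
    simp only [P.B_add_right, P.B_smul_right, P.B_add_left, P.B_smul_left, q0 w w1 w2 w3, q0 w' w4 w5 w6,
      adj w' w w1, ← h.conj (n w) w', ← map_mul, div_mul_cancel₀ _ h0, mul_zero, zero_add, add_zero] at this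
    exact one_ne_zero (ht.symm.trans (by linear_combination this))
  have dec : ∀ u, P.B e u = 0 → ∃ (α β : K) (w : V), P.B e w = 0 ∧ P.B e' w = 0 ∧ P.B f w = 0 ∧
      u = w + α • a + β • e := fun u hu =>
    ⟨P.B e' u / σ l, P.B f (u - (P.B e' u / σ l) • a), u - (P.B e' u / σ l) • a -
      P.B f (u - (P.B e' u / σ l) • a) • e, by simp [hu, ea, ee],
      by simp [e'e, e'a, div_mul_cancel₀ _ ((map_ne_zero σ).2 l0)], by simp [k.h₁.fe], by abel⟩
  refine (P.perp_perp C.nondeg _).le (P.mem_perp'.2 fun v hv => ?_)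
  have hv' := P.mem_perp_span_singleton.1 hv
  obtain ⟨α, β, w, w1, w2, w3, rfl⟩ := dec u hu
  simp only [n.map_add, n.map_smul, ne, smul_zero, add_zero, P.B_add_left, P.B_smul_left, na v hv', mul_zero]
  obtain ⟨α, β, w', w4, w5, w6, rfl⟩ := dec v hv'
  rw [map_add, map_add, map_smul, map_smul, q1 w w1 w2 w3 w' w4 w5 w6, adj w a ea, ← h.conj, na w w1,
    P.B_eq_zero_comm.1 (p1 w)]
  simp

end

variable (h : Mod C) {b : Basis (Fin (finrank K V)) K V} (hb : Bas P b)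
include h hb

theorem B_rev (j : Fin (finrank K V)) (v : V) : P.B (b j.rev) v = b.repr v j := by
  have : P.B (b j.rev) = b.coord j := b.ext fun i => by
    rw [hb, Fin.rev_rev, b.coord_apply, b.repr_self, Finsupp.single_apply]
  rw [this, b.coord_apply]

theorem perp_flag {i : ℕ} (hi : i ≤ finrank K V) : P.perp (flag b i) = flag b (finrank K V - i) := by
  ext v
  rw [flag, P.mem_perp_span, mem_flag]
  refine ⟨fun h1 j hj => ?_, ?_⟩
  · rw [← h.B_rev hb]
    exact h1 _ ⟨j.rev, by have := j.2; simp only [Set.mem_ofPred_eq, Fin.val_rev]; omega, rfl⟩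
  · rintro h1 _ ⟨j, hj, rfl⟩
    have hj' : (j : ℕ) < i := hj
    rw [← j.rev_rev, h.B_rev hb]
    exact h1 _ (by rw [Fin.val_rev]; omega)

theorem exists_flag : ∃ e f e' f', HH P e f e' f' ∧ flag b 1 = span K {e} ∧ flag b 2 = span K {e, e'} := by
  have := h.d4
  have k : ∀ (i j : ℕ) (hi : i < finrank K V) (hj : j < finrank K V), P.B (b ⟨i, hi⟩) (b ⟨j, hj⟩) =
      if i + j + 1 = finrank K V then 1 else 0 := fun i j hi hj => by
    rw [hb]
    exact if_congr (by rw [Fin.ext_iff, Fin.val_rev]; dsimp only; omega) rfl rfl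
  refine ⟨b ⟨0, by omega⟩, b ⟨finrank K V - 1, by omega⟩, b ⟨1, by omega⟩, b ⟨finrank K V - 2, by omega⟩,
    ⟨h.hp_iff.2 ⟨?_, ?_, ?_⟩, h.hp_iff.2 ⟨?_, ?_, ?_⟩, ?_, ?_, ?_, ?_⟩, ?_, ?_⟩
  any_goals rw [k]; split_ifs <;> first | rfl | omega
  · rw [flag, ← Set.image_singleton]
    congr 2
    ext j
    simp [Fin.ext_iff]
  · rw [flag, ← Set.image_pair]
    congr 2
    ext j
    simp only [Set.mem_ofPred_eq, Set.mem_insert_iff, Set.mem_singleton_iff, Fin.ext_iff]
    omega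

theorem exists_adj {k : ℕ} {n : V →ₗ[K] V} (hn : n ∈ Nh b k) :
    ∃ n' ∈ Nh b k, ∀ v v', P.B (n v) v' = P.B v (n' v') := by
  let n' : V →ₗ[K] V := b.constr K fun j => ∑ i, P.B (n (b i.rev)) (b j) • b i
  have h1 : ∀ i j, b.repr (n' (b j)) i = P.B (n (b i.rev)) (b j) := fun i j => by
    simp [n', Finsupp.single_apply]
  refine ⟨n', fun i j hij => ?_, fun v v' => ?_⟩
  · rw [h1, ← h.conj, ← j.rev_rev, h.B_rev hb, hn _ _ (by
      have := j.2
      simp only [Fin.val_rev]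
      omega), map_zero]
  · have h2 : ∀ i, P.B (n (b i)) = P.B (b i) ∘ₗ n' := fun i => b.ext fun j => by
      rw [LinearMap.comp_apply, ← i.rev_rev, h.B_rev hb, h1]
    exact LinearMap.congr_fun (b.ext (f₁ := (P.B.flip v').comp n) (f₂ := P.B.flip (n' v'))
      fun i => LinearMap.congr_fun (h2 i) v') v

theorem Ub_two : IsPGroup 2 (Ub C b) := by
  exact uni_two h.two (flag_zero b) (flag_top b le_rfl)

theorem rad_le {r : ℕ} (hr : r ≤ finrank K V) : Rad C (flag b r) ≤ Ub C b := fun s hs =>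
  (mem_Ub b).2 ((mem_Nh b).2 fun i v hv => by
    change C.act s v - v ∈ _
    by_cases h1 : i ≤ r
    · rw [hs.1 v (flag_mono b h1 hv), sub_self]
      exact zero_mem _
    by_cases h2 : i ≤ finrank K V - r
    · exact flag_mono b (by omega) (hs.2 v (h.perp_flag hb hr ▸ flag_mono b h2 hv))
    · refine flag_mono b (by omega) ((h.perp_flag hb hr).le (P.mem_perp.2 fun w hw => ?_))
      rw [map_sub, ← hs.1 w hw, C.B_act, hs.1 w hw, sub_self])

theorem T_Nh {e a : V} {c : K} (k : TOk P e a c) {r r' l : ℕ} (he : e ∈ flag b r) (ha : a ∈ flag b r')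
    (h1 : r ≤ r') (h2 : r + r' + l ≤ finrank K V + 1) (h3 : r' ≤ finrank K V) : nu C (C.T e a c) ∈ Nh b l :=
  (mem_Nh b).2 fun i v hv => by
    change C.act _ v - v ∈ _
    rw [h.T_app k, add_assoc, add_sub_cancel_left]
    have k1 : ∀ {x : V} {j : ℕ}, x ∈ flag b j → j ≤ finrank K V → i ≤ finrank K V - j → P.B x v = 0 :=
      fun hx hj hi => P.mem_perp.1 ((h.perp_flag hb hj).ge (flag_mono b hi hv)) _ hx
    by_cases h4 : i ≤ finrank K V - r
    · rw [k1 he (by omega) h4, zero_smul, add_zero, mul_zero, add_zero]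
      by_cases h5 : i ≤ finrank K V - r'
      · rw [k1 ha h3 h5, zero_smul]
        exact zero_mem _
      · exact Submodule.smul_mem _ _ (flag_mono b (by omega) he)
    · exact flag_mono b (by omega) (add_mem (Submodule.smul_mem _ _ (flag_mono b h1 he)) (Submodule.smul_mem _ _ ha))

theorem exists_root {i j : Fin (finrank K V)} (hij : (j : ℕ) = i + 1) :
    ∃ u ∈ Ub C b, b.repr (nu C u (b j)) i ≠ 0 := by
  have hj := j.2
  have k0 : ∀ i : Fin (finrank K V), 2 * (i : ℕ) + 2 ≤ finrank K V → P.B (b i) (b i) = 0 := fun i hi => by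
    rw [hb, if_neg (by rw [Fin.ext_iff, Fin.val_rev]; omega)]
  have k1 : P.B (b j.rev) (b j) = 1 := by rw [hb, Fin.rev_rev, if_pos rfl]
  have k2 : P.B (b i) (b j.rev) = 0 := by rw [hb, if_neg (by rw [Fin.rev_inj, Fin.ext_iff]; omega)]
  have k3 : (j.rev : ℕ) = finrank K V - (j + 1) := Fin.val_rev _
  rcases lt_trichotomy i j.rev with h1 | h1 | h1
  · have h2 : (i : ℕ) < j.rev := h1
    obtain ⟨c, k⟩ := h.exists_tok (k0 i (by omega)) k2
    refine ⟨_, (mem_Ub b).2 (h.T_Nh hb k (b_mem_flag b i.1.lt_succ_self) (b_mem_flag b j.rev.1.lt_succ_self)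
      (by omega) (by omega) (by omega)), ?_⟩
    have : P.B (b i) (b j) = 0 := by rw [hb, if_neg (by rw [Fin.ext_iff, Fin.val_rev]; omega)]
    simp [nu, h.T_app k, k1, this]
  · have h2 : (i : ℕ) = j.rev := congrArg _ h1
    have k := h.tok0 (k0 i (by omega)) (map_one σ)
    refine ⟨_, (mem_Ub b).2 (h.T_Nh hb k (b_mem_flag b i.1.lt_succ_self) (r' := i + 1) (zero_mem _)
      le_rfl (by omega) (by omega)), ?_⟩
    simp [nu, h.T_app k, show P.B (b i) (b j) = 1 from h1 ▸ k1]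
  · have h2 : (j.rev : ℕ) < i := h1
    obtain ⟨c, k⟩ := h.exists_tok (k0 j.rev (by omega)) (P.B_eq_zero_comm.1 k2)
    refine ⟨_, (mem_Ub b).2 (h.T_Nh hb k (b_mem_flag b j.rev.1.lt_succ_self) (b_mem_flag b i.1.lt_succ_self)
      (by omega) (by omega) (by omega)), ?_⟩
    simp [nu, h.T_app k, k1, Finsupp.single_eq_of_ne h1.ne']

theorem mem_succ {i : ℕ} {v : V} (hv : ∀ u ∈ Ub C b, C.act u v - v ∈ flag b i) : v ∈ flag b (i + 1) := by
  have key : ∀ d, v ∈ flag b (i + 1 + d) → v ∈ flag b (i + 1) := fun d => by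
    induction d with
    | zero => exact id
    | succ d ih =>
      refine fun h1 => ih ?_
      by_cases h2 : finrank K V ≤ i + 1 + d
      · rw [flag_top b h2]
        trivial
      obtain ⟨u, hu, h3⟩ := h.exists_root hb (i := ⟨i + d, by omega⟩) (j := ⟨i + 1 + d, by omega⟩) (by dsimp only; omega)
      have h4 := sub_mem_flag b (j := ⟨i + 1 + d, by omega⟩) h1
      have h5 := (mem_flag b).1 ((mem_Nh b).1 ((mem_Ub b).1 hu) _ _ h4) ⟨i + d, by omega⟩ (by dsimp only; omega)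
      have h6 : b.repr (nu C u v) ⟨i + d, by omega⟩ = 0 := (mem_flag b).1 (hv u hu) _ (by dsimp only; omega)
      rw [map_sub, map_smul, map_sub, map_smul, Finsupp.sub_apply, h6, zero_sub, neg_eq_zero, Finsupp.smul_apply,
        smul_eq_mul] at h5
      rwa [(mul_eq_zero.1 h5).resolve_right h3, zero_smul, sub_zero] at h4
  exact key (finrank K V) (by rw [flag_top b (by omega)]; trivial)

theorem rad_le_Ub : Rad C (flag b 1) ≤ Ub C b ∧ Rad C (flag b 2) ≤ Ub C b := by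
  have := h.d4
  exact ⟨h.rad_le hb (by omega), h.rad_le hb (by omega)⟩

theorem Ub_le_stb (i : ℕ) : Ub C b ≤ Stb C (flag b i) := by
  exact fun s hs => (hs i).1

/-- a 2-group of linear maps containing `Ub` is unitriangular -/
theorem syl_flag {H : Subgroup (V ≃ₗ[K] V)} (h2 : IsPGroup 2 H) (hU : ∀ s ∈ Ub C b, C.act s ∈ H)
    {g : V ≃ₗ[K] V} (hg : g ∈ H) : g.toLinearMap - LinearMap.id ∈ Nh b 1 := by
  have key : ∀ i, ∀ g ∈ H, ∀ v ∈ flag b i, g v - v ∈ flag b (i - 1) := fun i => by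
    induction i with
    | zero =>
      intro g _ v hv
      rw [flag_zero, Submodule.mem_bot] at hv
      rw [hv, map_zero, sub_zero]
      exact zero_mem _
    | succ i ih =>
      have h1 : ∀ g ∈ H, ∀ v ∈ flag b i, g v ∈ flag b i := fun g hg v hv => by
        simpa using add_mem (flag_mono b (Nat.sub_le _ _) (ih g hg v hv)) hv
      intro g hg w hw
      by_cases hi : finrank K V ≤ i
      · rw [Nat.add_sub_cancel, flag_top b hi]
        trivial
      obtain ⟨v, hv, hv'⟩ := exists_fixed_quot h.two h2 h1 (x := b ⟨i, by omega⟩)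
        fun hx => by simpa using (mem_flag b).1 hx ⟨i, by omega⟩ le_rfl
      have h3 := sub_mem_flag b (j := ⟨i, by omega⟩) (h.mem_succ hb fun u hu => hv' _ (hU u hu))
      have h4 := sub_mem_flag b (j := ⟨i, by omega⟩) hw
      have h5 : b.repr v ⟨i, by omega⟩ ≠ 0 := fun e => hv (by simpa [e] using h3)
      generalize b.repr v ⟨i, by omega⟩ = x at h3 h5
      generalize b.repr w ⟨i, by omega⟩ = y at h4
      have h6 : w - (y / x) • v ∈ flag b i := by
        convert sub_mem h4 (Submodule.smul_mem _ (y / x) h3) using 1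
        rw [smul_sub, smul_smul, div_mul_cancel₀ _ h5]
        abel
      rw [Nat.add_sub_cancel]
      convert add_mem (sub_mem (h1 g hg _ h6) h6) (Submodule.smul_mem _ (y / x) (hv' g hg)) using 1
      rw [map_sub, map_smul, smul_sub]
      abel
  exact (mem_Nh b).2 fun i => key i g hg

theorem Ub_max {H : Subgroup S} (h2 : IsPGroup 2 H) (hU : Ub C b ≤ H) : H = Ub C b := by
  exact le_antisymm (fun s hs => (mem_Ub b).2 (h.syl_flag hb (h2.map C.act)
    (fun u hu => mem_map_of_mem _ (hU hu)) (mem_map_of_mem _ hs))) hU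

theorem ti_flag {r : ℕ} (hr : 2 * r ≤ finrank K V) : TI P (flag b r) :=
  (flag_mono b (by omega)).trans (h.perp_flag hb (by omega)).ge

theorem Ub_cent : Ub C b ⊓ centralizer (Ub C b : Set S) = C.fixG (P.perp (flag b 1)) := by
  obtain ⟨e, f, e', f', k, h1, -⟩ := h.exists_flag hb
  have := h.d4
  have ti := h.ti_flag hb (r := 1) (by omega)
  refine le_antisymm (fun s hs v hv => ?_) fun s hs => ⟨(h.rad_le_Ub hb).1 (h.E_le_rad ti hs),
    centralizer_le (Ub_le_fix (C := C) b) (h.E_cent ti hs)⟩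
  rw [h1, P.mem_perp_span_singleton] at hv
  exact h.fix_of_comm k.h₁ (Ub_le_fix b hs.1 e (h1.ge (Submodule.mem_span_singleton_self e))) hv
    fun l c kc => (hs.2 _ ((h.rad_le_Ub hb).1 (h1 ▸ (h.mem_rad_pt (h.hp_ne k.h₁) k.h₁.se.self_eq).2 ⟨_, _, kc, rfl⟩))).symm

/-- the subgroups used for the product case are characteristic -/
theorem char_Ub (θ : MulAut (Ub C b)) (s : Ub C b) :
    ((s : S) ∈ Rad C (flag b 1) → (θ s : S) ∈ Rad C (flag b 1)) ∧
    ((s : S) ∈ Rad C (flag b 2) → (θ s : S) ∈ Rad C (flag b 2)) ∧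
    ((s : S) ∈ Rad C (flag b 1) ⊓ C.fixG (P.perp (flag b 2)) →
      (θ s : S) ∈ Rad C (flag b 1) ⊓ C.fixG (P.perp (flag b 2))) := by
  obtain ⟨e, f, e', f', k, hf, hf2⟩ := h.exists_flag hb
  have := h.d4
  have e0 := h.hp_ne k.h₁
  have ee := k.h₁.se.self_eq
  have me : e ∈ flag b 1 := hf.ge (Submodule.mem_span_singleton_self e)
  have me2 : e ∈ flag b 2 := flag_mono b one_le_two me
  have me' : e' ∈ flag b 2 := hf2.ge (Submodule.subset_span (by simp))
  have xe : ∀ x : Ub C b, C.act x e = e := fun x => Ub_le_fix b x.2 e me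
  have hQ : ∀ {s}, s ∈ Rad C (flag b 1) ↔ ∃ a c, TOk P e a c ∧ s = C.T e a c := hf ▸ h.mem_rad_pt e0 ee
  have hT : ∀ {a c}, TOk P e a c → C.T e a c ∈ Ub C b := fun kc => (h.rad_le_Ub hb).1 (hQ.2 ⟨_, _, kc, rfl⟩)
  have hQ' : ∀ x : Ub C b, (∀ a, P.B e a = 0 → C.act x a - a ∈ flag b 1) → (x : S) ∈ Rad C (flag b 1) :=
    fun x hx => ⟨Ub_le_fix b x.2, fun v hv => hx v (P.mem_perp.1 hv e me)⟩
  have hZ : ∀ x : Ub C b, x ∈ center (Ub C b) ↔ (x : S) ∈ C.fixG (P.perp (flag b 1)) := fun x => by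
    rw [← h.Ub_cent hb, mem_center_iff]
    exact ⟨fun hx => ⟨x.2, fun g hg => congrArg Subtype.val (hx ⟨g, hg⟩)⟩, fun hx g => Subtype.ext (hx.2 g g.2)⟩
  have hA : ∀ x : Ub C b, x ∈ Subgroup.upperCentralSeries (Ub C b) 2 ↔
      (x : S) ∈ Rad C (flag b 1) ⊓ C.fixG (P.perp (flag b 2)) := fun x => by
    simp only [Subgroup.mem_upperCentralSeries_succ_iff (n := 1), Subgroup.upperCentralSeries_one]
    refine ⟨fun hx => ?_, fun hx g => ?_⟩
    · have h1 := hQ' x fun a ha => by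
        obtain ⟨c, kc⟩ := h.exists_tok ee ha
        obtain ⟨d, kd, hd⟩ := h.comm_T kc (xe x)
        exact (h.T_mem_fix_iff kd e0 me).1 (hd ▸ (hZ _).1 (hx ⟨_, hT kc⟩))
      obtain ⟨a, c, kc, hs⟩ := hQ.1 h1
      refine ⟨h1, hs ▸ (h.T_mem_fix_iff kc e0 me2).2 (h.mem_succ hb fun u hu => ?_)⟩
      obtain ⟨d, kd, hd⟩ := h.comm_T kc (xe ⟨u, hu⟩)
      refine (h.T_mem_fix_iff kd e0 me).1 (hd ▸ ?_)
      rw [← hs, ← commutatorElement_inv]
      exact inv_mem ((hZ _).1 (hx ⟨u, hu⟩))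
    · obtain ⟨a, c, kc, hs⟩ := hQ.1 hx.1
      obtain ⟨d, kd, hd⟩ := h.comm_T kc (xe g)
      rw [← commutatorElement_inv, inv_mem_iff, hZ]
      change ⁅(g : S), (x : S)⁆ ∈ _
      rw [hs, hd, h.T_mem_fix_iff kd e0 me]
      exact (g.2 1).2 a ((h.T_mem_fix_iff kc e0 me2).1 (hs ▸ hx.2))
  have hU : ∀ x : Ub C b, x ∈ centralizer (Subgroup.upperCentralSeries (Ub C b) 2 : Set (Ub C b)) ↔
      (x : S) ∈ C.fixG (flag b 2) := fun x => by
    refine ⟨fun hx v hv => h.fix_of_comm k.h₁ (xe x) (P.mem_perp.1 (h.ti_flag hb (by omega) hv) e me2)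
      fun l c kc => ?_, fun hx y hy => Subtype.ext
        (h.E_cent (h.ti_flag hb (by omega)) ((hA y).1 hy).2 _ hx).symm⟩
    exact (congrArg Subtype.val (hx ⟨_, hT kc⟩ ((hA _).2 ⟨hQ.2 ⟨_, _, kc, rfl⟩,
      (h.T_mem_fix_iff kc e0 me2).2 (Submodule.smul_mem _ _ hv)⟩))).symm
  have ch : ∀ (N : Subgroup (Ub C b)) [hN : N.Characteristic] (θ : MulAut (Ub C b)) (x : Ub C b),
      θ x ∈ N ↔ x ∈ N := fun N hN θ x => by
    conv_rhs => rw [← characteristic_iff_comap_eq.1 hN θ]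
    rfl
  have hX : ∀ x : Ub C b, (x : S) ∉ C.fixG (flag b 2) → ((x : S) ∈ Rad C (flag b 1) ↔
      x * x ∈ center (Ub C b) ∧ ∀ g, ⁅x, g * x * g⁻¹⁆ ∈ center (Ub C b)) := fun x hx => by
    refine ⟨fun h1 => ?_, fun ⟨h1, h2⟩ => hQ' x fun a ha => ?_⟩
    · obtain ⟨a, c, kc, hs⟩ := hQ.1 h1
      refine ⟨(hZ _).2 ?_, fun g => (hZ _).2 ?_⟩
      · rw [coe_mul, hs, C.T_mul kc kc, h.T_mem_fix_iff (kc.add kc) e0 me, h.vadd_self]
        exact zero_mem _
      · change ⁅(x : S), g * x * (g : S)⁻¹⁆ ∈ _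
        have kc' := kc.act C g
        rw [xe] at kc'
        obtain ⟨d, kd, hd⟩ := h.comm_T kc' (xe x)
        rw [hs, C.T_conj _ kc, xe, ← hs, hd, h.T_mem_fix_iff kd e0 me]
        exact h1.2 _ (hf ▸ P.mem_perp_span_singleton.2 kc'.perp)
    · obtain ⟨l, hl⟩ := Submodule.mem_span_singleton.1 (hf.le ((x.2 1).2 e' me'))
      have hp : ∀ {v}, P.B e v = 0 → v ∈ P.perp (flag b 1) := fun hv => hf ▸ P.mem_perp_span_singleton.2 hv
      refine hf.ge (h.mem_Q k (l := l) (fun l0 => hx fun v hv => ?_) (xe x) hl.symm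
        (fun v hv => (C.mul_apply _ _ _).symm.trans ((hZ _).1 h1 v (hp hv))) (fun a d kd ha v hv => ?_) ha)
      · rw [l0, zero_smul, eq_comm, sub_eq_zero] at hl
        obtain ⟨α, β, rfl⟩ := Submodule.mem_span_pair.1 (hf2.le hv)
        rw [map_add, map_smul, map_smul, xe, hl]
      · have h3 : C.T e' a d ∈ Ub C b := (mem_Ub b).2 (h.T_Nh hb kd me' ((h.perp_flag hb (i := 2) (by omega)).le
          (hf2 ▸ P.mem_perp_span.2 (by simp [ha, kd.perp]))) (by omega) (by omega) (by omega))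
        have h4 := (hZ _).1 (h2 ⟨_, h3⟩) _ (((⟨_, h3⟩ * x * ⟨_, h3⟩⁻¹ * x : Ub C b).2 _).1 v |>.2
          ((h.perp_flag hb (by omega)).le (hp hv)) |> (h.perp_flag hb (by omega)).ge)
        rw [← C.mul_apply] at h4
        refine Eq.trans ?_ h4
        congr 2
        simp [commutatorElement_def, mul_assoc]
  have hQθ : ∀ (θ : MulAut (Ub C b)) (x : Ub C b), (x : S) ∈ Rad C (flag b 1) → (θ x : S) ∈ Rad C (flag b 1) :=
    fun θ => by
      have h1 : ∀ x : Ub C b, (x : S) ∉ C.fixG (flag b 2) → (x : S) ∈ Rad C (flag b 1) →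
          (θ x : S) ∈ Rad C (flag b 1) := fun x hx hx' => by
        obtain ⟨h1, h2⟩ := (hX x hx).1 hx'
        refine (hX _ (by rwa [← hU, ch, hU])).2 ⟨by rwa [← map_mul, ch], fun g => ?_⟩
        rw [← θ.apply_symm_apply g, ← map_inv, ← map_mul, ← map_mul, ← map_commutatorElement, ch]
        exact h2 _
      intro x hx
      by_cases h2 : (x : S) ∈ C.fixG (flag b 2)
      swap
      · exact h1 x h2 hx
      obtain ⟨c, kc⟩ := h.exists_tok ee k.ef
      have h3 : C.T e f' c ∉ C.fixG (flag b 2) := fun h3 => by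
        simpa [C.T_perp kc k.ee, k.h₂.fe, e0] using h3 e' me'
      have h4 := hQ.2 ⟨_, _, kc, rfl⟩
      have h5 := mul_mem (h1 (x * ⟨_, hT kc⟩) (fun h5 => h3 ((mul_mem_cancel_left h2).1 h5)) (mul_mem hx h4))
        (inv_mem (h1 ⟨_, hT kc⟩ h3 h4))
      simpa using h5
  have hR : ∀ x : Ub C b, (x : S) ∈ Rad C (flag b 2) ↔ (x : S) ∈ C.fixG (flag b 2) ∧ ∀ q : Ub C b,
      (q : S) ∈ Rad C (flag b 1) → (q : S) ∈ C.fixG (flag b 2) → ⁅x, q⁆ ∈ Subgroup.upperCentralSeries (Ub C b) 2 := fun x => by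
    refine and_congr_right fun _ => ⟨fun h1 q h2 h3 => (hA _).2 ?_, fun h1 v hv => ?_⟩
    · obtain ⟨a, c, kc, hs⟩ := hQ.1 h2
      obtain ⟨d, kd, hd⟩ := h.comm_T kc (xe x)
      change ⁅(x : S), (q : S)⁆ ∈ _
      rw [hs, hd]
      refine ⟨hQ.2 ⟨_, _, kd, rfl⟩, (h.T_mem_fix_iff kd e0 me2).2 (h1 a ?_)⟩
      exact (h.T_mem_fix_iff kc e0 (h.ti_flag hb (by omega) me2)).1 (by rwa [P.perp_perp C.nondeg, ← hs])
    · obtain ⟨c, kc⟩ := h.exists_tok ee (P.mem_perp.1 hv e me2)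
      obtain ⟨d, kd, hd⟩ := h.comm_T kc (xe x)
      refine (h.T_mem_fix_iff kd e0 me2).1 (hd ▸ ((hA _).1 (h1 ⟨_, hT kc⟩ (hQ.2 ⟨_, _, kc, rfl⟩) ?_)).2)
      rw [← P.perp_perp C.nondeg (flag b 2)]
      exact (h.T_mem_fix_iff kc e0 (h.ti_flag hb (by omega) me2)).2 hv
  refine ⟨hQθ θ s, fun hs => ?_, fun hs => by rwa [← hA, ch, hA]⟩
  obtain ⟨h1, h2⟩ := (hR s).1 hs
  refine (hR _).2 ⟨by rwa [← hU, ch, hU], fun q h3 h4 => ?_⟩
  rw [← θ.apply_symm_apply q, ← map_commutatorElement, ch]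
  exact h2 _ (hQθ θ.symm q h3) (by rwa [← hU, ch, hU])

/-- a nontrivial normal subgroup of `Ub` is contained in the centre or contains it -/
theorem normal_Ub {J : Subgroup S} (h1 : J ≤ Ub C b) (h2 : Ub C b ≤ normalizer (J : Set S)) :
    J ≤ C.fixG (P.perp (flag b 1)) ∨ C.fixG (P.perp (flag b 1)) ≤ J := by
  obtain ⟨e, f, e', f', k, hf, -⟩ := h.exists_flag hb
  have e0 := h.hp_ne k.h₁
  have ee := k.h₁.se.self_eq
  have me : e ∈ flag b 1 := hf.ge (Submodule.mem_span_singleton_self e)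
  have hT : ∀ {a c}, TOk P e a c → C.T e a c ∈ Ub C b := fun kc =>
    (h.rad_le_Ub hb).1 (hf ▸ (h.mem_rad_pt e0 ee).2 ⟨_, _, kc, rfl⟩)
  have hc : ∀ s ∈ J, ∀ {a c}, TOk P e a c → ⁅s, C.T e a c⁆ ∈ J := fun s hs a c kc => by
    rw [commutatorElement_def, mul_assoc, mul_assoc, ← mul_assoc (C.T e a c)]
    exact mul_mem hs ((mem_normalizer_iff.1 (h2 (hT kc)) _).1 (inv_mem hs))
  refine or_iff_not_imp_left.2 fun h3 => ?_
  obtain ⟨a, c, kc, ha, hJ⟩ : ∃ a c, TOk P e a c ∧ a ∉ flag b 1 ∧ C.T e a c ∈ J := by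
    obtain ⟨s, hs, hs'⟩ := SetLike.not_le_iff_exists.1 h3
    by_cases h4 : ∀ a, P.B e a = 0 → C.act s a - a ∈ flag b 1
    · obtain ⟨a, c, kc, rfl⟩ := (h.mem_rad_pt e0 ee).1 (hf ▸ ⟨Ub_le_fix b (h1 hs), fun v hv =>
        h4 v (P.mem_perp.1 hv e me)⟩ : s ∈ Rad C (span K {e}))
      exact ⟨a, c, kc, fun ha => hs' ((h.T_mem_fix_iff kc e0 me).2 ha), hs⟩
    · push Not at h4
      obtain ⟨a, ha, ha'⟩ := h4
      obtain ⟨c, kc⟩ := h.exists_tok ee ha
      obtain ⟨d, kd, hd⟩ := h.comm_T kc (Ub_le_fix b (h1 hs) e me)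
      exact ⟨_, d, kd, ha', hd ▸ hc s hs kc⟩
  intro s hs
  obtain ⟨r, hr, rfl⟩ := (h.mem_E_pt ee).1 (hf ▸ hs)
  obtain ⟨t, ht⟩ := h.herm.exists_trace_one
  obtain ⟨w, w1, w2⟩ := P.exists_dual_vec C.nondeg _ ha
  obtain ⟨d, kd⟩ := h.exists_tok ee (show P.B e ((r * t) • w) = 0 by simp [P.B_eq_zero_comm.1 (w2 e me)])
  have := hc _ hJ kd
  rw [C.T_commutator kc kd, P.B_smul_left, P.B_smul_right, ← h.conj w a, w1, map_one, map_mul, hr] at this
  convert this using 2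
  linear_combination -r * ht + h.add_self (r * t)

end Mod

end CfsgLib.UN
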