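import Cfsg.Agent.Lib.UN.Tau
import Cfsg.Agent.Lib.UN.FldA
import Cfsg.Agent.Lib.ClSys.SLPres

/-! Field case: the Steinberg relations -/

set_option autoImplicit false
set_option linter.unusedSectionVars false

namespace CfsgLib.UN

open Subgroup Module CfsgLib.Forms CfsgLib.LieMult
open CfsgLib.HX (Std CO Two Mv Tr LR Heis NF Fus4 Has4 M2)
open Submodule (span)
open scoped commutatorElement Pointwise

universe u

variable {K : Type} [Field K] [Finite K] {σ : K →+* K} {V : Type} [AddCommGroup V] [Module K V]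
  [FiniteDimensional K V] {P : PQ σ V} {S : Type} [Group S] [Finite S] {G : Type u} [Group G]
  [Finite G] {C : CG P S} {φ : S →* G} {t : G}

/-- the relations which follow directly from the naturality -/
structure StPre {m : ℕ} (σ : K →+* K) (t : G) (X : Fin m → Fin m → K → G) : Prop where
  d4 : 4 ≤ m
  t2 : t * t = 1
  σσ : ∀ c, σ (σ c) = c
  two : ∀ c : K, c + c = 0
  add : ∀ {i j}, i ≠ j → ∀ a b, X i j a * X i j b = X i j (a + b)
  tc : ∀ {i j}, i ≠ j → ∀ a, t * X i j a * t = X j.rev i.rev (σ a)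
  com : ∀ {i j k l}, i ≠ j → k ≠ l → k ≠ k.rev → i ≠ k.rev → j ≠ k → l ≠ i → ∀ a b,
    X i j a * X k l b * X i j a = X k l b
  ch : ∀ {i j k}, i ≠ j → k ≠ i → k ≠ k.rev → i ≠ k.rev → j ≠ k → ∀ a b,
    X i j a * X k i b * X i j a = X k i b * X k j (b * a)

namespace StPre

theorem cmul {g : G} (g2 : g * g = 1) (a b : G) : g * (a * b) * g = g * a * g * (g * b * g) := by
  calc _ = g * a * (g * g) * b * g := by rw [g2]; group
    _ = _ := by group

theorem cfix {g a : G} (g2 : g * g = 1) (k : Commute g a) : g * a * g = a := by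
  rw [k.eq, mul_assoc, g2, mul_one]

/-- the chain relation -/
def Ch {m : ℕ} (X : Fin m → Fin m → K → G) (i j l : Fin m) : Prop :=
  ∀ a b, X i j a * X j l b * X i j a * X j l b = X i l (a * b)

variable {m : ℕ} {X : Fin m → Fin m → K → G} (h : StPre σ t X) {i j k l o : Fin m}
include h

theorem sq (e : i ≠ j) (a : K) : X i j a * X i j a = 1 := by
  have := h.add e 0 0
  rw [add_zero] at this
  rw [h.add e, h.two, mul_eq_left.1 this]

theorem inv (e : i ≠ j) (a : K) : (X i j a)⁻¹ = X i j a := inv_eq_of_mul_eq_one_right (h.sq e a)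

theorem tc' (e : i ≠ j) (a : K) : X i j a = t * X j.rev i.rev (σ a) * t⁻¹ := by
  rw [inv_eq_of_mul_eq_one_right h.t2, h.tc (Fin.rev_injective.ne e.symm), Fin.rev_rev, Fin.rev_rev, h.σσ]

theorem c1 (e : i ≠ j) (e' : k ≠ l) (e1 : i ≠ k.rev) (e2 : j ≠ k) (e3 : l ≠ i) (a b : K) :
    Commute (X i j a) (X k l b) := by
  have c0 : ∀ {i j k l : Fin m}, i ≠ j → k ≠ l → k ≠ k.rev → i ≠ k.rev → j ≠ k → l ≠ i → ∀ a b,
      Commute (X i j a) (X k l b) := fun e e' e0 e1 e2 e3 a b => by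
    have := h.com e e' e0 e1 e2 e3 a b
    rwa [← h.inv e a, mul_inv_eq_iff_eq_mul, h.inv e a] at this
  have := Fin.val_rev i
  have := Fin.val_rev k
  by_cases e0 : k = k.rev
  · exact (c0 e' e (by omega) (by omega) e3 e2 b a).symm
  · exact c0 e e' e0 e1 e2 e3 a b

theorem c2 (e : i ≠ j) (e' : k ≠ l) (e1 : j ≠ l.rev) (e2 : j ≠ k) (e3 : l ≠ i) (a b : K) :
    Commute (X i j a) (X k l b) := by
  rw [h.tc' e, h.tc' e']
  exact (h.c1 (Fin.rev_injective.ne e.symm) (Fin.rev_injective.ne e'.symm) (Fin.rev_injective.ne e1)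
    (Fin.rev_injective.ne e3.symm) (Fin.rev_injective.ne e2.symm) _ _).conj t

theorem chA (e : i ≠ j) (c : Ch X i j l) (a b : K) :
    X j l b * X i j a * X j l b = X i j a * X i l (a * b) := by
  rw [← c a b, ← mul_assoc, ← mul_assoc, ← mul_assoc, h.sq e, one_mul]

theorem chB (e : i ≠ j) (e' : j ≠ l) (e1 : i ≠ l) (c : Ch X i j l) (a b : K) :
    X i j a * X j l b * X i j a = X j l b * X i l (a * b) := by
  rw [← h.inv e1, ← c a b]
  simp only [mul_inv_rev, h.inv e, h.inv e', ← mul_assoc, h.sq e', one_mul]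

theorem ch1 (e : i ≠ j) (e' : j ≠ l) (e1 : i ≠ l) (e2 : i ≠ i.rev) (e3 : j ≠ i.rev) : Ch X i j l :=
  fun a b => by
    rw [mul_assoc, mul_assoc, ← mul_assoc (X j l b), h.ch e' e e2 e3 e1.symm, ← mul_assoc, h.sq e, one_mul]

theorem chT (e : i ≠ j) (e' : j ≠ l) (e1 : i ≠ l) (c : Ch X l.rev j.rev i.rev) : Ch X i j l := fun a b => by
  have r := fun {i j : Fin m} (e : i ≠ j) => Fin.rev_injective.ne e
  rw [h.tc' e, h.tc' e', h.tc' e1, conj_mul, conj_mul, conj_mul, mul_assoc (X _ _ _), mul_assoc (X _ _ _),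
    h.chB (r e'.symm) (r e.symm) (r e1.symm) c, ← mul_assoc (X _ _ _),
    h.sq (r e.symm), one_mul, map_mul, mul_comm (σ a)]

theorem ch2 (e : i ≠ j) (e' : j ≠ l) (e1 : i ≠ l) (e2 : l ≠ l.rev) (e3 : j ≠ l.rev) : Ch X i j l :=
  have r := fun {i j : Fin m} (e : i ≠ j) => Fin.rev_injective.ne e
  h.chT e e' e1 (h.ch1 (r e'.symm) (r e.symm) (r e1.symm) (r e2) (r e3))

omit h in
theorem exists_k (d4 : 4 ≤ m) (i : Fin m) (ho : o = o.rev) : ∃ k, k ≠ i ∧ k ≠ i.rev ∧ k ≠ o := by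
  have := Fin.val_rev i
  have := Fin.val_rev o
  by_cases e : (i : ℕ) = 0 ∨ (i : ℕ) + 1 = m
  · exact ⟨⟨1, by omega⟩, Fin.ne_of_val_ne (by simp; omega), Fin.ne_of_val_ne (by simp; omega),
      Fin.ne_of_val_ne (by simp; omega)⟩
  · exact ⟨⟨0, by omega⟩, Fin.ne_of_val_ne (by simp; omega), Fin.ne_of_val_ne (by simp; omega),
      Fin.ne_of_val_ne (by simp; omega)⟩

theorem ch3 (e : i ≠ o) (ho : o = o.rev) : Ch X i i.rev o := fun α u => by
  obtain ⟨k, k1, k2, k3⟩ := exists_k h.d4 i ho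
  have := Fin.val_rev i
  have := Fin.val_rev o
  have := Fin.val_rev k
  have := Fin.val_rev i.rev
  have y2 := h.sq (show i.rev ≠ o by omega) u
  have a2 := h.sq k1.symm α
  have e1 := h.ch2 k1.symm k2 (by omega) (by omega) (by omega) α 1
  have e2 := cfix y2 (h.c2 (i := i.rev) (j := o) (by omega) k1.symm (by omega) e.symm k2 u α)
  have e3 := h.chA k2 (h.ch1 (l := o) k2 (by omega) k3 (by omega) (by omega)) 1 u
  have e4 := h.chB k1.symm k3 e (h.ch1 k1.symm k3 e (by omega) k2) α u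
  have e5 := h.c1 e k2 (by omega) k3.symm (by omega) (α * u) 1
  have e6 := h.c1 k3 k2 (by omega) k3.symm k2.symm u 1
  have e7 := cfix (h.sq k3 u) (h.c1 k3 e k2 e.symm k3.symm u (α * u))
  rw [mul_one] at e1
  rw [one_mul] at e3
  have e8 : X i.rev o u * X i i.rev α * X i.rev o u = X i i.rev α * X i o (α * u) := by
    rw [← e1, cmul y2, cmul y2, cmul y2, e2, e3]
    generalize X i k α = a, X k i.rev 1 = c, X k o u = d, X i o (α * u) = e at *
    calc _ = a * c * (a * a) * d * a * c * d := by rw [a2]; group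
      _ = a * c * a * (a * d * a * c) * d := by group
      _ = a * c * a * c * (d * e * d) := by rw [e4, (e6.mul_left e5).eq]; group
      _ = _ := by rw [e7]
  rw [mul_assoc, mul_assoc, ← mul_assoc (X i.rev o u), e8, ← mul_assoc, h.sq (by omega), one_mul]

theorem c3 (e : i ≠ o) (ho : o = o.rev) (u α : K) : Commute (X i o u) (X i.rev o α) := by
  obtain ⟨k, k1, k2, k3⟩ := exists_k h.d4 i ho
  have := Fin.val_rev i
  have := Fin.val_rev o
  have := Fin.val_rev k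
  have := Fin.val_rev i.rev
  have e1 := h.ch1 (l := o) k2.symm k3 (by omega) (by omega) (by omega) α 1
  have e2 := h.c2 e k2.symm (by omega) (by omega) k1 u α
  have e3 := h.c1 e k3 (by omega) k3.symm e.symm u 1
  rw [mul_one] at e1
  exact e1 ▸ ((e2.mul_right e3).mul_right e2).mul_right e3

theorem c5 (e : i ≠ j) (e1 : i ≠ i.rev) (e2 : j ≠ j.rev) (e3 : i ≠ j.rev) (a u : K) :
    Commute (X i j a) (X i.rev j.rev u) := by
  have := Fin.val_rev i
  have := Fin.val_rev j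
  have := Fin.val_rev i.rev
  have := Fin.val_rev j.rev
  have n1 : i.rev ≠ j := by omega
  have n2 : i.rev ≠ j.rev := by omega
  have p2 := h.sq n1 1
  have q2 := h.sq n1.symm 1
  have a1 := h.chA e1 (h.ch2 e1 n1 e e2 n2) a 1
  have a2 := cfix q2 (h.c2 n1.symm e1 (by omega) e1.symm n1 1 a)
  have a3 := h.chA e (h.ch1 e n1.symm e1 e1 n1.symm) a 1
  have a4 := cfix (h.sq e1 a) (h.c1 e1 e e1 e1.symm e.symm a a)
  have a5 := cfix p2 (h.c2 n1 e e2 e.symm n1.symm 1 a)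
  have b1 := h.chB n1 e2 n2 (h.ch1 n1 e2 n2 (by omega) (by omega)) 1 u
  have b2 := cfix q2 (h.c1 n1.symm e2 e2 n1 e2.symm 1 u)
  have b3 := h.chB n1.symm n2 e2 (h.ch1 n1.symm n2 e2 e2 n2) 1 u
  have b4 := cfix (h.sq e2 u) (h.c2 e2 n2 (by omega) n2.symm e2.symm u u)
  have b5 := cfix p2 (h.c1 n1 n2 (by omega) n1.symm n2.symm 1 u)
  rw [mul_one] at a1 a3
  rw [one_mul] at b1 b3
  have := (((h.c1 e1 e2 e3 n1 e3.symm a u).conj (X i.rev j 1)).conj (X j i.rev 1)).conj (X i.rev j 1)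
  rwa [h.inv n1, h.inv n1.symm, a1, b1, cmul q2, cmul q2, a2, a3, b2, b3, ← mul_assoc (X i i.rev a), a4,
    ← mul_assoc (X j j.rev u), b4, a5, b5] at this

theorem relA : ClSys.RelA fun (a : ClSys.OffD m) => X a.1.1 a.1.2 := by
  refine ⟨fun a => h.add a.2, ?_, ?_⟩
  · rintro ⟨⟨i, j⟩, e⟩ ⟨⟨k, l⟩, e'⟩ a b e1 e2
    refine Commute.commutator_eq ?_
    dsimp only at e e' e1 e2 ⊢
    by_cases k1 : i = k.rev
    swap; · exact h.c1 e e' k1 e2 e1.symm a b
    by_cases k2 : j = l.rev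
    swap; · exact h.c2 e e' k2 e2 e1.symm a b
    obtain rfl : k = i.rev := by rw [k1, Fin.rev_rev]
    obtain rfl : l = j.rev := by rw [k2, Fin.rev_rev]
    by_cases k3 : j = j.rev
    · exact k3 ▸ h.c3 e k3 a b
    by_cases k4 : i = i.rev
    · rw [h.tc' e, h.tc' e', Fin.rev_rev i, ← k4]
      exact (h.c3 e1.symm k4 _ _).conj t
    · exact h.c5 e k4 k3 e1 a b
  · rintro ⟨⟨i, j⟩, e⟩ ⟨⟨k, l⟩, e'⟩ e1 a b rfl
    dsimp only at e e' e1 ⊢
    rw [h.inv e, h.inv e']
    have := Fin.val_rev i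
    have := Fin.val_rev l
    by_cases k1 : i ≠ i.rev ∧ j ≠ i.rev
    · exact h.ch1 e e' e1 k1.1 k1.2 a b
    by_cases k2 : l ≠ l.rev ∧ j ≠ l.rev
    · exact h.ch2 e e' e1 k2.1 k2.2 a b
    by_cases k3 : l = l.rev
    · obtain rfl : j = i.rev := by omega
      exact h.ch3 e1 k3 a b
    obtain rfl : j = l.rev := by omega
    exact h.chT e e' e1 (h.ch3 (Fin.rev_injective.ne e1.symm) (congrArg _ (by omega))) a b

end StPre

theorem exists_basis_SL {m : ℕ} (b : Basis (Fin m) K V) : ∃ e : Matrix.SpecialLinearGroup (Fin m) K ≃* SLV K V,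
    ∀ i j (k : i ≠ j) a v, (e (Matrix.SpecialLinearGroup.transvection k a)).1 v = v + (a * b.repr v j) • b i := by
  refine ⟨(Matrix.SpecialLinearGroup.toLin_equiv b).trans
    ⟨⟨fun g => ⟨g.1, g.2⟩, fun g => ⟨g.1, g.2⟩, fun _ => rfl, fun _ => rfl⟩, fun _ _ => rfl⟩,
    fun i j k a v => ?_⟩
  change Matrix.toLin b b (1 + Matrix.single i j a) v = _
  rw [map_add, Matrix.toLin_one, LinearMap.add_apply, LinearMap.id_apply, Matrix.toLin_apply,
    Finset.sum_eq_single i (fun l _ e => by simp [Matrix.mulVec, dotProduct, Matrix.single, e.symm]) (by simp)]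
  simp [Matrix.mulVec, dotProduct, Matrix.single]

namespace Tau

variable {y : V → K → G} {c : K} {τ : V → V → G} (h : Tau C φ t y c τ) {m : ℕ} {b : Basis (Fin m) K V}
include h

theorem tzero {p : V} (hp : P.B p p = 0) : τ p 0 = 1 := by
  have := h.tadd p 0 0 hp (map_zero _) (map_zero _)
  rw [add_zero] at this
  exact mul_eq_left.1 this.symm

theorem stPre (hb : Bas P b) (hm : 4 ≤ m) : ∃ X, StPre σ t X ∧
    ∀ i j, i ≠ i.rev → ∀ a, X i j a = τ (b i) (σ a • b j.rev) := by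
  have hM := h.toMod
  have t2 := h.t2
  have b0 : ∀ {i j : Fin m}, j ≠ i.rev → P.B (b i) (b j) = 0 := fun e => by rw [hb, if_neg e]
  have b1 : ∀ {i j : Fin m} (a : K), i ≠ j → P.B (b i) (a • b j.rev) = 0 := fun a e => by
    rw [map_smul, b0 (Fin.rev_injective.ne e.symm), smul_zero]
  let X : Fin m → Fin m → K → G := fun i j a =>
    if i = i.rev then t * τ (b j.rev) (a • b i) * t else τ (b i) (σ a • b j.rev)
  have x1 : ∀ i j, i ≠ i.rev → ∀ a, X i j a = τ (b i) (σ a • b j.rev) := fun i j e a => if_neg e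
  have x0 : ∀ i j, i = i.rev → ∀ a, X i j a = t * τ (b j.rev) (a • b i) * t := fun i j e a => if_pos e
  have n0 : ∀ {i j : Fin m}, i ≠ j → i = i.rev → j.rev ≠ j.rev.rev := fun {i j} e e' => by
    have := Fin.val_rev i
    have := Fin.val_rev j
    have := Fin.val_rev j.rev
    omega
  have b2 : ∀ {i j : Fin m} (a : K), i ≠ j → P.B (b j.rev) (a • b i) = 0 := fun {i j} a e => by
    rw [map_smul, b0 (by rwa [Fin.rev_rev]), smul_zero]
  have nat : ∀ {i j k l : Fin m}, i ≠ j → k ≠ l → k ≠ k.rev → i ≠ k.rev → j ≠ k → ∀ a u,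
      X i j a * X k l u * X i j a = τ (b k) (σ u • b l.rev + (if l = i then σ (u * a) else 0) • b j.rev) := by
    intro i j k l e e' e0 e1 e2 a u
    rw [x1 k l e0]
    by_cases ei : i = i.rev
    · rw [x0 i j ei, h.nat' _ _ _ _ (b0 (n0 e ei)) (b0 e0) (b0 (by rw [Fin.rev_rev]; exact e2.symm)) (b2 a e)
        (by rw [map_smul, b0 e1, smul_zero]) (b1 _ e'), P.B_smul_left, map_smul, hb]
      simp only [Fin.rev_inj, map_mul, smul_eq_mul, mul_ite, mul_one, mul_zero, mul_comm (σ a), ite_mul, zero_mul]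
    · rw [x1 i j ei, h.nat _ _ _ _ (b0 ei) (b0 e0) (b0 fun k => e1 (by rw [k, Fin.rev_rev])) (b1 _ e)
        (b1 _ e2.symm) (b1 _ e'), map_smul, hb, smul_smul]
      simp only [Fin.rev_inj, map_mul, smul_eq_mul, mul_ite, mul_one, mul_zero, ite_mul, zero_mul]
  refine ⟨X, ⟨hm, t2, hM.σσ, hM.add_self, fun {i j} e a a' => ?_, fun {i j} e a => ?_,
    fun {i j k l} e e' e0 e1 e2 e3 a u => ?_, fun {i j k} e e' e0 e1 e2 a u => ?_⟩, x1⟩
  · by_cases ei : i = i.rev
    · rw [x0 i j ei, x0 i j ei, x0 i j ei, add_smul, h.tadd _ _ _ (b0 (n0 e ei)) (b2 _ e) (b2 _ e),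
        StPre.cmul t2]
    · rw [x1 i j ei, x1 i j ei, x1 i j ei, map_add, add_smul, h.tadd _ _ _ (b0 ei) (b1 _ e) (b1 _ e)]
  · by_cases ei : i = i.rev
    · rw [x0 i j ei, x1 _ _ (n0 e ei), hM.σσ, Fin.rev_rev, StPre.cmul t2, StPre.cmul t2, t2]
      simp [← mul_assoc, t2, mul_assoc _ t t]
    rw [x1 i j ei]
    by_cases ej : j.rev = j.rev.rev
    · rw [x0 _ _ ej, Fin.rev_rev i]
    · rw [x1 _ _ ej, Fin.rev_rev i, h.tt _ _ (b0 ei) (by
        rw [P.B_smul_left, map_smul, b0 ej, smul_zero, mul_zero]) (b1 _ e),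
        h.tsmul _ _ _ (b0 ej) (b0 (by rwa [Fin.rev_rev]))]
  · rw [nat e e' e0 e1 e2, if_neg e3, zero_smul, add_zero, x1 k l e0]
  · rw [nat e e' e0 e1 e2, if_pos rfl, h.tadd _ _ _ (b0 e0) (b1 _ e') (b1 _ e2.symm), x1 k i e0, x1 k j e0]

end Tau

theorem Tau.dbl {y : V → K → G} {c : K} {τ : V → V → G} (h : Tau C φ t y c τ) :
    ∃ ψ, DblF C φ t y c ψ := by
  have hM := h.toMod
  obtain ⟨b, hb⟩ := hM.exists_bas
  obtain ⟨X, hX, x1⟩ := h.stPre hb hM.d4
  obtain ⟨ψ₀, hψ⟩ := hX.relA.exists_hom (le_trans (by omega) hM.d4)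
  obtain ⟨e, he⟩ := exists_basis_SL b
  set ψ := ψ₀.comp e.symm.toMonoidHom
  have ti : t⁻¹ = t := inv_eq_of_mul_eq_one_right h.t2
  have a1 : ∀ i j (k : i ≠ j) a, ∃ g : SLV K V, g = e (Matrix.SpecialLinearGroup.transvection k a) ∧
      (∀ v, g.1 v = v + (a * P.B (b j.rev) v) • b i) ∧ ψ g = X i j a := fun i j k a =>
    ⟨_, rfl, fun v => by rw [he, hb.repr], (congrArg ψ₀ (e.symm_apply_apply _)).trans (hψ ⟨(i, j), k⟩ a)⟩
  have gen : ∀ H : Subgroup (SLV K V), (∀ i j, i ≠ j → ∀ a g,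
      (∀ v, g.1 v = v + (a * P.B (b j.rev) v) • b i) → ψ g = X i j a → g ∈ H) → ∀ g, g ∈ H := fun H k g => by
    have := (Classical.sl_eq_top_of_transvection_mem (H.comap e.toMonoidHom) fun i j ij a => by
      obtain ⟨g, rfl, k1, k2⟩ := a1 i j ij a
      exact k i j ij a _ k1 k2).ge (mem_top (e.symm g))
    simpa using this
  have nd : ∀ (g : SLV K V) {w w' : V}, (∀ v, P.B (g.1 v) w = P.B (g.1 v) w') → w = w' := fun g w w' k =>
    sub_eq_zero.1 (C.nondeg _ fun v => by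
      obtain ⟨v, rfl⟩ := g.1.surjective v
      rw [← hM.conj, map_sub, k, sub_self, map_zero])
  have tc : ∀ g g' : SLV K V, (∀ v v', P.B (g.1 v) (g'.1 v') = P.B v v') → t * ψ g * t⁻¹ = ψ g' := by
    intro g g' k
    obtain ⟨g'', k1, k2⟩ := gen
      { carrier := {g | ∃ g' : SLV K V, (∀ v v', P.B (g.1 v) (g'.1 v') = P.B v v') ∧ t * ψ g * t⁻¹ = ψ g'}
        one_mem' := ⟨1, fun _ _ => rfl, by simp⟩
        mul_mem' := by
          rintro a a' ⟨d, k1, k2⟩ ⟨d', k1', k2'⟩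
          exact ⟨d * d', fun v v' => (k1 _ _).trans (k1' v v'), by rw [map_mul, map_mul, ← k2, ← k2', conj_mul]⟩
        inv_mem' := by
          rintro a ⟨d, k1, k2⟩
          exact ⟨d⁻¹, fun v v' => (k1 _ _).symm.trans (by simp), by rw [map_inv, map_inv, ← k2, conj_inv]⟩ }
      (fun i j ij a g k1 k2 => by
        obtain ⟨g', -, k3, k4⟩ := a1 j.rev i.rev (Fin.rev_injective.ne ij.symm) (σ a)
        refine ⟨g', fun v v' => ?_, by rw [k2, k4, ti, hX.tc ij]⟩
        rw [k1, k3, Fin.rev_rev]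
        simp only [map_add, map_smul, LinearMap.add_apply, P.B_smul_left, smul_eq_mul, map_mul, hM.conj, hb i,
          Fin.rev_inj, if_neg ij.symm]
        linear_combination hM.add_self (σ a * P.B (b i) v' * P.B v (b j.rev))) g
    rwa [show g' = g'' from Subtype.ext (LinearEquiv.ext fun v' => nd g fun v => (k v v').trans (k1 v v').symm)]
  have key : ∀ i, i ≠ i.rev → ∀ r, P.B (b i) r = 0 →
      ∃ g : SLV K V, (∀ v, g.1 v = v + P.B r v • b i) ∧ ψ g = τ (b i) r := fun i ei r hr => by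
    have bi : P.B (b i) (b i) = 0 := by rw [hb, if_neg ei]
    have z0 : P.B (b i) 0 = 0 ∧ ∃ g : SLV K V, (∀ v, g.1 v = v + P.B 0 v • b i) ∧ ψ g = τ (b i) 0 :=
      ⟨map_zero _, 1, fun v => by simp, by rw [map_one, h.tzero bi]⟩
    rw [← b.sum_repr r]
    refine (Finset.sum_induction _ (fun r => P.B (b i) r = 0 ∧
      ∃ g : SLV K V, (∀ v, g.1 v = v + P.B r v • b i) ∧ ψ g = τ (b i) r) ?_ z0 fun j _ => ?_).2
    · rintro r r' ⟨k1, g, k2, k3⟩ ⟨k1', g', k2', k3'⟩
      refine ⟨by rw [map_add, k1, k1', add_zero], g * g', fun v => ?_,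
        by rw [map_mul, k3, k3', h.tadd _ _ _ bi k1 k1']⟩
      change g.1 (g'.1 v) = _
      rw [k2, k2', map_add, map_smul, ← hM.conj (b i) r, k1, map_zero, smul_zero, add_zero, P.B_add_left,
        add_smul, add_right_comm, add_assoc]
    by_cases ij : i = j.rev
    · rw [hb.repr, ← ij, hr, zero_smul]; exact z0
    obtain ⟨g, -, k1, k2⟩ := a1 i j.rev ij (σ (b.repr r j))
    rw [Fin.rev_rev] at k1
    rw [x1 _ _ ei, hM.σσ, Fin.rev_rev] at k2
    exact ⟨by rw [map_smul, hb, if_neg fun k => ij (by rw [k, Fin.rev_rev]), smul_zero], g,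
      fun v => by rw [k1, P.B_smul_left], k2⟩
  have ext : ∀ (s : S) (g : SLV K V), (g : V ≃ₗ[K] V) = C.act s → ψ g = φ s := by
    intro s g k
    obtain ⟨g', k1, k2⟩ := (hM.gen_Q hb (H :=
      { carrier := {s | ∃ g : SLV K V, (g : V ≃ₗ[K] V) = C.act s ∧ ψ g = φ s}
        one_mem' := ⟨1, (map_one _).symm, by simp⟩
        mul_mem' := by
          rintro a a' ⟨d, k1, k2⟩ ⟨d', k1', k2'⟩
          exact ⟨d * d', by rw [map_mul, ← k1, ← k1']; rfl, by rw [map_mul, map_mul, k2, k2']⟩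
        inv_mem' := by
          rintro a ⟨d, k1, k2⟩
          exact ⟨d⁻¹, by rw [map_inv, ← k1]; rfl, by rw [map_inv, map_inv, k2]⟩ }) fun i ei a d k => by
      obtain ⟨pp, pa, aa⟩ := hM.tok.1 k
      have ap := k.perp'
      obtain ⟨g1, k1, l1⟩ := key i ei a pa
      obtain ⟨g2, k2⟩ := hM.exists_dual g1
      obtain ⟨g3, k3, l3⟩ := key i ei (σ d • b i) (by rw [map_smul, pp, smul_zero])
      have k4 : ∀ v, g2.1 v = v + P.B (b i) v • a := fun v => nd g1 fun w => by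
        rw [k2, k1]
        simp only [map_add, map_smul, LinearMap.add_apply, P.B_smul_left, smul_eq_mul, hM.conj, pa]
        linear_combination -hM.add_self (P.B (b i) v * P.B w a)
      refine ⟨g1 * g2 * g3, LinearEquiv.ext fun v => ?_, ?_⟩
      · change g1.1 (g2.1 (g3.1 v)) = _
        rw [hM.T_app k, k1, k4, k3]
        simp only [map_add, map_smul, P.B_smul_left, smul_eq_mul, hM.σσ, pp, ap, ← aa, mul_zero, add_zero]
        rw [show σ d * P.B (b i) v = d * P.B (b i) v + P.B (b i) v * (d + σ d) by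
          linear_combination -hM.add_self (d * P.B (b i) v)]
        module
      · rw [map_mul, map_mul, ← tc g1 g2 k2, l1, l3, ti]
        exact (h.ext _ _ _ k).symm).ge (mem_top s)
    rwa [show g = g' from Subtype.ext (k.trans k1.symm)]
  have rng : φ.range ≤ ψ.range := by
    rintro _ ⟨s, rfl⟩
    obtain ⟨g, k⟩ := hM.exists_incl s
    exact ⟨g, ext s g k⟩
  refine ⟨ψ, h.toHQ, (hM.SLV_simp _ inferInstance).resolve_right fun k => h.toEmb.not_cent ?_, ext, tc,
    le_antisymm ?_ (sup_le rng ((closure_le _).2 ?_))⟩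
  · intro g hg
    obtain ⟨g, rfl⟩ := rng hg
    rw [show ψ g = 1 from k.ge (mem_top g)]
    exact one_mem _
  · rintro _ ⟨g, rfl⟩
    refine gen ((G0 C φ y).comap ψ) (fun i j ij a g _ k => ?_) g
    have b0 : ∀ {i j : Fin (finrank K V)}, i ≠ j → i ≠ i.rev → ∀ a : K,
        P.B (b i) (b i) = 0 ∧ P.B (b i) (a • b j.rev) = 0 := fun e e' a =>
      ⟨by rw [hb, if_neg e'], by rw [map_smul, hb, if_neg (Fin.rev_injective.ne e.symm), smul_zero]⟩
    rw [mem_comap, k]
    by_cases ei : i = i.rev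
    · have ej : j.rev ≠ j.rev.rev := by
        have := Fin.val_rev i
        have := Fin.val_rev j
        have := Fin.val_rev j.rev
        omega
      obtain ⟨pp, pa⟩ := b0 (Fin.rev_injective.ne ij.symm) ej (σ (σ a))
      obtain ⟨d, hd⟩ := hM.exists_tok pp pa
      rw [hX.tc' ij, x1 _ _ ej, ti, ← mul_mem_cancel_left (h.mem _ _ pp pa), ← mul_mem_cancel_right
        (h.mem _ (σ d • b j.rev) pp (by rw [map_smul, pp, smul_zero])), ← h.ext _ _ _ hd]
      exact mem_sup_left ⟨_, rfl⟩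
    · rw [x1 _ _ ei]
      exact h.mem _ _ (b0 ij ei 0).1 (b0 ij ei _).2
  · rintro _ ⟨p, s, pp, hs, rfl⟩
    by_cases p0 : p = 0
    · have := h.add p 0 0 pp (map_zero σ) (map_zero σ)
      rw [add_zero] at this
      rw [← zero_smul K p |>.trans p0.symm, h.smul p s 0 pp hs, mul_zero, zero_mul, mul_eq_left.1 this.symm]
      exact one_mem _
    let i : Fin (finrank K V) := ⟨0, by have := hM.d4; omega⟩
    have ei : i ≠ i.rev := Fin.ne_of_val_ne (by have := hM.d4; simp [i]; omega)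
    have bi : P.B (b i) (b i) = 0 := by rw [hb, if_neg ei]
    obtain ⟨l, rfl⟩ := hM.trans (b.ne_zero i) bi p0 pp
    obtain ⟨a, ha⟩ := h.hy _ s bi hs
    obtain ⟨g, -, k⟩ := key i ei (a • b i) (by rw [map_smul, bi, smul_zero])
    rw [← h.eqv l _ s bi hs, ha, ← k]
    exact mul_mem (mul_mem (rng ⟨l, rfl⟩) ⟨g, rfl⟩) (inv_mem (rng ⟨l, rfl⟩))

end CfsgLib.UN
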