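import Cfsg.Agent.Lib.UN.Defs

/-! The geometry of the Hermitian space -/

set_option autoImplicit false
set_option linter.unusedSectionVars false
set_option linter.unusedSimpArgs false

namespace CfsgLib.UN

open Subgroup Module CfsgLib.Forms CfsgLib.LieMult
open CfsgLib.HX (Std CO Two Mv Tr LR Heis NF Fus4 Has4 M2)
open Submodule (span)
open scoped commutatorElement Pointwise

universe u

variable {K : Type} [Field K] [Finite K] {σ : K →+* K} {V : Type} [AddCommGroup V] [Module K V]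
  [FiniteDimensional K V] {P : PQ σ V} {S : Type} [Group S] [Finite S] {G : Type u} [Group G]
  [Finite G] {C : CG P S} {φ : S →* G} {t : G}

namespace Mod

variable (h : Mod C)
include h

theorem add_self (c : K) : c + c = 0 := by
  linear_combination c * h.two

theorem vadd_self (v : V) : v + v = 0 := by
  rw [← two_smul K v, h.two, zero_smul]

theorem neg_eq (c : K) : -c = c := by linear_combination (-c) * h.two

theorem vneg_eq (v : V) : -v = v := neg_eq_of_add_eq_zero_left (h.vadd_self v)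

theorem sub_eq (c d : K) : c - d = c + d := by rw [sub_eq_add_neg, h.neg_eq]

theorem vsub_eq (v v' : V) : v - v' = v + v' := by rw [sub_eq_add_neg, h.vneg_eq]

theorem eq_of_add {c d : K} (e : c + d = 0) : c = d := by linear_combination e - d * h.two

theorem veq_of_add {v v' : V} (e : v + v' = 0) : v = v' := by
  rw [← h.vsub_eq] at e; exact sub_eq_zero.1 e

theorem σσ (c : K) : σ (σ c) = c := P.σσ c

theorem sing {e : V} : P.Sing e ↔ P.B e e = 0 := h.herm.sing_iff e

theorem B_comm {v v' : V} (e : P.B v v' = 0) : P.B v' v = 0 := P.B_eq_zero_comm.1 e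

theorem conj (v v' : V) : σ (P.B v v') = P.B v' v := C.conj v v'

theorem tok {e a : V} {c : K} : TOk P e a c ↔ P.B e e = 0 ∧ P.B e a = 0 ∧ c + σ c = P.B a a := tok_iff h.herm

theorem tok0 {e : V} {s : K} (he : P.B e e = 0) (hs : σ s = s) : TOk P e 0 s := 
  h.tok.2 ⟨he, by simp, by rw [hs, h.add_self]; simp⟩

theorem tok1 {e a : V} {s : K} (he : P.B e e = 0) (ha : P.B a a = 0) (hea : P.B e a = 0)
    (hs : σ s = s) : TOk P e a s := 
  h.tok.2 ⟨he, hea, by rw [hs, h.add_self, ha]⟩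

theorem exists_tok {e a : V} (he : P.B e e = 0) (hea : P.B e a = 0) : ∃ c, TOk P e a c := 
  ⟨_, TOk.self (h.sing.2 he) hea⟩

theorem hp_iff {e f : V} : HP P e f ↔ P.B e e = 0 ∧ P.B f f = 0 ∧ P.B e f = 1 := 
  ⟨fun k => ⟨k.se.self_eq, k.sf.self_eq, k.ef⟩, fun k =>
    ⟨h.sing.2 k.1, h.sing.2 k.2.1, k.2.2, by rw [← h.conj, k.2.2, map_one]⟩⟩

theorem T_app {e a : V} {c : K} (k : TOk P e a c) (v : V) :
    C.act (C.T e a c) v = v + (P.B a v + σ c * P.B e v) • e + P.B e v • a := by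
  rw [C.T_apply k, tfun, h.vsub_eq, h.sub_eq]

theorem T_symm {e a : V} (he : P.B e e = 0) (ha : P.B a a = 0) (hea : P.B e a = 0) :
    C.T e a 0 = C.T a e 0 := by
  refine C.ext fun v => ?_
  rw [h.T_app (h.tok1 he ha hea (map_zero σ)), h.T_app (h.tok1 ha he (h.B_comm hea) (map_zero σ))]
  simp only [map_zero, zero_mul, add_zero]
  abel

theorem T_shift {e a : V} {c : K} (k : TOk P e a c) (l : K) :
    TOk P e (a + l • e) c ∧ TOk P e a (c + l + σ l) ∧ C.T e (a + l • e) c = C.T e a (c + l + σ l) := by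
  obtain ⟨k1, k2, k3⟩ := h.tok.1 k
  have a1 : TOk P e (a + l • e) c := h.tok.2 ⟨k1, by simp [k1, k2], by simp [k1, k2, h.B_comm k2, k3]⟩
  have a2 : TOk P e a (c + l + σ l) := h.tok.2 ⟨k1, k2, by
    rw [map_add, map_add, h.σσ, ← k3]; linear_combination (l + σ l) * h.two⟩
  refine ⟨a1, a2, C.ext fun v => ?_⟩
  rw [h.T_app a1, h.T_app a2]
  simp only [map_add, h.σσ, LinearMap.add_apply, P.B_smul_left]
  module

theorem T_line {e a : V} {s : K} (he : P.B e e = 0) (ha : P.B a a = 0) (hea : P.B e a = 0)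
    (hs : σ s = s) (l : K) :
    C.T (a + l • e) 0 s = C.T a 0 s * C.T e 0 (σ l * l * s) * C.T e ((σ l * s) • a) 0 := by
  have hae := h.B_comm hea
  have a1 : P.B (a + l • e) (a + l • e) = 0 := by simp [he, ha, hea, hae]
  have a2 : σ (σ l * l * s) = σ l * l * s := by rw [map_mul, map_mul, h.σσ, hs]; ring
  refine C.ext fun v => ?_
  rw [C.mul_apply, C.mul_apply, h.T_app (h.tok0 a1 hs), h.T_app (h.tok0 ha hs),
    h.T_app (h.tok0 he a2), h.T_app (h.tok1 (a := (σ l * s) • a) he (by simp [ha]) (by simp [hea])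
      (map_zero σ))]
  simp only [map_add, map_smul, map_zero, LinearMap.add_apply, P.B_smul_left, he, ha, hea, hae, hs,
    a2, smul_eq_mul, LinearMap.zero_apply, map_mul, h.σσ]
  module

theorem T_eq_one {e a : V} {c : K} (k : TOk P e a c) (he : e ≠ 0) :
    C.T e a c = 1 ↔ ∃ l, a = l • e ∧ c = l + σ l := by
  obtain ⟨k1, k2, k3⟩ := h.tok.1 k
  constructor
  · intro e1
    obtain ⟨f, -, hf⟩ := C.exists_HP (S := ⊥) disjoint_bot_left k.sing he (by simp [P.perp_bot])
    have a1 := h.T_app k f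
    rw [e1, C.one_apply, hf.ef, mul_one, one_smul, add_assoc, left_eq_add] at a1
    have a2 := (h.veq_of_add a1).symm
    refine ⟨_, a2, ?_⟩
    have a3 := congrArg (fun v => P.B f v) a2
    simp only [map_smul, hf.fe, smul_eq_mul, mul_one] at a3
    rw [map_add, h.conj, h.σσ, a3]
    linear_combination (-P.B a f - σ c) * h.two - k3 + (P.B a a) * h.two + (h.tok.1 k).2.2 -
      (P.B a a) * h.two
  · rintro ⟨l, rfl, rfl⟩
    refine C.ext fun v => ?_
    rw [h.T_app k, C.one_apply, P.B_smul_left, map_add, h.σσ]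
    match_scalars
    · rfl
    · linear_combination (σ l * P.B e v + l * P.B e v) * h.two

theorem small_iff : Small σ ↔ Nat.card (Fx σ) = 2 := by
  rw [Nat.card_eq_two_iff' (0 : Fx σ)]
  constructor
  · intro hs
    refine ⟨1, one_ne_zero, fun y hy => Subtype.ext ?_⟩
    exact (hs y.1 y.2).resolve_left fun e => hy (Subtype.ext e)
  · rintro ⟨y, -, hy⟩ c hc
    by_cases c0 : c = 0
    · exact Or.inl c0
    · exact Or.inr (congrArg Subtype.val ((hy ⟨c, hc⟩ fun e => c0 (congrArg Subtype.val e)).trans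
        (hy 1 one_ne_zero).symm))

theorem big_iff : ¬ Small σ ↔ 2 < Nat.card (Fx σ) := by
  rw [h.small_iff]
  have := Finite.one_lt_card (α := Fx σ)
  omega

theorem exists_big (hs : ¬ Small σ) : ∃ c, σ c = c ∧ c ≠ 0 ∧ c ≠ 1 := by
  by_contra H
  refine hs fun c hc => ?_
  by_contra H'
  exact H ⟨c, hc, fun e => H' (Or.inl e), fun e => H' (Or.inr e)⟩

theorem exists_tr {c : K} (hc : σ c = c) : ∃ d, d + σ d = c := by
  obtain ⟨θ, hθ⟩ := h.herm.exists_trace_one
  exact ⟨c * θ, by rw [map_mul, hc, ← mul_add, hθ, mul_one]⟩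

theorem card_K : Nat.card K = Nat.card (Fx σ) ^ 2 := by
  let τ : K →+ K := AddMonoidHom.id K + σ.toAddMonoidHom
  have hτ : ∀ c, τ c = c + σ c := fun _ => rfl
  have e1 : τ.ker = (Fx σ).toAddSubgroup := by
    ext c
    rw [AddMonoidHom.mem_ker, hτ]
    exact ⟨fun e => (h.eq_of_add e).symm, fun e => by
      rw [show σ c = c from e, h.add_self]⟩
  have e2 : τ.range = (Fx σ).toAddSubgroup := by
    ext c
    constructor
    · rintro ⟨d, rfl⟩
      show σ (τ d) = τ d
      rw [hτ, map_add, h.σσ, add_comm]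
    · intro e
      exact h.exists_tr e
  have e3 := AddSubgroup.card_mul_index τ.ker
  rw [AddSubgroup.index_ker, e1, e2] at e3
  rw [← e3, sq]
  rfl

theorem sq_inj {c d : K} (e : c * c = d * d) : c = d :=
  h.eq_of_add (mul_self_eq_zero.1 (by linear_combination e + (d * d + c * d) * h.two))

theorem exists_sqrt (c : K) : ∃ d, d * d = c ∧ (σ c = c → σ d = d) ∧ (σ c * c = 1 → σ d * d = 1) := by
  have : CharP K 2 := CharTwo.of_one_ne_zero_of_two_eq_zero one_ne_zero h.two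
  obtain ⟨d, rfl⟩ := isSquare_of_charTwo' c
  refine ⟨d, rfl, fun e => h.sq_inj (by rw [← map_mul, e]), fun e => h.sq_inj ?_⟩
  rw [map_mul] at e
  linear_combination e

theorem eq_one_of_sq {c : K} (e : c * c = 1) : c = 1 := h.sq_inj (by rw [e, mul_one])

/-- `σ` as an automorphism -/
def sig : RingAut K := RingEquiv.ofRingHom σ σ (RingHom.ext h.σσ) (RingHom.ext h.σσ)

theorem sig_apply (c : K) : h.sig c = σ c := rfl

theorem sig_sq : h.sig * h.sig = 1 := RingEquiv.ext h.σσ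

theorem sig_ne : h.sig ≠ 1 := fun e => h.herm.σ_ne (RingHom.ext fun c => by
  rw [← h.sig_apply, e]; rfl)

theorem aut_sq {α : RingAut K} (e : α * α = 1) : α = 1 ∨ ∀ c, α c = σ c := by
  classical
  have := HX.HA.cyc_ringAut (K := K)
  have : Finite (RingAut K) := Finite.of_injective (fun α : RingAut K => (α : K → K))
    DFunLike.coe_injective
  let _ := Fintype.ofFinite (RingAut K)
  by_contra H
  rw [not_or] at H
  have a1 : α ≠ h.sig := fun e => H.2 fun c => by rw [e]; rfl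
  have a2 := IsCyclic.card_pow_eq_one_le (α := RingAut K) (n := 2) two_pos
  have a3 : ({1, h.sig, α} : Finset (RingAut K)) ⊆ Finset.univ.filter fun a => a ^ 2 = 1 := by
    intro x hx
    simp only [Finset.mem_insert, Finset.mem_singleton] at hx
    rcases hx with rfl | rfl | rfl <;> simp [sq, h.sig_sq, e]
  have a4 := Finset.card_le_card a3
  rw [Finset.card_eq_three.2 ⟨_, _, _, h.sig_ne.symm, Ne.symm H.1, a1.symm, rfl⟩] at a4
  omega

theorem aut_cyc : IsCyclic (RingAut K) := HX.HA.cyc_ringAut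

theorem aut_comm (α : RingAut K) (c : K) : α (σ c) = σ (α c) := by
  have := h.aut_cyc
  have e : α * h.sig = h.sig * α := IsCyclic.isMulCommutative.is_comm.comm α h.sig
  exact congrArg (fun β : RingAut K => β c) e

theorem aut_fix {α : RingAut K} (e : ∀ c, σ c = c → α c = c) : α = 1 ∨ ∀ c, α c = σ c := by
  obtain ⟨θ, hθ⟩ := h.herm.exists_trace_one
  have a1 : ∀ c, ∃ a b, σ a = a ∧ σ b = b ∧ c = a + b * θ := fun c =>
    ⟨c + (c + σ c) * θ, c + σ c, by
      simp only [map_add, map_mul, h.σσ]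
      linear_combination (c + σ c) * hθ - (c * θ + σ c * θ - σ c) * h.two, by
      rw [map_add, h.σσ, add_comm], by linear_combination (-(c + σ c) * θ) * h.two⟩
  have a2 : α (θ * σ θ) = θ * σ θ := e _ (by rw [map_mul, h.σσ, mul_comm])
  have a3 : σ θ = 1 - θ := by linear_combination hθ
  rw [a3, map_mul, map_sub, map_one] at a2
  have a4 : (α θ - θ) * (α θ - σ θ) = 0 := by rw [a3]; linear_combination -a2
  rcases mul_eq_zero.1 a4 with a5 | a5
  · refine Or.inl (RingEquiv.ext fun c => ?_)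
    obtain ⟨a, b, ha, hb, rfl⟩ := a1 c
    rw [map_add, map_mul, e a ha, e b hb, sub_eq_zero.1 a5]; rfl
  · refine Or.inr fun c => ?_
    obtain ⟨a, b, ha, hb, rfl⟩ := a1 c
    rw [map_add, map_mul, e a ha, e b hb, sub_eq_zero.1 a5, map_add, map_mul, ha, hb]

theorem exists_hp {e : V} (h0 : e ≠ 0) (he : P.B e e = 0) : ∃ f, HP P e f := by
  obtain ⟨f, -, hf⟩ := C.exists_HP (S := ⊥) disjoint_bot_left (h.sing.2 he) h0 (by simp [P.perp_bot])
  exact ⟨f, hf⟩

/-- a subspace of dimension two contains an isotropic vector -/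
theorem exists_iso {U : Submodule K V} (h2 : 2 ≤ finrank K U) : ∃ x ∈ U, x ≠ 0 ∧ P.B x x = 0 := by
  obtain ⟨u, hu, u0⟩ := Submodule.exists_mem_ne_zero_of_ne_bot (p := U) (by
    rintro rfl; simp at h2)
  by_cases h1 : P.B u u = 0
  · exact ⟨u, hu, u0, h1⟩
  obtain ⟨v, hv, v0⟩ : ∃ v ∈ U, v ∉ span K {u} := by
    by_contra H
    have := Submodule.finrank_mono (show U ≤ span K {u} from fun v hv => by
      by_contra H'; exact H ⟨v, hv, H'⟩)
    rw [finrank_span_singleton u0] at this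
    omega
  obtain ⟨w, hw⟩ : ∃ w, w = v - (P.B u v / P.B u u) • u := ⟨_, rfl⟩
  have hwU : w ∈ U := hw ▸ U.sub_mem hv (U.smul_mem _ hu)
  have huw : P.B u w = 0 := by simp [hw, h1]
  by_cases h3 : P.B w w = 0
  · refine ⟨w, hwU, fun h0 => v0 ?_, h3⟩
    rw [h0] at hw
    exact Submodule.mem_span_singleton.2 ⟨_, (sub_eq_zero.1 hw.symm).symm⟩
  obtain ⟨μ, hμ⟩ := h.herm.norm_surj (-P.B u u / P.B w w) (by
    rw [map_div₀, map_neg, h.conj, h.conj])
  refine ⟨u + μ • w, U.add_mem hu (U.smul_mem _ hwU), fun h0 => ?_, ?_⟩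
  · have := congrArg (P.B u) h0
    simp [huw, h1] at this
  · simp only [P.B_add_left, P.B_add_right, P.B_smul_left, P.B_smul_right, huw, h.B_comm huw]
    rw [← mul_assoc, hμ]
    field_simp
    ring

theorem exists_hp_perp {U : Submodule K V} (hU : Disjoint U (P.perp U))
    (hd : finrank K U + 2 ≤ finrank K V) : ∃ e ∈ P.perp U, ∃ f ∈ P.perp U, HP P e f := by
  have := P.finrank_perp C.nondeg U
  obtain ⟨e, he, e0, ee⟩ := h.exists_iso (U := P.perp U) (by omega)
  obtain ⟨f, hf, k⟩ := C.exists_HP hU (h.sing.2 ee) e0 he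
  exact ⟨e, he, f, hf, k⟩

theorem hp_disj {e f : V} (hf : HP P e f) : Disjoint (span K {e, f}) (P.perp (span K {e, f})) :=
  P.disjoint_perp_pair hf.se.self_eq hf.sf.self_eq hf.fe

theorem hp_rank {e f : V} (hf : HP P e f) : finrank K (span K {e, f}) = 2 :=
  P.finrank_span_pair hf.se.self_eq hf.fe

theorem hp_ne {e f : V} (hf : HP P e f) : e ≠ 0 := by
  rintro rfl
  simpa using hf.ef

theorem hp_decomp {e f : V} (hf : HP P e f) (v : V) :
    ∃ w, P.B e w = 0 ∧ P.B f w = 0 ∧ v = w + P.B f v • e + P.B e v • f :=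
  ⟨v - P.B f v • e - P.B e v • f, by simp [hf.ef, hf.se.self_eq], by simp [hf.fe, hf.sf.self_eq],
    by abel⟩

theorem hh_decomp {e f e' f' : V} (k : HH P e f e' f') (v : V) :
    ∃ w, P.B e w = 0 ∧ P.B f w = 0 ∧ P.B e' w = 0 ∧ P.B f' w = 0 ∧
      v = w + P.B f v • e + P.B e v • f + P.B f' v • e' + P.B e' v • f' :=
  ⟨v - P.B f v • e - P.B e v • f - P.B f' v • e' - P.B e' v • f',
    by simp [k.h₁.ef, k.h₁.se.self_eq, k.ee, k.ef], by simp [k.h₁.fe, k.h₁.sf.self_eq, k.fe, k.ff],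
    by simp [k.h₂.ef, k.h₂.se.self_eq, h.B_comm k.ee, h.B_comm k.fe],
    by simp [k.h₂.fe, k.h₂.sf.self_eq, h.B_comm k.ef, h.B_comm k.ff], by abel⟩

theorem exists_hh {e f : V} (hf : HP P e f) : ∃ e' f', HH P e f e' f' := by
  obtain ⟨e', he, f', hf', k⟩ := h.exists_hp_perp (h.hp_disj hf) (by rw [h.hp_rank hf]; exact h.d4)
  rw [CG.mem_perp_pair] at he hf'
  exact ⟨e', f', hf, k, he.1, hf'.1, he.2, hf'.2⟩

/-- hyperbolic partners of an independent totally isotropic family -/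
theorem exists_partners {ι : Type} [DecidableEq ι] {v : ι → V} (hv : LinearIndependent K v)
    (h0 : ∀ i j, P.B (v i) (v j) = 0) :
    ∃ f : ι → V, (∀ i j, P.B (f i) (f j) = 0) ∧ ∀ i j, P.B (v i) (f j) = if i = j then 1 else 0 := by
  have : Finite ι := hv.finite
  let _ := Fintype.ofFinite ι
  obtain ⟨f, -, a1, a2, -⟩ := P.exists_hyperbolic_family C.nondeg v hv (P.ts_span
    (by rintro _ ⟨i, rfl⟩; exact h.sing.2 (h0 i i)) (by rintro _ ⟨i, rfl⟩ _ ⟨j, rfl⟩; exact h0 i j))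
    ⊥ disjoint_bot_right (by simp)
  refine ⟨f, a1, fun i j => ?_⟩
  rw [← h.conj, a2]
  by_cases e : i = j
  · simp [e]
  · simp [e, Ne.symm e]

omit h [Finite K] [FiniteDimensional K V] in
theorem li_pair {e e' : V} (h0 : e ≠ 0) (h1 : e' ∉ span K {e}) : LinearIndependent K ![e, e'] :=
  (LinearIndependent.pair_iff' h0).2 fun a ha => h1 (Submodule.mem_span_singleton.2 ⟨a, ha⟩)

theorem exists_hh' {e e' : V} (he : P.B e e = 0) (he' : P.B e' e' = 0) (hee : P.B e e' = 0)
    (h0 : e ≠ 0) (h1 : e' ∉ span K {e}) : ∃ f f', HH P e f e' f' := by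
  obtain ⟨f, a1, a2⟩ := h.exists_partners (li_pair h0 h1) (by
    intro i j; fin_cases i <;> fin_cases j <;> simp [he, he', hee, h.B_comm hee])
  exact ⟨f 0, f 1, h.hp_iff.2 ⟨he, a1 0 0, by simpa using a2 0 0⟩,
    h.hp_iff.2 ⟨he', a1 1 1, by simpa using a2 1 1⟩, hee, by simpa using a2 0 1,
    h.B_comm (by simpa using a2 1 0), a1 0 1⟩

theorem witt0 {ι : Type} {v v' : ι → V} (hv : LinearIndependent K v) (hv' : LinearIndependent K v')
    (hB : ∀ i j, P.B (v' i) (v' j) = P.B (v i) (v j)) :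
    ∃ g : V ≃ₗ[K] V, P.IsIso g ∧ ∀ i, g (v i) = v' i :=
  P.witt_family C.nondeg v v' hv hv' hB fun i => (h.herm.N_sub_iff _ _).2 (hB i i)

theorem exists_comp {g : V ≃ₗ[K] V} (hg : P.IsIso g) {r : V →ₗ[K] V} (hr : P.IsIso r)
    (hd : LinearMap.det g.toLinearMap * LinearMap.det r = 1) : ∃ s, ∀ v, C.act s v = g (r v) :=
  h.full (g.toLinearMap ∘ₗ r) (hg.comp hr) (by rw [LinearMap.det_comp, hd])

theorem witt {ι : Type} {v v' : ι → V} (hv : LinearIndependent K v) (hv' : LinearIndependent K v')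
    (hB : ∀ i j, P.B (v' i) (v' j) = P.B (v i) (v j)) {a : V} (ha : P.B a a ≠ 0)
    (ha' : ∀ i, P.B (v i) a = 0) : ∃ s, ∀ i, C.act s (v i) = v' i := by
  obtain ⟨g, hg, a1⟩ := h.witt0 hv hv' hB
  have a2 := Unitary.conj_det_mul_det C.nondeg hg
  obtain ⟨δ, hδ⟩ : ∃ δ, δ = LinearMap.det g.toLinearMap := ⟨_, rfl⟩
  rw [← hδ] at a2
  obtain ⟨s, hs⟩ := h.exists_comp hg (h.herm.qrefl_isIso a ((σ δ - 1) / P.B a a) (by
    rw [map_div₀, map_sub, h.σσ, map_one, h.conj]
    field_simp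
    linear_combination a2)) (by
    rw [P.det_qrefl, ← hδ, div_mul_cancel₀ _ ha]
    linear_combination a2)
  exact ⟨s, fun i => by rw [hs, P.qrefl_apply, h.B_comm (ha' i), mul_zero, zero_smul, add_zero, a1]⟩

theorem witt' {ι : Type} {v v' : ι → V} (hv : LinearIndependent K v) (hv' : LinearIndependent K v')
    (hB : ∀ i j, P.B (v' i) (v' j) = P.B (v i) (v j)) (i₀ : ι) (h0 : ∀ i, P.B (v i₀) (v i) = 0) :
    ∃ s μ, σ μ * μ = 1 ∧ C.act s (v i₀) = μ • v' i₀ ∧ ∀ i, i ≠ i₀ → C.act s (v i) = v' i := by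
  obtain ⟨g, hg, a1⟩ := h.witt0 hv hv' hB
  have a2 := Unitary.conj_det_mul_det C.nondeg hg
  obtain ⟨δ, hδ⟩ : ∃ δ, δ = LinearMap.det g.toLinearMap := ⟨_, rfl⟩
  rw [← hδ] at a2
  obtain ⟨μ, m1, -, m2⟩ := h.exists_sqrt (σ δ)
  have m3 := m2 (by rw [h.σσ, mul_comm, a2])
  obtain ⟨y, y1, y2, y3⟩ := P.exists_partner C.nondeg (span K (v '' {i | i ≠ i₀}))
    (h.sing.2 (h0 i₀)) (hv.notMem_span_image (by simp)) (fun w hw =>
      P.mem_perp'.1 (P.le_perp_comm.1 (show span K (v '' {i | i ≠ i₀}) ≤ P.perp (span K {v i₀}) from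
        Submodule.span_le.2 (by rintro _ ⟨i, -, rfl⟩; exact P.mem_perp_span_singleton.2 (h0 i)))
        (Submodule.mem_span_singleton_self _)) w hw)
  have μ0 := ne_zero_of_norm m3
  obtain ⟨s, hs⟩ := h.exists_comp hg (P.dil_isIso (h.sing.2 (h0 i₀)) y1 y2 μ0) (by
    rw [P.det_dil y1 y2, ← hδ, ← eq_inv_of_mul_eq_one_right m3, m1, mul_comm, a2])
  refine ⟨s, μ, m3, ?_, fun i hi => ?_⟩
  · rw [hs, P.dil_apply, y2, h0, ← a1, ← map_smul]
    congr 1
    module
  · rw [hs, P.dil_apply, y3 _ (Submodule.subset_span ⟨i, hi, rfl⟩), h0, ← a1]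
    simp

theorem trans_hp {e f e' f' : V} (h1 : HP P e f) (h2 : HP P e' f') :
    ∃ s, C.act s e = e' ∧ C.act s f = f' := by
  obtain ⟨a, ha, a1, -⟩ := exists_unit_Wp (C := C) h.herm h1 [] 0 (by simp) (by simp)
    (Or.inr ⟨rfl, by have := h.d4; simp; omega⟩)
  rw [CG.mem_perp_pair] at ha
  obtain ⟨s, hs⟩ := h.witt (P.linearIndependent_pair h1.se.self_eq h1.fe)
    (P.linearIndependent_pair h2.se.self_eq h2.fe) (by
      intro i j; fin_cases i <;> fin_cases j <;>
        simp [h1.se.self_eq, h1.sf.self_eq, h1.ef, h1.fe, h2.se.self_eq, h2.sf.self_eq, h2.ef, h2.fe])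
    (a := a) (by rw [a1]; exact one_ne_zero) (by intro i; fin_cases i <;> simp [ha.1, ha.2])
  exact ⟨s, hs 0, hs 1⟩

theorem trans {e e' : V} (h0 : e ≠ 0) (he : P.B e e = 0) (h0' : e' ≠ 0) (he' : P.B e' e' = 0) :
    ∃ s, C.act s e = e' := by
  obtain ⟨f, hf⟩ := h.exists_hp h0 he
  obtain ⟨f', hf'⟩ := h.exists_hp h0' he'
  obtain ⟨s, hs, -⟩ := h.trans_hp hf hf'
  exact ⟨s, hs⟩

/-- the stabiliser of a point is transitive on the lines through it -/
theorem trans_line {e a a' : V} (h0 : e ≠ 0) (he : P.B e e = 0) (ha : P.B a a = 0)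
    (ha' : P.B a' a' = 0) (hea : P.B e a = 0) (hea' : P.B e a' = 0) (h1 : a ∉ span K {e})
    (h1' : a' ∉ span K {e}) :
    ∃ s μ, σ μ * μ = 1 ∧ C.act s e = e ∧ C.act s a = μ • a' := by
  obtain ⟨s, μ, m, a1, a2⟩ := h.witt' (li_pair h0 h1) (li_pair h0 h1') (by
    intro i j; fin_cases i <;> fin_cases j <;>
      simp [he, ha, ha', hea, hea', h.B_comm hea, h.B_comm hea']) 1 (by
    intro i; fin_cases i <;> simp [ha, h.B_comm hea])
  exact ⟨s, μ, m, a2 0 (by simp), a1⟩

theorem odd_card : Odd (Nat.card K - 1) := by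
  have a1 : addOrderOf (1 : K) = 2 := addOrderOf_eq_prime (by rw [two_nsmul, h.add_self]) one_ne_zero
  have a2 := addOrderOf_dvd_natCard (1 : K)
  rw [a1] at a2
  exact Nat.Even.sub_odd Nat.card_pos (even_iff_two_dvd.2 a2) odd_one

/-- a diagonalisable element has odd order -/
theorem odd_of_diag {s : S} (H : ∀ v, v ∈ span K {w | ∃ l : K, C.act s w = l • w}) :
    Odd (orderOf s) := by
  refine h.odd_card.of_dvd_nat (orderOf_dvd_of_pow_eq_one (C.ext fun v => ?_))
  rw [C.one_apply]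
  refine Submodule.span_induction (p := fun v _ => C.act (s ^ (Nat.card K - 1)) v = v) ?_ (map_zero _)
    (fun x y _ _ a b => by rw [map_add, a, b]) (fun c x _ a => by rw [map_smul, a]) (H v)
  rintro w ⟨l, hl⟩
  have a1 : ∀ n : ℕ, C.act (s ^ n) w = l ^ n • w := fun n => by
    induction n with
    | zero => simp
    | succ n ih => rw [pow_succ, C.mul_apply, hl, map_smul, ih, smul_smul, pow_succ']
  by_cases l0 : l = 0
  · rw [l0, zero_smul, LinearEquiv.map_eq_zero_iff] at hl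
    rw [hl, map_zero]
  · let _ := Fintype.ofFinite K
    rw [a1, Nat.card_eq_fintype_card, FiniteField.pow_card_sub_one_eq_one l l0, one_smul]

theorem exists_diag {e f e' f' : V} (k : HH P e f e' f') {l l' : K} (h0 : l ≠ 0) (h0' : l' ≠ 0)
    (hl : σ (l * l') = l * l') : ∃ s, Odd (orderOf s) ∧ C.act s e = l • e ∧
      C.act s f = (σ l)⁻¹ • f ∧ C.act s e' = l' • e' ∧ C.act s f' = (σ l')⁻¹ • f' ∧
      ∀ v, P.B e v = 0 → P.B f v = 0 → P.B e' v = 0 → P.B f' v = 0 → C.act s v = v := by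
  have d1 := P.dil_isIso k.h₁.se k.h₁.sf k.h₁.fe h0
  have d2 := P.dil_isIso k.h₂.se k.h₂.sf k.h₂.fe h0'
  have s0 := (map_ne_zero σ).2 h0
  have s0' := (map_ne_zero σ).2 h0'
  obtain ⟨s, hs⟩ := h.full (P.dil e f l ∘ₗ P.dil e' f' l') (d1.comp d2) (by
    rw [LinearMap.det_comp, P.det_dil k.h₁.sf k.h₁.fe, P.det_dil k.h₂.sf k.h₂.fe]
    rw [map_mul] at hl
    field_simp
    exact hl.symm)
  simp only [LinearMap.comp_apply, P.dil_apply, C.ε1, mul_one, map_add, map_smul] at hs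
  have a1 : C.act s e = l • e := by
    rw [hs]
    simp only [k.h₁.fe, k.h₁.se.self_eq, h.B_comm k.ee, h.B_comm k.ef, k.ee, k.ef, k.fe, k.ff]
    module
  have a2 : C.act s f = (σ l)⁻¹ • f := by
    rw [hs]
    simp only [k.h₁.ef, k.h₁.sf.self_eq, h.B_comm k.fe, h.B_comm k.ff, k.ee, k.ef, k.fe, k.ff]
    module
  have a3 : C.act s e' = l' • e' := by
    rw [hs]
    simp only [k.h₂.fe, k.h₂.se.self_eq, k.ee, k.ef, k.fe, k.ff]
    module
  have a4 : C.act s f' = (σ l')⁻¹ • f' := by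
    rw [hs]
    simp only [k.h₂.ef, k.h₂.sf.self_eq, k.ee, k.ef, k.fe, k.ff]
    module
  have a5 : ∀ v, P.B e v = 0 → P.B f v = 0 → P.B e' v = 0 → P.B f' v = 0 → C.act s v = v :=
    fun v b1 b2 b3 b4 => by rw [hs]; simp [b1, b2, b3, b4]
  refine ⟨s, h.odd_of_diag fun v => ?_, a1, a2, a3, a4, a5⟩
  obtain ⟨w, b1, b2, b3, b4, b5⟩ := h.hh_decomp k v
  rw [b5]
  refine add_mem (add_mem (add_mem (add_mem ?_ ?_) ?_) ?_) ?_
  · exact Submodule.subset_span ⟨1, by rw [a5 w b1 b2 b3 b4, one_smul]⟩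
  exacts [Submodule.smul_mem _ _ (Submodule.subset_span ⟨_, a1⟩),
    Submodule.smul_mem _ _ (Submodule.subset_span ⟨_, a2⟩),
    Submodule.smul_mem _ _ (Submodule.subset_span ⟨_, a3⟩),
    Submodule.smul_mem _ _ (Submodule.subset_span ⟨_, a4⟩)]

theorem exists_diag1 {e f : V} (k : HP P e f) {l : K} (h0 : l ≠ 0) (hl : σ l = l) :
    ∃ s, Odd (orderOf s) ∧ C.act s e = l • e ∧ C.act s f = l⁻¹ • f ∧
      ∀ v, P.B e v = 0 → P.B f v = 0 → C.act s v = v := by
  obtain ⟨e', f', k'⟩ := h.exists_hh k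
  obtain ⟨s, a0, a1, a2, a3, a4, a5⟩ := h.exists_diag k' h0 one_ne_zero (by rw [mul_one, hl])
  refine ⟨s, a0, a1, by rw [a2, hl], fun v b1 b2 => ?_⟩
  obtain ⟨w, c1, c2, c3, c4, c5⟩ := h.hh_decomp k' v
  rw [b1, b2, zero_smul, zero_smul, add_zero, add_zero] at c5
  rw [map_one, inv_one, one_smul] at a4
  rw [one_smul] at a3
  conv_lhs => rw [c5]
  rw [map_add, map_add, map_smul, map_smul, a3, a4, a5 w c1 c2 c3 c4, ← c5]

omit h [Finite K] [FiniteDimensional K V] in
theorem _root_.CfsgLib.UN.HH.symm {e f e' f' : V} (k : HH P e f e' f') : HH P e' f' e f :=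
  ⟨k.h₂, k.h₁, P.B_eq_zero_comm.1 k.ee, P.B_eq_zero_comm.1 k.fe, P.B_eq_zero_comm.1 k.ef,
    P.B_eq_zero_comm.1 k.ff⟩

theorem tok_N {e f e' f' : V} (k : HH P e f e' f') (l : K) : TOk P e (l • f') 0 :=
  h.tok1 k.h₁.se.self_eq (by simp [k.h₂.sf.self_eq]) (by simp [k.ef]) (map_zero σ)

theorem N_app {e f e' f' : V} (k : HH P e f e' f') (l : K) (v : V) :
    C.act (C.T e (l • f') 0) v = v + (σ l * P.B f' v) • e + (P.B e v * l) • f' := by
  rw [h.T_app (h.tok_N k l), map_zero, zero_mul, add_zero, P.B_smul_left, smul_smul]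

theorem swap_app {e f e' f' : V} (k : HH P e f e' f') (v : V) :
    C.act (C.T e ((1 : K) • f') 0 * C.T e' ((1 : K) • f) 0 * C.T e ((1 : K) • f') 0) v =
      v + (P.B f v + P.B f' v) • (e + e') + (P.B e v + P.B e' v) • (f + f') := by
  simp only [C.mul_apply, h.N_app k, h.N_app k.symm, map_add, map_smul, map_one, one_mul, mul_one,
    smul_eq_mul, k.h₁.fe, k.h₁.ef, k.h₂.fe, k.h₂.ef, k.ee, k.ef, k.fe, k.ff, k.symm.ee, k.symm.ef,
    k.symm.fe, k.symm.ff, k.h₁.se.self_eq, k.h₂.se.self_eq, k.h₁.sf.self_eq, k.h₂.sf.self_eq]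
  match_scalars
  · rfl
  · linear_combination (P.B f' v) * h.two
  · linear_combination (P.B e v) * h.two
  · ring
  · ring

theorem exists_swap {e f e' f' : V} (k : HH P e f e' f') : ∃ j, C.act j e = e' ∧ C.act j e' = e ∧
    C.act j f = f' ∧ C.act j f' = f ∧
      ∀ v, P.B e v = 0 → P.B f v = 0 → P.B e' v = 0 → P.B f' v = 0 → C.act j v = v := by
  refine ⟨C.T e ((1 : K) • f') 0 * C.T e' ((1 : K) • f) 0 * C.T e ((1 : K) • f') 0, ?_, ?_, ?_, ?_,
    fun v a1 a2 a3 a4 => ?_⟩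
  rotate_right
  · rw [h.swap_app k, a1, a2, a3, a4]; simp
  all_goals
    simp only [h.swap_app k, k.h₁.fe, k.h₁.ef, k.h₂.fe, k.h₂.ef, k.ee, k.ef, k.fe, k.ff, k.symm.ee,
      k.symm.ef, k.symm.fe, k.symm.ff, k.h₁.se.self_eq, k.h₂.se.self_eq, k.h₁.sf.self_eq,
      k.h₂.sf.self_eq]
    match_scalars
    · linear_combination h.two
    · ring
    · ring
    · ring

theorem z_app {e : V} {s : K} (he : P.B e e = 0) (hs : σ s = s) (v : V) :
    C.act (C.T e 0 s) v = v + (s * P.B e v) • e := by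
  rw [h.T_app (h.tok0 he hs), hs]; simp

theorem exists_swap1 {e f : V} (k : HP P e f) : ∃ j, C.act j e = f ∧ C.act j f = e ∧
    ∀ v, P.B e v = 0 → P.B f v = 0 → C.act j v = v := by
  have a : ∀ v, C.act (C.T e 0 1 * C.T f 0 1 * C.T e 0 1) v = v + (P.B e v + P.B f v) • (e + f) :=
    fun v => by
      simp only [C.mul_apply, h.z_app k.se.self_eq (map_one σ), h.z_app k.sf.self_eq (map_one σ),
        map_add, map_smul, one_mul, smul_eq_mul, k.ef, k.fe, k.se.self_eq, k.sf.self_eq]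
      match_scalars
      · rfl
      · linear_combination (P.B e v) * h.two
      · ring
  refine ⟨C.T e 0 1 * C.T f 0 1 * C.T e 0 1, ?_, ?_, fun v a1 a2 => by rw [a, a1, a2]; simp⟩
  · rw [a, k.fe, k.se.self_eq, zero_add, one_smul, ← add_assoc, h.vadd_self, zero_add]
  · rw [a, k.ef, k.sf.self_eq, add_zero, one_smul, add_comm e, ← add_assoc, h.vadd_self, zero_add]

theorem exists_hp_ti {U : Submodule K V} (hd : 2 * finrank K U + 2 ≤ finrank K V) :
    ∃ a ∈ P.perp U, a ∉ U ∧ P.B a a = 0 := by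
  obtain ⟨U', hU'⟩ := U.exists_isCompl
  have a1 := P.finrank_perp C.nondeg U
  have a2 := Submodule.finrank_add_eq_of_isCompl hU'
  have a3 := Submodule.finrank_sup_add_finrank_inf_eq U' (P.perp U)
  have a4 := Submodule.finrank_le (U' ⊔ P.perp U)
  obtain ⟨a, ha, a0, aa⟩ := h.exists_iso (U := U' ⊓ P.perp U) (by omega)
  exact ⟨a, ha.2, fun e => a0 (Submodule.disjoint_def.1 hU'.disjoint a e ha.1), aa⟩

theorem iso_span {U : Submodule K V} (hU : TI P U) (hd : finrank K V ≠ 2 * finrank K U + 1) {v : V}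
    (hv : v ∈ P.perp U) : v ∈ AddSubgroup.closure {a | a ∈ P.perp U ∧ P.B a a = 0} := by
  have a1 := P.finrank_perp C.nondeg U
  have a2 := Submodule.finrank_mono hU
  by_cases hd' : finrank K V = 2 * finrank K U
  · have e := Submodule.eq_of_le_of_finrank_eq hU (by omega)
    exact AddSubgroup.subset_closure ⟨hv, P.mem_perp.1 hv v (by rw [e]; exact hv)⟩
  obtain ⟨a, ha, a0, aa⟩ := h.exists_hp_ti (U := U) (by omega)
  obtain ⟨b, b1, b2, b3⟩ := P.exists_partner C.nondeg U (h.sing.2 aa) a0 (P.mem_perp'.1 ha)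
  have hb := P.mem_perp'.2 b3
  have k : HP P a b := ⟨h.sing.2 aa, b1, by rw [← h.conj, b2, map_one], b2⟩
  obtain ⟨w, w1, w2, w3⟩ := h.hp_decomp k v
  have hw : w ∈ P.perp U := by
    rw [show w = v - P.B b v • a - P.B a v • b by linear_combination (norm := module) -w3]
    exact sub_mem (sub_mem hv (Submodule.smul_mem _ _ ha)) (Submodule.smul_mem _ _ hb)
  obtain ⟨c, hc⟩ := h.exists_tr (h.conj w w)
  have m1 : ∀ l : K, l • a ∈ AddSubgroup.closure {a | a ∈ P.perp U ∧ P.B a a = 0} := fun l =>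
    AddSubgroup.subset_closure ⟨Submodule.smul_mem _ _ ha, by simp [aa]⟩
  have m2 : ∀ l : K, l • b ∈ AddSubgroup.closure {a | a ∈ P.perp U ∧ P.B a a = 0} := fun l =>
    AddSubgroup.subset_closure ⟨Submodule.smul_mem _ _ hb, by simp [b1.self_eq]⟩
  rw [w3, show w = (w + a + c • b) - (1 : K) • a - c • b by module]
  refine add_mem (add_mem (sub_mem (sub_mem (AddSubgroup.subset_closure ⟨add_mem (add_mem hw ha)
    (Submodule.smul_mem _ _ hb), ?_⟩) (m1 _)) (m2 _)) (m1 _)) (m2 _)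
  simp only [P.B_add_left, P.B_add_right, P.B_smul_left, P.B_smul_right, w1, w2, h.B_comm w1,
    h.B_comm w2, aa, b1.self_eq, k.ef, k.fe]
  linear_combination hc + P.B w w * h.two

theorem iso_span_top (v : V) : v ∈ AddSubgroup.closure {a | P.B a a = 0} := by
  have := h.iso_span (U := ⊥) bot_le (by have := h.d4; simp; omega) (v := v) (by simp [P.perp_bot])
  simpa [P.perp_bot] using this

/-- a linear map which fixes all isotropic points is a scalar -/
theorem scalar_of_pts {g : V →ₗ[K] V} (H : ∀ p, P.B p p = 0 → g p ∈ span K {p}) :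
    ∃ l : K, ∀ v, g v = l • v := by
  obtain ⟨e, -, e0, ee⟩ := h.exists_iso (U := ⊤) (by have := h.d4; simp; omega)
  obtain ⟨l, hl⟩ := Submodule.mem_span_singleton.1 (H e ee)
  have a : ∀ p, P.B p p = 0 → g p = l • p := fun p pp => by
    by_cases hp : p ∈ span K {e}
    · obtain ⟨c, rfl⟩ := Submodule.mem_span_singleton.1 hp
      rw [map_smul, ← hl, smul_comm]
    obtain ⟨δ, δ0, hδ⟩ : ∃ δ : K, δ ≠ 0 ∧ σ (δ * P.B e p) = δ * P.B e p := by
      by_cases b : P.B e p = 0
      · exact ⟨1, one_ne_zero, by simp [b]⟩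
      · exact ⟨_, inv_ne_zero b, by rw [inv_mul_cancel₀ b, map_one]⟩
    obtain ⟨l', hl'⟩ := Submodule.mem_span_singleton.1 (H p pp)
    obtain ⟨m, hm⟩ := Submodule.mem_span_singleton.1 (H (e + δ • p) (by
      rw [map_mul, h.conj] at hδ
      simp only [P.B_add_left, P.B_add_right, P.B_smul_left, P.B_smul_right, ee, pp]
      linear_combination hδ + δ * P.B e p * h.two))
    rw [map_add, map_smul, ← hl, ← hl'] at hm
    obtain ⟨b1, b2⟩ := LinearIndependent.pair_iff.1 (li_pair e0 hp) (m - l) ((m - l') * δ) (by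
      linear_combination (norm := module) hm)
    rw [← hl', ← sub_eq_zero.1 b1, sub_eq_zero.1 ((mul_eq_zero.1 b2).resolve_right δ0)]
  refine ⟨l, fun v => ?_⟩
  refine AddSubgroup.closure_induction (p := fun v _ => g v = l • v) a (by simp)
    (fun x y _ _ b c => by rw [map_add, b, c, smul_add]) (fun x _ b => by rw [map_neg, b, smul_neg])
    (h.iso_span_top v)

/-- an element commuting with a transvection fixes its centre -/
theorem pt_of_comm {s : S} {p : V} {r : K} (pp : P.B p p = 0) (hr : σ r = r) (r0 : r ≠ 0)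
    (H : s * C.T p 0 r = C.T p 0 r * s) : C.act s p ∈ span K {p} := by
  by_cases p0 : p = 0
  · rw [p0, map_zero]; exact zero_mem _
  obtain ⟨f, hf⟩ := h.exists_hp p0 pp
  have a := congrArg (fun x => C.act x f) H
  simp only [C.mul_apply, h.z_app pp hr, hf.ef, map_add, map_smul, mul_one, add_right_inj] at a
  exact Submodule.mem_span_singleton.2 ⟨r⁻¹ * (r * P.B p (C.act s f)), by
    rw [← smul_smul, ← a, smul_smul, inv_mul_cancel₀ r0, one_smul]⟩

theorem mem_center {s : S} : s ∈ center S ↔ ∃ l : K, ∀ v, C.act s v = l • v := by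
  refine ⟨fun hs => h.scalar_of_pts (g := (C.act s).toLinearMap) fun p pp =>
    h.pt_of_comm pp (map_one σ) one_ne_zero (mem_center_iff.1 hs _).symm, ?_⟩
  rintro ⟨l, hl⟩
  exact mem_center_iff.2 fun g => C.ext fun v => by rw [C.mul_apply, C.mul_apply, hl, hl, map_smul]

theorem card_center_dvd : Nat.card (center S) ∣ Nat.card K - 1 := by
  have a1 : (center S).map C.act ≤ (DistribMulAction.toModuleAut K V (S := Kˣ)).range := by
    rintro _ ⟨s, hs, rfl⟩
    obtain ⟨l, hl⟩ := h.mem_center.1 hs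
    obtain ⟨e, -, e0, -⟩ := h.exists_iso (U := ⊤) (by have := h.d4; simp; omega)
    have l0 : l ≠ 0 := by
      rintro rfl
      exact e0 ((C.act s).map_eq_zero_iff.1 (by rw [hl, zero_smul]))
    exact ⟨Units.mk0 l l0, LinearEquiv.ext fun v => (hl v).symm⟩
  rw [← card_map_of_injective C.inj, ← Nat.card_units]
  exact (card_dvd_of_le a1).trans (card_range_dvd _)

theorem center_odd : Odd (Nat.card (center S)) := h.odd_card.of_dvd_nat h.card_center_dvd

theorem exists_bas : ∃ b : Basis (Fin (finrank K V)) K V, Bas P b := by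
  obtain ⟨u, hu⟩ := h.herm.exists_orthonormal_basis C.nondeg
  obtain ⟨θ, hθ⟩ := h.herm.exists_trace_one
  let b : Fin (finrank K V) → V := fun i =>
    if i < i.rev then u i + u i.rev else if i = i.rev then u i else θ • u i + σ θ • u i.rev
  have hb : ∀ i j, P.B (b i) (b j) = if j = i.rev then 1 else 0 := fun i j => by
    have e1 : ∀ i j : Fin (finrank K V), P.B (u i) (u j) = if (i : ℕ) = j then 1 else 0 :=
      fun i j => by rw [hu]; simp [Fin.ext_iff]
    have := i.2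
    have := j.2
    simp only [b, Fin.lt_def, Fin.ext_iff, Fin.val_rev]
    split_ifs <;>
      simp only [P.B_add_left, P.B_add_right, P.B_smul_left, P.B_smul_right, e1, Fin.val_rev, h.σσ] <;>
      split_ifs <;>
      first
        | omega
        | ring1
        | linear_combination hθ
        | linear_combination h.two
        | linear_combination θ * σ θ * h.two
  have hl : LinearIndependent K b := Fintype.linearIndependent_iff.2 fun g hg j => by
    have := congrArg (P.B (b j.rev)) hg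
    simpa [map_sum, hb] using this
  have : Nonempty (Fin (finrank K V)) := ⟨⟨0, by have := h.d4; omega⟩⟩
  refine ⟨basisOfLinearIndependentOfCardEqFinrank hl (by simp), fun i j => ?_⟩
  rw [coe_basisOfLinearIndependentOfCardEqFinrank, hb]

theorem T_zero' (a : V) {c : K} (k : TOk P 0 a c) : C.T 0 a c = 1 :=
  C.ext fun v => by rw [h.T_app k, C.one_apply]; simp

omit h [Finite K] [FiniteDimensional K V] in
theorem _root_.CfsgLib.UN.Bas.repr {m : ℕ} {b : Basis (Fin m) K V} (hb : Bas P b) (v : V)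
    (i : Fin m) : b.repr v i = P.B (b i.rev) v := by
  conv_rhs => rw [← b.sum_repr v, map_sum]
  simp [hb _ _]

theorem bas_hp {m : ℕ} {b : Basis (Fin m) K V} (hb : Bas P b) {i : Fin m} (hi : i ≠ i.rev) :
    HP P (b i) (b i.rev) :=
  h.hp_iff.2 ⟨by rw [hb, if_neg hi], by rw [hb, Fin.rev_rev, if_neg hi.symm], by rw [hb, if_pos rfl]⟩

theorem gen_Q {m : ℕ} {b : Basis (Fin m) K V} (hb : Bas P b) {H : Subgroup S}
    (hH : ∀ i, i ≠ i.rev → ∀ a c, TOk P (b i) a c → C.T (b i) a c ∈ H) : H = ⊤ := by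
  have a1 : ∀ g ∈ H, ∀ (l : K) p, (∀ a c, TOk P p a c → C.T p a c ∈ H) →
      ∀ s, P.B p p = 0 → σ s = s → C.T (C.act g (l • p)) 0 s ∈ H := fun g hg l p hp s pp hs => by
    have k := h.tok0 pp hs
    rw [← map_zero (C.act g), ← C.T_conj g (k.smul_left l), C.T_smul_left k]
    exact mul_mem (mul_mem hg (hp _ _ (by simpa only [h.σσ, mul_comm] using k.smul (σ l))))
      (inv_mem hg)
  refine h.gen H fun p s pp hs => ?_
  by_cases H1 : ∃ i, i ≠ i.rev ∧ P.B (b i) p ≠ 0
  · obtain ⟨i, hi, bi⟩ := H1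
    have k := h.bas_hp hb hi
    obtain ⟨a, c, k1, -, k2, -⟩ := C.exists_T_map k (h.sing.2 pp) bi
    rw [← k2]
    exact a1 _ (hH i hi a c k1) _ _ (hH i.rev (by rw [Fin.rev_rev]; exact hi.symm)) s k.sf.self_eq hs
  have a2 : ∀ i, i ≠ i.rev → P.B (b i) p = 0 := fun i hi => by
    by_contra H'; exact H1 ⟨i, hi, H'⟩
  have a3 : ∀ j, P.B (b j) p = 0 := fun j => by
    by_contra H'
    have hj : j = j.rev := by by_contra H''; exact H' (a2 j H'')
    have e1 : p = P.B (b j) p • b j := by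
      conv_lhs => rw [← b.sum_repr p]
      rw [Finset.sum_eq_single j, hb.repr, ← hj]
      · intro i _ hi
        rw [hb.repr, a2, zero_smul]
        rw [Fin.rev_rev]
        intro e
        have e2 := congrArg Fin.val e
        have e3 := congrArg Fin.val hj
        simp only [Fin.val_rev] at e2 e3
        exact hi (Fin.ext (by omega))
      · simp
    rw [e1, P.B_smul_left, P.B_smul_right, hb, if_pos hj] at pp
    simp [H'] at pp
  have : p = 0 := b.ext_elem fun i => by rw [hb.repr, a3]; simp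
  subst this
  rw [h.T_zero' _ (h.tok0 pp hs)]
  exact one_mem _

theorem gen_line {e f e' f' : V} (k : HH P e f e' f') {H : Subgroup S}
    (h1 : ∀ p s, P.B p p = 0 → P.B e p = 0 → σ s = s → C.T p 0 s ∈ H)
    (h2 : ∀ l : K, C.T e (l • f') 0 ∈ H) (h3 : ∀ l : K, C.T e' (l • f) 0 ∈ H) : H = ⊤ := by
  refine h.gen H fun p s pp hs => ?_
  by_cases b : P.B e p = 0
  · exact h1 p s pp b hs
  obtain ⟨g, hg, a⟩ : ∃ g ∈ H, P.B e (C.act g p) = 0 := by
    refine ⟨C.T e ((1 : K) • f') 0 * C.T e' ((1 : K) • f) 0 * C.T e ((1 : K) • f') 0 *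
      C.T e ((P.B e' p / P.B e p) • f') 0, mul_mem (mul_mem (mul_mem (h2 _) (h3 _)) (h2 _)) (h2 _), ?_⟩
    rw [C.mul_apply, h.swap_app k, h.N_app k]
    simp only [map_add, map_smul, smul_eq_mul, k.h₁.ef, k.h₂.ef, k.ee, k.ef, k.symm.ee,
      k.h₁.se.self_eq, mul_div_cancel₀ _ b]
    linear_combination (P.B e p + P.B e' p) * h.two
  have k1 := h.tok0 pp hs
  have e1 := C.T_conj g k1
  rw [map_zero] at e1
  have := mul_mem (mul_mem (inv_mem hg) (h1 _ s (by rw [C.B_act, pp]) a hs)) hg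
  rwa [← e1, ← mul_assoc, ← mul_assoc, inv_mul_cancel, one_mul, inv_mul_cancel_right] at this

end Mod

end CfsgLib.UN
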