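import Cfsg.Agent.Lib.UN.Aut

/-! Centralisers of radicals, fixed points -/

set_option autoImplicit false
set_option linter.unusedSectionVars false

namespace CfsgLib.UN

open Subgroup Module CfsgLib.Forms CfsgLib.LieMult
open CfsgLib.HX (Std CO Two Mv Tr LR Heis NF Fus4 Has4 M2)
open Submodule (span)
open scoped commutatorElement Pointwise

universe u

variable {K : Type} [Field K] [Finite K] {σ : K →+* K} {V : Type} [AddCommGroup V] [Module K V]
  [FiniteDimensional K V] {P : PQ σ V} {S : Type} [Group S] [Finite S] {G : Type u} [Group G]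
  [Finite G] {C : CG P S} {φ : S →* G} {t : G}

theorem Mod.exists_T_of (h : Mod C) {γ : AV V} (k : SI P 1 γ) {e : V} (h0 : e ≠ 0) (he : P.B e e = 0)
    (h1 : γ e = e) (h2 : ∀ a, P.B e a = 0 → γ a - a ∈ span K {e}) :
    ∃ a c, TOk P e a c ∧ ∀ v, γ v = C.act (C.T e a c) v := by
  obtain ⟨f, hf⟩ := h.exists_hp h0 he
  have kB : ∀ v w, P.B (γ v) (γ w) = P.B v w := k.B_eq
  have ks : ∀ (c : K) v, γ (c • v) = c • γ v := k.semi
  have h3 : P.B e (γ f) = 1 := by rw [← hf.ef, ← kB e f, h1]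
  obtain ⟨a, c, t, -, h4, -⟩ := C.exists_T_map hf (y := γ f)
    ((h.herm.sing_iff _).2 (by rw [kB, (h.hp_iff.1 hf).2.1])) (by rw [h3]; exact one_ne_zero)
  rw [h3, one_smul] at h4
  have h5 : ∀ v, P.B e v = 0 → γ v = C.act (C.T e a c) v := fun v hv => by
    obtain ⟨l, hl⟩ := Submodule.mem_span_singleton.1 (h2 v hv)
    have h6 : P.B (γ f) (γ v) = P.B (γ f) (C.act (C.T e a c) v) := by rw [kB, ← h4, C.B_act]
    have h7 : P.B (γ f) e = 1 := by rw [← hf.fe, ← kB f e, h1]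
    rw [C.T_perp t hv, ← eq_sub_iff_add_eq'.1 hl] at h6 ⊢
    simp only [map_add, map_smul, h7, smul_eq_mul, mul_one, add_right_inj] at h6
    rw [h6]
  refine ⟨a, c, t, fun v => ?_⟩
  have := h5 (v - P.B e v • f) (by simp [hf.ef])
  rwa [map_sub, map_sub, ks, map_smul, h4, sub_left_inj] at this

theorem SI.span_iff {α : RingAut K} {γ : AV V} (k : SI P α γ) {e : V} (h : γ e ∈ span K {e}) (v : V) :
    γ v ∈ span K {e} ↔ v ∈ span K {e} := by
  obtain ⟨l, hl⟩ := Submodule.mem_span_singleton.1 h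
  refine ⟨fun hv => ?_, fun hv => ?_⟩
  · obtain ⟨c, hc⟩ := Submodule.mem_span_singleton.1 hv
    by_cases h0 : l = 0
    · obtain rfl : e = 0 := γ.map_eq_zero_iff.1 (by rw [← hl, h0, zero_smul])
      rw [smul_zero, eq_comm, γ.map_eq_zero_iff] at hc
      simp [hc]
    refine Submodule.mem_span_singleton.2 ⟨α.symm (c / l), γ.injective ?_⟩
    rw [k.semi, ← hl, ← hc, smul_smul, α.apply_symm_apply, div_mul_cancel₀ _ h0]
  · obtain ⟨c, rfl⟩ := Submodule.mem_span_singleton.1 hv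
    rw [k.semi]
    exact Submodule.smul_mem _ _ h

theorem eq_of_indep {p p' : V} (h0 : p ≠ 0) (h1 : p' ∉ span K {p}) {a b a' b' : K}
    (e : a • p + b • p' = a' • p + b' • p') : a = a' ∧ b = b' := by
  have hb : b = b' := by
    by_contra hc
    refine h1 (Submodule.mem_span_singleton.2 ⟨(b - b')⁻¹ * (a' - a), ?_⟩)
    rw [mul_smul, inv_smul_eq_iff₀ (sub_ne_zero.2 hc), sub_smul, sub_smul, sub_eq_sub_iff_add_eq_add, ← e,
      add_comm]
  subst hb
  exact ⟨smul_left_injective K h0 (add_right_cancel e), rfl⟩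

theorem one_of_odd {W : Subgroup G} (hW : Odd (Nat.card W)) {g : G} (hg : g ∈ W) {k : ℕ} (e : g ^ 2 ^ k = 1) :
    g = 1 :=
  HX.Nrm.eq_one_of_odd (Odd.of_dvd_nat hW (W.orderOf_dvd_natCard hg)) e

namespace Emb

variable (h : Emb C φ) {g : G} {α : RingAut K} {γ : AV V} {e f : V} {U : Submodule K V}
include h

theorem z_add {p : V} {s r : K} (hp : P.B p p = 0) (hs : σ s = s) (hr : σ r = r) :
    z C φ p (s + r) = z C φ p s * z C φ p r := by
  rw [z, z, z, ← map_mul, C.T_mul (h.toMod.tok0 hp hs) (h.toMod.tok0 hp hr)]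
  simp

theorem z_sq {p : V} {s : K} (hp : P.B p p = 0) (hs : σ s = s) : z C φ p s * z C φ p s = 1 := by
  rw [z, ← map_mul, h.toMod.T_sq0 (h.toMod.tok0 hp hs), map_one]

theorem z_smul {p : V} {s : K} (hp : P.B p p = 0) (hs : σ s = s) (l : K) :
    z C φ (l • p) s = z C φ p (σ l * l * s) := by
  rw [z, z, C.T_smul_left (h.toMod.tok0 hp hs), smul_zero, mul_comm l]

theorem z_eq_one {p : V} {s : K} (hp : P.B p p = 0) (hs : σ s = s) :
    z C φ p s = 1 ↔ p = 0 ∨ s = 0 := by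
  have t := h.toMod.tok0 hp hs
  refine ⟨fun e => ?_, ?_⟩
  · by_cases h0 : p = 0
    · exact .inl h0
    have := h.inj_pow (h.toMod.T_four t) (one_pow _) (e.trans (map_one φ).symm)
    obtain ⟨l, h2, h3⟩ := (h.toMod.T_eq_one t h0).1 this
    obtain rfl : l = 0 := by simpa [h0] using h2.symm
    exact .inr (by simpa using h3)
  · rintro (rfl | rfl)
    · rw [z, C.ext (g := C.T 0 0 s) (h := 1) fun v => by rw [h.toMod.T_app t, C.one_apply]; simp, map_one]
    · rw [z, C.T_zero t.sing, map_one]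

theorem x_conj (l : S) {p a : V} {c : K} (k : TOk P p a c) :
    φ l * x C φ p a c * (φ l)⁻¹ = x C φ (C.act l p) (C.act l a) c := by
  rw [x, x, ← map_mul, ← map_inv, ← map_mul, C.T_conj l k]

theorem z_conj (l : S) {p : V} {s : K} (hp : P.B p p = 0) (hs : σ s = s) :
    φ l * z C φ p s * (φ l)⁻¹ = z C φ (C.act l p) s := by
  have := h.x_conj l (h.toMod.tok0 hp hs)
  rwa [map_zero] at this

/-- distinct points have disjoint root groups -/
theorem z_eq_z {p p' : V} {s s' : K} (hp : P.B p p = 0) (hp' : P.B p' p' = 0) (hs : σ s = s)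
    (hs' : σ s' = s') (e1 : z C φ p s = z C φ p' s') (h1 : z C φ p s ≠ 1) : p' ∈ span K {p} := by
  have t := h.toMod.tok0 hp hs
  have t' := h.toMod.tok0 hp' hs'
  obtain ⟨h2, h3⟩ := not_or.1 (mt (h.z_eq_one hp hs).2 h1)
  obtain ⟨f, hf⟩ := h.toMod.exists_hp h2 hp
  have := congrArg (fun u => C.act u f) (h.inj_pow (h.toMod.T_four t) (h.toMod.T_four t') e1)
  simp only [h.toMod.T_app t, h.toMod.T_app t', hf.ef, hs, hs', map_zero, LinearMap.zero_apply, zero_add, mul_one,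
    smul_zero, add_zero, add_right_inj] at this
  have h4 : s' * P.B p' f ≠ 0 := fun e => by simp [e, h2, h3] at this
  exact Submodule.mem_span_singleton.2 ⟨(s' * P.B p' f)⁻¹ * s, by rw [mul_smul, this, inv_smul_smul₀ h4]⟩

theorem x_eq_x {a a' : V} {c c' : K} (h0 : e ≠ 0) (t : TOk P e a c) (t' : TOk P e a' c')
    (e1 : x C φ e a c = x C φ e a' c') : a - a' ∈ span K {e} := by
  obtain ⟨f, hf⟩ := h.toMod.exists_hp h0 (h.toMod.tok.1 t).1
  have := congrArg (fun u => C.act u f) (h.inj_pow (h.toMod.T_four t) (h.toMod.T_four t') e1)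
  simp only [h.toMod.T_app t, h.toMod.T_app t', hf.ef, one_smul, add_assoc, add_right_inj] at this
  refine Submodule.mem_span_singleton.2 ⟨(P.B a' f + σ c' * 1) - (P.B a f + σ c * 1), ?_⟩
  rw [sub_smul, sub_eq_sub_iff_add_eq_add, ← this, add_comm]

theorem z_comm {p p' : V} {s s' : K} (hp : P.B p p = 0) (hp' : P.B p' p' = 0) (hs : σ s = s)
    (hs' : σ s' = s') (e1 : P.B p p' = 0) : Commute (z C φ p s) (z C φ p' s') := by
  have := h.z_conj (C.T p 0 s) hp' hs'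
  rw [C.T_fix (h.toMod.tok0 hp hs) e1 (by simp)] at this
  exact mul_inv_eq_iff_eq_mul.1 this

theorem mem_Z (he : P.B e e = 0) : g ∈ Eg C φ (span K {e}) ↔ ∃ r, σ r = r ∧ g = z C φ e r := by
  refine ⟨?_, fun ⟨r, hr, e1⟩ => ⟨_, (h.toMod.mem_E_pt he).2 ⟨r, hr, rfl⟩, e1.symm⟩⟩
  rintro ⟨s, hs, rfl⟩
  obtain ⟨r, hr, rfl⟩ := (h.toMod.mem_E_pt he).1 hs
  exact ⟨r, hr, rfl⟩

theorem mem_Q (h0 : e ≠ 0) (he : P.B e e = 0) :
    g ∈ Rg C φ (span K {e}) ↔ ∃ a c, TOk P e a c ∧ g = x C φ e a c := by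
  refine ⟨?_, fun ⟨a, c, hr, e1⟩ => ⟨_, (h.toMod.mem_rad_pt h0 he).2 ⟨a, c, hr, rfl⟩, e1.symm⟩⟩
  rintro ⟨s, hs, rfl⟩
  obtain ⟨a, c, hr, rfl⟩ := (h.toMod.mem_rad_pt h0 he).1 hs
  exact ⟨a, c, hr, rfl⟩

theorem X_z (he : P.B e e = 0) : HX.X (fun s : Fx σ => z C φ e s) = Eg C φ (span K {e}) := by
  refine le_antisymm ((closure_le _).2 ?_) fun g hg => ?_
  · rintro _ ⟨s, rfl⟩
    exact (h.mem_Z he).2 ⟨s, s.2, rfl⟩
  · obtain ⟨r, hr, rfl⟩ := (h.mem_Z he).1 hg
    exact subset_closure ⟨⟨r, hr⟩, rfl⟩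

/-- an element which maps a transvection with centre `e` into `Z_e` fixes the point -/
theorem fix_of_z (k : Act C φ g α γ) (he : P.B e e = 0) {s r : K} (hs : σ s = s) (hr : σ r = r)
    (h1 : z C φ e s ≠ 1) (e1 : g * z C φ e s * g⁻¹ = z C φ e r) (v : V) :
    γ v ∈ span K {e} ↔ v ∈ span K {e} := by
  refine k.toSI.span_iff (h.z_eq_z he (by rw [k.B_eq, he, map_zero]) hr
    (by rw [← h.toMod.aut_comm, hs]) (e1.symm.trans (h.act_z k he hs)) ?_) v
  rw [← e1]
  simpa using h1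

theorem z_one_ne (h0 : e ≠ 0) (he : P.B e e = 0) : z C φ e 1 ≠ 1 :=
  mt (h.z_eq_one he (map_one σ)).1 (by simp [h0])

/-- an element which normalises `Z_e` fixes the point -/
theorem fix_of_mem (k : Act C φ g α γ) (h0 : e ≠ 0) (he : P.B e e = 0)
    (e1 : g * z C φ e 1 * g⁻¹ ∈ Eg C φ (span K {e})) (v : V) : γ v ∈ span K {e} ↔ v ∈ span K {e} := by
  obtain ⟨r, hr, e2⟩ := (h.mem_Z he).1 e1
  exact h.fix_of_z k he (map_one σ) hr (h.z_one_ne h0 he) e2 v

theorem cV (h0 : e ≠ 0) (he : P.B e e = 0) (hg : g ∈ normalizer (φ.range : Set G))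
    (hc : ∀ q ∈ Rg C φ (span K {e}), g * q * g⁻¹ * q⁻¹ ∈ Eg C φ (span K {e})) :
    ∃ q ∈ Rg C φ (span K {e}), ∃ c ∈ centralizer (φ.range : Set G), g = q * c := by
  obtain ⟨α, γ, k⟩ := h.exists_act hg
  have zm : z C φ e 1 ∈ Eg C φ (span K {e}) := (h.mem_Z he).2 ⟨1, map_one σ, rfl⟩
  obtain ⟨l, hl⟩ := Submodule.mem_span_singleton.1 ((h.fix_of_mem k h0 he ((mul_mem_cancel_right (inv_mem zm)).1
    (hc _ ((h.mem_Q h0 he).2 ⟨0, 1, h.toMod.tok0 he (map_one σ), rfl⟩))) e).2 (Submodule.mem_span_singleton_self e))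
  have h1 : ∀ a, P.B e a = 0 → σ l • γ a - a ∈ span K {e} := fun a ha => by
    obtain ⟨c, t⟩ := h.toMod.exists_tok he ha
    obtain ⟨r, hr, e1⟩ := (h.mem_Z he).1 (hc _ ((h.mem_Q h0 he).2 ⟨a, c, t, rfl⟩))
    obtain ⟨t1, e2⟩ := h.act_x k t
    obtain ⟨b1, b2, b3⟩ := h.toMod.tok.1 t1
    have l0 : l ≠ 0 := fun e => h0 (γ.map_eq_zero_iff.1 (by rw [← hl, e, zero_smul]))
    have t2 : TOk P e (γ a) (α c) := h.toMod.tok.2 ⟨he, by
      rw [← hl, P.B_smul_left] at b2
      exact (mul_eq_zero.1 b2).resolve_left ((map_ne_zero σ).2 l0), b3⟩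
    have t0 := h.toMod.tok0 he hr
    rw [e2, mul_inv_eq_iff_eq_mul, ← hl, x, C.T_smul_left t2, z, x, ← map_mul, C.T_mul t0 t] at e1
    have t3 := t2.smul (σ l)
    rw [P.σσ] at t3
    simpa using h.x_eq_x h0 t3 (t0.add t) e1
  obtain ⟨f, hf⟩ := h.toMod.exists_hp h0 he
  obtain ⟨e', f', hh⟩ := h.toMod.exists_hh hf
  have bl : ∀ {u}, u ∈ span K {e} → P.B u f' = 0 := fun hu => by
    obtain ⟨c, rfl⟩ := Submodule.mem_span_singleton.1 hu
    rw [P.B_smul_left, hh.ef, mul_zero]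
  obtain rfl : α = 1 := RingEquiv.ext fun c => by
    have a1 := bl (h1 (c • e') (by simp [hh.ee]))
    have a2 := bl (Submodule.smul_mem _ (α c) (h1 e' hh.ee))
    rw [k.semi, smul_comm] at a1
    rw [smul_sub] at a2
    rw [P.B_sub_left, sub_eq_zero] at a1 a2
    rw [a1, P.B_smul_left, P.B_smul_left, hh.h₂.ef, mul_one, mul_one] at a2
    exact (σ.injective a2).symm
  have h2 : σ (σ l) * σ l = 1 := by
    obtain ⟨a, ha⟩ := Submodule.mem_span_singleton.1 (h1 e' hh.ee)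
    obtain ⟨b, hb⟩ := Submodule.mem_span_singleton.1 (h1 f' hh.ef)
    have : P.B (σ l • γ e') (σ l • γ f') = 1 := by
      rw [← eq_sub_iff_add_eq.1 ha, ← eq_sub_iff_add_eq.1 hb]
      simp [he, hh.ef, hh.h₂.ef, P.B_eq_zero_comm.1 hh.ee]
    rwa [P.B_smul_left, P.B_smul_right, k.B_eq, hh.h₂.ef, map_one, mul_one] at this
  obtain ⟨γ', k', h3⟩ := h.act_smul k h2
  obtain ⟨a, c, t, h4⟩ := h.toMod.exists_T_of k'.toSI h0 he
    (by rw [h3, ← hl, smul_smul, mul_comm, ← P.σσ l, P.σσ (σ l), h2, one_smul]) fun a ha => by rw [h3]; exact h1 a ha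
  exact ⟨_, (h.mem_Q h0 he).2 ⟨a, c, t, rfl⟩, _, h.cent_of_act k' (μ := 1) fun v => by rw [one_smul, h4],
    (mul_inv_cancel_left _ _).symm⟩

theorem cQ (h0 : e ≠ 0) (he : P.B e e = 0) (hg : g ∈ normalizer (φ.range : Set G))
    (hc : g ∈ centralizer (Rg C φ (span K {e}) : Set G)) :
    ∃ r, σ r = r ∧ ∃ c ∈ centralizer (φ.range : Set G), g = z C φ e r * c := by
  obtain ⟨q, hq, c, hc', rfl⟩ := h.cV h0 he hg fun q hq => by
    rw [← hc q hq, mul_inv_cancel_right, mul_inv_cancel]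
    exact one_mem _
  obtain ⟨a, d, t, rfl⟩ := (h.mem_Q h0 he).1 hq
  have h1 : ∀ b, P.B e b = 0 → P.B b a = P.B a b := fun b hb => by
    obtain ⟨c', t'⟩ := h.toMod.exists_tok he hb
    have c1 : Commute (x C φ e a d * c) (x C φ e b c') := (hc _ ((h.mem_Q h0 he).2 ⟨b, c', t', rfl⟩)).symm
    have c2 : Commute c (x C φ e b c') := (hc' _ ⟨_, rfl⟩).symm
    have c3 := h.comm_T (s := C.T e a d) t' (by simpa [x] using c1.mul_left c2.inv_left)
    have c4 := C.T_commutator t t'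
    rw [commutatorElement_eq_one_iff_commute.2 c3, eq_comm, h.toMod.T_eq_one (h.toMod.tok0 he (by
      rw [map_sub, h.toMod.conj, h.toMod.conj, ← neg_sub, neg_eq_iff_add_eq_zero, h.toMod.add_self])) h0] at c4
    obtain ⟨l, h2, h3⟩ := c4
    obtain rfl : l = 0 := by simpa [h0] using h2.symm
    simpa [sub_eq_zero] using h3
  have h2 : C.T e a d ∈ C.fixG (P.perp (span K {e})) := fun b hb => by
    have hb := P.mem_perp_span_singleton.1 hb
    obtain ⟨θ, hθ⟩ := h.herm.exists_ne_conj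
    have := h1 (θ • b) (by simp [hb])
    rw [P.B_smul_left, P.B_smul_right, h1 b hb] at this
    change C.act _ b = b
    rw [C.T_perp t hb, (mul_eq_mul_right_iff.1 this).resolve_left hθ, zero_smul, add_zero]
  obtain ⟨r, hr, e1⟩ := (h.mem_Z he).1 ⟨_, h2, rfl⟩
  exact ⟨r, hr, c, hc', by rw [← e1]; rfl⟩

theorem cR (hU : TI P U) (h2 : 2 ≤ finrank K U) (hg : g ∈ normalizer (φ.range : Set G))
    (hc : g ∈ centralizer (Rg C φ U : Set G)) :
    ∃ q ∈ Eg C φ U, ∃ c ∈ centralizer (φ.range : Set G), g = q * c := by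
  obtain ⟨α, γ, k⟩ := h.exists_act hg
  have iso : ∀ p ∈ U, P.B p p = 0 := fun p hp => hU hp p hp
  have cx : ∀ {p a c}, TOk P p a c → p ∈ U → a ∈ P.perp U → g * x C φ p a c * g⁻¹ = x C φ p a c :=
    fun t hp ha => by rw [x, ← hc _ ⟨_, h.toMod.T_mem_rad hU t hp ha, rfl⟩, mul_inv_cancel_right]
  have cz : ∀ p ∈ U, g * z C φ p 1 * g⁻¹ = z C φ p 1 := fun p hp =>
    cx (h.toMod.tok0 (iso p hp) (map_one σ)) hp (zero_mem _)
  have h1 : ∀ p ∈ U, ∃ l : K, l • p = γ p := fun p hp => by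
    by_cases h0 : p = 0
    · exact ⟨0, by simp [h0]⟩
    exact Submodule.mem_span_singleton.1 ((h.fix_of_z k (iso p hp) (map_one σ) (map_one σ)
      (h.z_one_ne h0 (iso p hp)) (cz p hp) p).2 (Submodule.mem_span_singleton_self p))
  obtain ⟨p, hp, h0⟩ := (Submodule.ne_bot_iff U).1 fun e => by rw [e, finrank_bot] at h2; omega
  obtain ⟨p', hp', h0'⟩ : ∃ p' ∈ U, p' ∉ span K {p} := by
    by_contra hc
    push Not at hc
    have := Submodule.finrank_mono (show U ≤ span K {p} from hc)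
    rw [finrank_span_singleton h0] at this
    omega
  obtain ⟨l, hl⟩ := h1 p hp
  have h3 : ∀ u ∈ U, u ∉ span K {p} → γ u = l • u ∧ ∀ c, α c * l = l * c := fun u hu hu' => by
    obtain ⟨l', hl'⟩ := h1 u hu
    have : ∀ c, α c * l' = l * c := fun c => by
      obtain ⟨m, hm⟩ := h1 (p + c • u) (add_mem hp (U.smul_mem c hu))
      rw [map_add, k.semi, ← hl, ← hl', smul_add, smul_smul, smul_smul] at hm
      obtain ⟨rfl, e⟩ := eq_of_indep h0 hu' hm
      exact e.symm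
    obtain rfl : l' = l := by simpa using this 1
    exact ⟨hl'.symm, this⟩
  have l0 : l ≠ 0 := fun e => h0 (γ.map_eq_zero_iff.1 (by rw [← hl, e, zero_smul]))
  obtain rfl : α = 1 := RingEquiv.ext fun c => mul_right_cancel₀ l0 (((h3 p' hp' h0').2 c).trans (mul_comm _ _))
  have h4 : ∀ u ∈ U, γ u = l • u := fun u hu => by
    by_cases c : u ∈ span K {p}
    · obtain ⟨c, rfl⟩ := Submodule.mem_span_singleton.1 c
      rw [k.semi, ← hl, smul_comm]; rfl
    · exact (h3 u hu c).1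
  have h5 : σ l * l = 1 := by
    have a := cz p hp
    have n : σ (σ l * l * 1) = σ l * l * 1 := by rw [mul_one, map_mul, P.σσ, mul_comm]
    rw [h.act_z k (iso p hp) (map_one σ), ← hl, map_one, h.z_smul (iso p hp) (map_one σ)] at a
    have b := h.z_add (iso p hp) n (map_one σ)
    rw [a, h.z_sq (iso p hp) (map_one σ), h.z_eq_one (iso p hp) (by rw [map_add, n, map_one])] at b
    have := b.resolve_left h0
    rw [mul_one, ← h.toMod.add_self 1] at this
    exact add_right_cancel this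
  obtain ⟨γ', k', h6⟩ := h.act_smul k (μ := σ l) (by rw [P.σσ, mul_comm, h5])
  have h7 : ∀ u ∈ U, γ' u = u := fun u hu => by rw [h6, h4 u hu, smul_smul, h5, one_smul]
  have h8 : ∀ a ∈ P.perp U, γ' a = a := fun a ha => by
    have : ∀ u ∈ U, u ≠ 0 → γ' a - a ∈ span K {u} := fun u hu u0 => by
      obtain ⟨c, t⟩ := h.toMod.exists_tok (iso u hu) (ha u hu)
      obtain ⟨t1, e1⟩ := h.act_x k' t
      rw [h7 u hu] at t1 e1
      exact h.x_eq_x u0 t1 t (e1.symm.trans (cx t hu ha))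
    obtain ⟨c, e1⟩ := Submodule.mem_span_singleton.1 (this p hp h0)
    obtain ⟨c', e2⟩ := Submodule.mem_span_singleton.1 (this p' hp' fun e => h0' (by simp [e]))
    obtain ⟨rfl, -⟩ := eq_of_indep h0 h0' (a := c) (b := 0) (a' := 0) (b' := c') (by simp [e1, e2])
    exact (sub_eq_zero.1 (by rw [← e1, zero_smul]))
  have h9 : ∀ v, γ' (γ' v) = v := fun v => by
    have : γ' v - v ∈ U := by
      rw [← P.perp_perp C.nondeg U]
      intro u hu
      rw [P.B_sub_right, sub_eq_zero]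
      nth_rw 1 [← h8 u hu]
      exact k'.B_eq u v
    have := h7 _ this
    rw [map_sub, sub_eq_iff_eq_add, sub_add_eq_add_sub, h.toMod.vadd_self, zero_sub] at this
    rw [this, neg_eq_iff_add_eq_zero, h.toMod.vadd_self]
  obtain ⟨s, a1, a2⟩ := h.lin_det k' (h.toMod.eq_one_of_sq (by
    rw [← map_mul, show k'.semi.lin.toLinearMap * k'.semi.lin.toLinearMap = 1 from LinearMap.ext h9, map_one]))
  exact ⟨_, ⟨s, fun v hv => (a1 v).trans (h8 v hv), rfl⟩, _, a2, (mul_inv_cancel_left _ _).symm⟩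

theorem conj_Eg (k : Act C φ g α γ) (he : P.B e e = 0) :
    MulAut.conj g • Eg C φ (span K {e}) = Eg C φ (span K {γ e}) := by
  have he' : P.B (γ e) (γ e) = 0 := by rw [k.B_eq, he, map_zero]
  refine le_antisymm ?_ fun u hu => ?_
  · rintro _ ⟨u, hu, rfl⟩
    obtain ⟨r, hr, rfl⟩ := (h.mem_Z he).1 hu
    exact (h.mem_Z he').2 ⟨α r, by rw [← h.toMod.aut_comm, hr], h.act_z k he hr⟩
  · obtain ⟨r, hr, rfl⟩ := (h.mem_Z he').1 hu
    obtain ⟨r, rfl⟩ := α.surjective r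
    rw [← h.toMod.aut_comm] at hr
    exact ⟨_, (h.mem_Z he).2 ⟨r, α.injective hr, rfl⟩, h.act_z k he (α.injective hr)⟩

/-- a 2-subgroup of `N(L)` fixes an isotropic point -/
theorem fix_pt {H : Subgroup G} (h2 : IsPGroup 2 H) (hH : H ≤ normalizer (φ.range : Set G)) :
    ∃ p, p ≠ 0 ∧ P.B p p = 0 ∧ H ≤ normalizer (Eg C φ (span K {p}) : Set G) := by
  let Ω := {Z : Subgroup G // ∃ p, p ≠ 0 ∧ P.B p p = 0 ∧ Z = Eg C φ (span K {p})}
  let _ : MulAction (normalizer (φ.range : Set G)) Ω :=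
    { smul := fun g Z => ⟨MulAut.conj (g : G) • Z.1, by
        obtain ⟨p, h0, hp, e⟩ := Z.2
        obtain ⟨α, γ, k⟩ := h.exists_act g.2
        exact ⟨γ p, γ.map_ne_zero_iff.2 h0, by rw [k.B_eq, hp, map_zero], by rw [e, h.conj_Eg k hp]⟩⟩
      one_smul := fun Z => Subtype.ext (by
        change MulAut.conj (1 : G) • Z.1 = Z.1
        rw [map_one, one_smul])
      mul_smul := fun a b Z => Subtype.ext (by
        change MulAut.conj (a * b : G) • Z.1 = MulAut.conj (a : G) • MulAut.conj (b : G) • Z.1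
        rw [map_mul, mul_smul]) }
  have nm : ∀ (g : normalizer (φ.range : Set G)) (Z : Ω), g • Z = Z ↔ (g : G) ∈ normalizer (Z.1 : Set G) :=
    fun g Z => Subtype.ext_iff.trans (by
      change MulAut.conj (g : G) • Z.1 = Z.1 ↔ _
      rw [mem_normalizer_iff_map_conj_eq]; rfl)
  obtain ⟨e, f, hf⟩ := h.toMod.exists_pair
  have he := (h.toMod.hp_iff.1 hf).1
  have h0 := hp_ne hf
  have hQ : IsPGroup 2 ((Rg C φ (span K {e})).subgroupOf (normalizer (φ.range : Set G))) :=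
    ((h.toMod.rad_two (ti_span.2 (by simpa using he))).map φ).comap_subtype
  have h3 := hQ.card_modEq_card_fixedPoints Ω
  rw [show Nat.card (MulAction.fixedPoints
    ((Rg C φ (span K {e})).subgroupOf (normalizer (φ.range : Set G))) Ω) = 1 from Nat.card_eq_one_iff_exists.2
    ⟨⟨⟨_, e, h0, he, rfl⟩, fun g => (nm _ _).2 ?_⟩, fun Z => ?_⟩] at h3
  · obtain ⟨⟨_, p, a1, a2, rfl⟩, hZ⟩ := (h2.comap_subtype (K := normalizer (φ.range : Set G))
      ).nonempty_fixed_point_of_prime_not_dvd_card Ω (by unfold Nat.ModEq at h3; omega)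
    exact ⟨p, a1, a2, fun g hg => (nm ⟨g, hH hg⟩ _).1 (hZ ⟨⟨g, hH hg⟩, hg⟩)⟩
  · obtain ⟨s, hs, e1⟩ := g.2
    rw [show (g.1 : G) = φ s from e1.symm]
    exact (h.act_norm (h.act_self s) (fix_le_stb _ (rad_le_fix _ hs))).2.2
  · obtain ⟨⟨_, p, a1, a2, rfl⟩, hZ⟩ := Z
    have : p ∈ span K {e} := h.toMod.rad_fix_pt h0 he fun s hs => by
      have m := (nm ⟨φ s, le_normalizer ⟨s, rfl⟩⟩ _).1 (hZ ⟨_, s, hs, rfl⟩)
      exact (h.fix_of_mem (h.act_self s) a1 a2 ((mem_normalizer_iff.1 m _).1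
        ((h.mem_Z a2).2 ⟨1, map_one σ, rfl⟩)) p).2 (Submodule.mem_span_singleton_self p)
    refine Subtype.ext (Subtype.ext ?_)
    obtain ⟨c, rfl⟩ := Submodule.mem_span_singleton.1 this
    change Eg C φ _ = Eg C φ _
    rw [Submodule.span_singleton_smul_eq (IsUnit.mk0 c (left_ne_zero_of_smul a1))]

theorem zc {H : Subgroup G} (h2 : IsPGroup 2 H) (hH : H ≤ normalizer (φ.range : Set G))
    (he : P.B e e = 0) (hZ : H ≤ normalizer (Eg C φ (span K {e}) : Set G)) :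
    ∃ (A : Type) (_ : Group A) (_ : IsCyclic A) (χ : H →* A),
      (∀ g, χ g = 1 → (g : G) ∈ centralizer (Eg C φ (span K {e}) : Set G)) ∧
      ∀ g, g * g = 1 → χ g = 1 := by
  obtain ⟨ty, hty⟩ := h.exists_ty
  let τ : RingAut K := RingEquiv.ofRingHom σ σ (RingHom.ext P.σσ) (RingHom.ext P.σσ)
  have := h.toMod.aut_cyc
  have : (zpowers τ).Normal := ⟨fun a ha b => by
    rwa [(IsCyclic.isMulCommutative (α := RingAut K)).is_comm.comm b a, mul_inv_cancel_right]⟩
  refine ⟨RingAut K ⧸ zpowers τ, inferInstance, isCyclic_of_surjective _ (QuotientGroup.mk'_surjective _),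
    (QuotientGroup.mk' _).comp (ty.comp (inclusion hH)), fun g hg u hu => ?_, fun g hg => ?_⟩
  · obtain ⟨r, hr, rfl⟩ := (h.mem_Z he).1 hu
    by_cases h0 : e = 0
    · rw [(h.z_eq_one he hr).2 (.inl h0), one_mul, mul_one]
    obtain ⟨α, γ, k⟩ := h.exists_act (hH g.2)
    have h1 : α ∈ zpowers τ := hty ⟨g, hH g.2⟩ α γ k ▸ (QuotientGroup.eq_one_iff _).1 hg
    have h3 : ∀ c, σ c = c → α c = c := fun c hc =>
      (zpowers_le.2 (show τ ∈ MulAction.stabilizer (RingAut K) c from hc)) h1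
    obtain ⟨l, hl⟩ := Submodule.mem_span_singleton.1 ((h.fix_of_mem k h0 he ((mem_normalizer_iff.1 (hZ g.2) _).1
      ((h.mem_Z he).2 ⟨1, map_one σ, rfl⟩)) e).2 (Submodule.mem_span_singleton_self e))
    have n : σ (σ l * l) = σ l * l := by rw [map_mul, P.σσ, mul_comm]
    have h4 : ∀ c, σ c = c → g * z C φ e c * (g : G)⁻¹ = z C φ e (σ l * l * c) := fun c hc => by
      rw [h.act_z k he hc, ← hl, h3 c hc, h.z_smul he hc]
    have h5 : ∀ m : ℕ, (g : G) ^ m * z C φ e 1 * ((g : G) ^ m)⁻¹ = z C φ e ((σ l * l) ^ m) := fun m => by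
      induction m with
      | zero => simp
      | succ m ih =>
        rw [pow_succ' (σ l * l), ← h4 _ (by rw [map_pow, n]), ← ih, pow_succ']
        group
    obtain ⟨j, hj⟩ := h2 g
    have h6 := h5 (2 ^ j)
    rw [show (g : G) ^ 2 ^ j = 1 from congrArg Subtype.val hj, one_mul, inv_one, mul_one] at h6
    have b := h.z_add he (s := (σ l * l) ^ 2 ^ j) (by rw [map_pow, n]) (map_one σ)
    rw [← h6, h.z_sq he (map_one σ), h.z_eq_one he (by rw [map_add, map_pow, n, map_one])] at b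
    have h7 : ∀ (j : ℕ) (c : K), c ^ 2 ^ j = 1 → c = 1 := fun j => by
      induction j with
      | zero => simp
      | succ j ih => exact fun c hc => ih c (h.toMod.eq_one_of_sq (by rw [← pow_two, ← pow_mul, ← pow_succ, hc]))
    have h8 := h7 j _ (add_right_cancel ((b.resolve_left h0).trans (h.toMod.add_self 1).symm))
    have := h4 r hr
    rw [h8, one_mul] at this
    exact (mul_inv_eq_iff_eq_mul.1 this).symm
  · refine (QuotientGroup.eq_one_iff _).2 ?_
    rcases h.toMod.aut_sq (α := ty (inclusion hH g)) (by rw [← map_mul, ← map_mul, hg, map_one, map_one]) with e | e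
    · exact e ▸ one_mem _
    · exact (RingEquiv.ext e : ty (inclusion hH g) = τ) ▸ mem_zpowers τ

/-- an odd subgroup of `N(L)` normalised by `Z_e` and `x e a 0` centralises them -/
theorem cent_odd_sub {W : Subgroup G} (hW : Odd (Nat.card W)) (h1 : W ≤ normalizer (φ.range : Set G))
    {a : V} (h0 : e ≠ 0) (he : P.B e e = 0) (ha : P.B a a = 0) (hea : P.B e a = 0)
    (h2 : a ∉ span K {e}) (h3 : ∀ d, σ d = d → x C φ e a d ∈ normalizer (W : Set G)) {d : K}
    (hd : σ d = d) : W ≤ centralizer {x C φ e a d} := by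
  intro v hv
  obtain ⟨α, γ, k⟩ := h.exists_act (h1 hv)
  have o := map_one σ
  have zN : z C φ e 1 ∈ normalizer (W : Set G) := by
    have := mul_mem (h3 1 o) (h3 0 (map_zero σ))
    rw [x, x, ← map_mul, C.T_mul (h.toMod.tok1 he ha hea o) (h.toMod.tok1 he ha hea (map_zero σ)),
      h.toMod.vadd_self, ha, add_zero, add_zero] at this
    exact this
  have hp : P.B (γ e) (γ e) = 0 := by rw [k.B_eq, he, map_zero]
  have e1 := h.act_z k he o
  rw [map_one] at e1
  have kW : z C φ e 1 * z C φ (γ e) 1 ∈ W := by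
    have := mul_mem ((mem_normalizer_iff.1 zN _).1 hv) (inv_mem hv)
    rwa [inv_eq_of_mul_eq_one_right (h.z_sq he o), mul_assoc, mul_assoc, ← mul_assoc v, e1] at this
  have inv2 : ∀ {p p'}, P.B p p = 0 → P.B p' p' = 0 → P.B p p' = 0 → z C φ p 1 * z C φ p' 1 ∈ W →
      z C φ p 1 = z C φ p' 1 := fun {p p'} a1 a2 a3 a4 => by
    have := one_of_odd hW a4 (k := 1) (by
      rw [pow_one, (h.z_comm a1 a2 o o a3).mul_pow, pow_two, pow_two, h.z_sq a1 o, h.z_sq a2 o, one_mul])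
    rw [← inv_eq_of_mul_eq_one_right this, inv_eq_of_mul_eq_one_right (h.z_sq a1 o)]
  have e2 : P.B e (γ e) = 0 := by
    by_contra hb
    generalize γ e = p at hp kW hb
    have hb' : P.B p e ≠ 0 := mt P.B_eq_zero_comm.1 hb
    obtain ⟨t1, t2, t3⟩ := h.toMod.T_shift (h.toMod.tok1 he ha hea (map_zero σ)) (-(P.B p a / P.B p e))
    set a' := a + -(P.B p a / P.B p e) • e with ha'
    have b1 : P.B p a' = 0 := by simp [ha', hb']
    have b2 : P.B a' a' = 0 := by simpa using (h.toMod.tok.1 t1).2.2.symm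
    have uN : φ (C.T e a' 0) ∈ normalizer (W : Set G) := by
      rw [t3]
      exact h3 _ (by rw [zero_add, map_add, P.σσ, add_comm])
    have up : C.act (C.T e a' 0) p = p + P.B e p • a' := by
      rw [h.toMod.T_app t1, P.B_eq_zero_comm.1 b1]; simp
    have b3 : P.B (p + P.B e p • a') (p + P.B e p • a') = 0 := by rw [← up, C.B_act, hp]
    have k2 := (mem_normalizer_iff.1 uN _).1 kW
    rw [← conj_mul, h.z_conj _ he o, h.z_conj _ hp o, C.T_self t1, up] at k2
    have k3 := mul_mem (inv_mem kW) k2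
    rw [mul_inv_rev, mul_assoc, inv_mul_cancel_left, inv_eq_of_mul_eq_one_right (h.z_sq hp o)] at k3
    have p0 : p ≠ 0 := fun e => hb (by simp [e])
    have k4 := h.z_eq_z hp b3 o o (inv2 hp b3 (by simp [hp, b1]) k3) (h.z_one_ne p0 hp)
    rw [Submodule.add_mem_iff_right _ (Submodule.mem_span_singleton_self p), Submodule.smul_mem_iff _ hb] at k4
    obtain ⟨m, hm⟩ := Submodule.mem_span_singleton.1 k4
    have b4 := t1.perp
    rw [← hm, P.B_smul_right] at b4
    rw [(mul_eq_zero.1 b4).resolve_right hb, zero_smul, ha', eq_comm, add_eq_zero_iff_eq_neg] at hm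
    exact h2 (hm ▸ neg_mem (Submodule.smul_mem _ _ (Submodule.mem_span_singleton_self e)))
  have nQ := (h.act_norm k (h.fix_of_z k he o o (h.z_one_ne h0 he) (e1.trans (inv2 he hp e2 kW).symm))).2.1
  have xQ : x C φ e a d ∈ Rg C φ (span K {e}) := (h.mem_Q h0 he).2 ⟨a, d, h.toMod.tok1 he ha hea hd, rfl⟩
  have m1 := mul_mem ((mem_normalizer_iff.1 nQ _).1 xQ) (inv_mem xQ)
  have m2 := mul_mem hv ((mem_normalizer_iff.1 (h3 d hd) _).1 (inv_mem hv))
  rw [← mul_assoc, ← mul_assoc] at m2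
  obtain ⟨j, hj⟩ := (h.toMod.rad_two (U := span K {e}) (ti_span.2 (by simpa using he))).map φ ⟨_, m1⟩
  have := one_of_odd hW m2 (k := j) (congrArg Subtype.val hj)
  exact mem_centralizer_singleton_iff.2 (mul_inv_eq_iff_eq_mul.1 (mul_inv_eq_one.1 this))

end Emb

end CfsgLib.UN
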