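import Cfsg.Agent.Lib.UN.Odd
import Cfsg.Agent.Lib.Tech.SylowIn

/-! Conjugates of the involution in the root group -/

set_option autoImplicit false
set_option linter.unusedSectionVars false

namespace CfsgLib.UN

open Subgroup Module CfsgLib.Forms CfsgLib.LieMult
open CfsgLib.HX (Std CO Two Mv Tr LR Heis NF Fus4 Has4 M2)
open Submodule (span)
open scoped commutatorElement Pointwise

universe u

variable {K : Type} [Field K] [Finite K] {σ : K →+* K} {V : Type} [AddCommGroup V] [Module K V]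
  [FiniteDimensional K V] {P : PQ σ V} {S : Type} [Group S] [Finite S] {G : Type u} [Group G]
  [Finite G] {C : CG P S} {φ : S →* G} {t : G}

namespace FA

open Tech (IsSylowIn)

theorem mem_fix {e : V} {s : S} : s ∈ C.fixG (span K {e}) ↔ C.act s e = e :=
  ⟨fun k => k e (Submodule.mem_span_singleton_self e), fun k v hv => by
    obtain ⟨l, rfl⟩ := Submodule.mem_span_singleton.1 hv
    rw [map_smul, k]⟩

theorem ti {e : V} (he : P.B e e = 0) : TI P (span K {e}) := ti_span.2 (by simpa using he)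

theorem span_eq {e p : V} (h0 : p ≠ 0) (hp : p ∈ span K {e}) : span K {p} = span K {e} := by
  obtain ⟨l, rfl⟩ := Submodule.mem_span_singleton.1 hp
  exact Submodule.span_singleton_smul_eq (IsUnit.mk0 l (left_ne_zero_of_smul h0)) e

theorem two_zp {x : G} (hx : x * x = 1) : IsPGroup 2 (zpowers x) :=
  Tech.isPGroup_zpowers_of_pow (k := 1) (by rw [pow_one, pow_two, hx])

theorem T_mod (h : Mod C) {e a b : V} {c d : K} (h0 : e ≠ 0) (k : TOk P e a c) (k' : TOk P e b d)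
    (e1 : C.T e a c = C.T e b d) : a - b ∈ span K {e} := by
  obtain ⟨f, hf⟩ := h.exists_hp h0 (h.tok.1 k).1
  have := h.T_app k f
  rw [e1, h.T_app k' f, hf.ef, one_smul, one_smul] at this
  refine Submodule.mem_span_singleton.2 ⟨(P.B b f + σ d * 1) - (P.B a f + σ c * 1), ?_⟩
  rw [sub_smul]
  linear_combination (norm := abel) this

theorem irr (h : Mod C) {e a : V} (h0 : e ≠ 0) (he : P.B e e = 0) {U : Submodule K V} (h1 : e ∈ U)
    (h2 : ∀ s, C.act s e = e → ∀ v ∈ U, C.act s v ∈ U) (ha : a ∈ U) (hea : P.B e a = 0)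
    (h3 : a ∉ span K {e}) {v : V} (hv : P.B e v = 0) : v ∈ U := by
  have sp : ∀ v, P.B e v = 0 → v ∈ AddSubgroup.closure {a | a ∈ P.perp (span K {e}) ∧ P.B a a = 0} :=
    fun v hv => h.iso_span (ti he) (by rw [finrank_span_singleton h0]; have := h.d4; omega)
      (P.mem_perp_span_singleton.2 hv)
  obtain ⟨b, hb, eb, ba⟩ : ∃ b, P.B b b = 0 ∧ P.B e b = 0 ∧ P.B b a ≠ 0 := by
    by_contra! hc
    refine h3 (P.perp_perp C.nondeg (span K {e}) ▸ fun w hw => ?_)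
    refine AddSubgroup.closure_induction (p := fun w _ => P.B w a = 0) (fun b hb => ?_) (by simp)
      (fun x y _ _ hx hy => by rw [P.B_add_left, hx, hy, add_zero])
      (fun x _ hx => by simp [hx]) (sp w (P.mem_perp_span_singleton.1 hw))
    exact hc b hb.2 (P.mem_perp_span_singleton.1 hb.1)
  have k := h.tok0 hb (map_one σ)
  have bU : b ∈ U := by
    have := U.sub_mem (h2 _ (C.T_fix k (P.B_eq_zero_comm.1 eb) (by simp)) a ha) ha
    rw [h.T_app k] at this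
    simp only [map_zero, LinearMap.zero_apply, map_one, one_mul, zero_add, smul_zero, add_zero,
      add_sub_cancel_left] at this
    exact (U.smul_mem_iff ba).1 this
  have be : b ∉ span K {e} := fun hc => by
    obtain ⟨l, rfl⟩ := Submodule.mem_span_singleton.1 hc
    exact ba (by rw [P.B_smul_left, hea, mul_zero])
  refine (AddSubgroup.closure_le U.toAddSubgroup).2 (fun b' hb' => ?_) (sp v hv)
  by_cases c : b' ∈ span K {e}
  · exact (Submodule.span_singleton_le_iff_mem e U).2 h1 c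
  obtain ⟨s, μ, hμ, s1, s2⟩ := h.trans_line h0 he hb hb'.2 eb (P.mem_perp_span_singleton.1 hb'.1) be c
  exact (U.smul_mem_iff (ne_zero_of_norm hμ)).1 (s2 ▸ h2 s s1 b bU)

variable (h : Emb C φ) {e : V}
include h

theorem stb_of {s : S} (he : P.B e e = 0) (h0 : e ≠ 0) {r : K} (hr : σ r = r)
    (e1 : φ s * z C φ e 1 * (φ s)⁻¹ = z C φ e r) : s ∈ Stb C (span K {e}) :=
  h.fix_of_z (h.act_self s) he (map_one σ) hr
    (fun k => ((h.z_eq_one he (map_one σ)).1 k).elim h0 one_ne_zero) e1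

theorem z_mem (he : P.B e e = 0) {r : K} (hr : σ r = r) : z C φ e r ∈ Eg C φ (span K {e}) :=
  (h.mem_Z he).2 ⟨r, hr, rfl⟩

theorem ZQ (he : P.B e e = 0) : Eg C φ (span K {e}) ≤ Rg C φ (span K {e}) :=
  map_mono (h.E_le_rad (ti he))

omit h in
theorem QY : Rg C φ (span K {e}) ≤ Yg C φ (span K {e}) := map_mono (rad_le_fix _)

theorem Yz (he : P.B e e = 0) {y x : G} (hy : y ∈ Yg C φ (span K {e}))
    (hx : x ∈ Eg C φ (span K {e})) : Commute y x := by
  obtain ⟨y, hy, rfl⟩ := hy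
  obtain ⟨x, hx, rfl⟩ := hx
  exact Commute.map (h.E_cent (ti he) hx y hy) φ

theorem YQ {y : G} (hy : y ∈ Yg C φ (span K {e})) : y ∈ normalizer (Rg C φ (span K {e}) : Set G) := by
  obtain ⟨y, hy, rfl⟩ := hy
  exact (h.act_norm (h.act_self y) (fix_le_stb _ hy)).2.1

theorem Y_perf (h0 : e ≠ 0) (he : P.B e e = 0) :
    Yg C φ (span K {e}) ≤ ⁅Yg C φ (span K {e}), Yg C φ (span K {e})⁆ :=
  (map_mono (h.fix_perf h0 he)).trans (map_commutator _ _ _).le

theorem Y_cent (h0 : e ≠ 0) {c : G} (hy : c ∈ Yg C φ (span K {e}))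
    (hc : c ∈ centralizer (φ.range : Set G)) : c = 1 := by
  obtain ⟨y, hy, rfl⟩ := hy
  obtain ⟨l, hl⟩ := h.toMod.mem_center.1 (h.mem_center hc)
  have := hl e
  rw [mem_fix.1 hy] at this
  have l1 : l = 1 := by
    by_contra n
    exact h0 ((smul_eq_zero.1 (show (1 - l) • e = 0 by rw [sub_smul, one_smul, ← this, sub_self])).resolve_left
      (sub_ne_zero.2 (Ne.symm n)))
  rw [show y = 1 from C.ext fun v => by rw [hl, l1, one_smul, C.one_apply], map_one]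

theorem card_Y (h0 : e ≠ 0) : Nat.card (Yg C φ (span K {e})) = Nat.card (C.fixG (span K {e})) :=
  (Nat.card_congr (Equiv.ofBijective (φ.subgroupMap (C.fixG (span K {e}))) ⟨fun a b k => Subtype.ext
    (h.inj_fix h0 ((mem_fix.1 a.2).trans (mem_fix.1 b.2).symm) (congrArg Subtype.val k)),
    φ.subgroupMap_surjective _⟩)).symm

theorem syl_pt {T : Subgroup S} (hT : IsSylowIn 2 T ⊤) : ∃ p, p ≠ 0 ∧ P.B p p = 0 ∧
    Rad C (span K {p}) ≤ T ∧ T ≤ C.fixG (span K {p}) := by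
  obtain ⟨p, p0, hp, hn⟩ := h.fix_pt (hT.pgroup.map φ) ((map_le_range φ T).trans le_normalizer)
  have h1 : T ≤ C.fixG (span K {p}) := fun s hs => by
    obtain ⟨r, hr, e1⟩ := (h.mem_Z hp).1 (Tech.conj_mem_of_mem_normalizer (hn (mem_map_of_mem φ hs))
      (z_mem h hp (map_one σ)))
    exact mem_fix.2 (h.mem_fix_of_two (Tech.isPGroup_zpowers_of_mem hT.pgroup hs)
      ((stb_of h hp p0 hr e1 p).2 (Submodule.mem_span_singleton_self p)))
  exact ⟨p, p0, hp, (hT.of_le h1 le_top).le_of_le_normalizer (h.rad_two (ti hp)) (rad_le_fix _)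
    fun s hs => (h.stb_norm _ (fix_le_stb _ hs)).1.2, h1⟩

theorem map_syl {T : Subgroup S} (hT : IsSylowIn 2 T ⊤) :
    IsSylowIn 2 (T.map φ) φ.range ∧ Nat.card (T.map φ) = Nat.card T := by
  refine ⟨⟨map_le_range φ T, hT.pgroup.map φ, fun k => hT.not_dvd (k.trans ?_)⟩,
    (Nat.card_congr (Equiv.ofBijective (φ.subgroupMap T) ⟨fun a b k => Subtype.ext
      (h.inj_two hT.pgroup a.2 b.2 (congrArg Subtype.val k)), φ.subgroupMap_surjective _⟩)).symm⟩
  rw [relIndex_top_right, ← index_comap]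
  exact index_dvd_of_le (le_comap_map φ T)

theorem Z_le {φ' : S →* G} (h' : Emb C φ') {p : V} (he : P.B e e = 0) (p0 : p ≠ 0) (hp : P.B p p = 0)
    {T T' : Subgroup S} (h2 : IsPGroup 2 T') (e1 : T.map φ = T'.map φ') (a1 : Rad C (span K {e}) ≤ T)
    (a2 : T ≤ C.fixG (span K {e})) (b1 : Rad C (span K {p}) ≤ T') :
    Eg C φ (span K {e}) ≤ Eg C φ' (span K {p}) := fun x hx => by
  obtain ⟨u, hu, e2⟩ : x ∈ T'.map φ' := e1 ▸ map_mono a1 (ZQ h he hx)
  obtain ⟨r, hr, c, hc, e3⟩ := h'.cQ p0 hp (g := x) (le_normalizer ⟨u, e2⟩) fun q hq =>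
    (Yz h he (map_mono a2 (e1 ▸ map_mono b1 hq : q ∈ T.map φ)) hx).eq
  have m : C.T p 0 r ∈ T' := b1 (h.E_le_rad (ti hp) ((h.mem_E_pt hp).2 ⟨r, hr, rfl⟩))
  have := h'.inj2 (Tech.isPGroup_zpowers_of_mem h2 (mul_mem (inv_mem m) hu)) (by
    rwa [map_mul, map_inv, e2, e3, show φ' (C.T p 0 r) = z C φ' p r from rfl, inv_mul_cancel_left])
  rw [← e2, ← inv_mul_eq_one.1 this]
  exact z_mem h' hp hr

theorem Y_le (h0 : e ≠ 0) (he : P.B e e = 0) {H : Subgroup G} (h1 : H ≤ φ.range) (h2 : H ≤ ⁅H, H⁆)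
    (h3 : ∀ y ∈ H, Commute y (z C φ e 1)) : H ≤ Yg C φ (span K {e}) := by
  have h4 : H ≤ (Stb C (span K {e})).map φ := fun y hy => by
    obtain ⟨s, rfl⟩ := h1 hy
    exact mem_map_of_mem φ (stb_of h he h0 (map_one σ) (by rw [(h3 _ hy).eq, mul_inv_cancel_right]))
  refine h2.trans ((commutator_mono h4 h4).trans ?_)
  rw [← map_commutator]
  refine map_mono (commutator_le.2 fun a ha b hb => mem_fix.2 ?_)
  obtain ⟨l, hl⟩ := Submodule.mem_span_singleton.1 ((ha e).2 (Submodule.mem_span_singleton_self e))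
  obtain ⟨m, hm⟩ := Submodule.mem_span_singleton.1 ((hb e).2 (Submodule.mem_span_singleton_self e))
  have : C.act (a * b) e = C.act (b * a) e := by
    rw [C.mul_apply, C.mul_apply, ← hl, ← hm, map_smul, map_smul, ← hl, ← hm, smul_comm]
  have h5 : C.act (b * a)⁻¹ e ∈ span K {e} :=
    (inv_mem (mul_mem hb ha) e).2 (Submodule.mem_span_singleton_self e)
  obtain ⟨n, hn⟩ := Submodule.mem_span_singleton.1 h5
  rw [show ⁅a, b⁆ = a * b * (b * a)⁻¹ by rw [commutatorElement_def]; group, C.mul_apply, ← hn, map_smul,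
    this, ← map_smul, hn, C.apply_inv]

theorem Q_comm (h0 : e ≠ 0) (he : P.B e e = 0) {a b : G} (ha : a ∈ Rg C φ (span K {e}))
    (hb : b ∈ Rg C φ (span K {e})) : a * b * a⁻¹ * b⁻¹ ∈ Eg C φ (span K {e}) := by
  obtain ⟨a, c, k, rfl⟩ := (h.mem_Q h0 he).1 ha
  obtain ⟨b, d, k', rfl⟩ := (h.mem_Q h0 he).1 hb
  refine (h.mem_Z he).2 ⟨P.B b a - P.B a b, ?_, ?_⟩
  · rw [map_sub, h.conj, h.conj]
    linear_combination h.add_self (P.B a b) - h.add_self (P.B b a)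
  · rw [z, ← C.T_commutator k k', map_commutatorElement]; rfl

theorem le_Q (h0 : e ≠ 0) (he : P.B e e = 0) {H : Subgroup G} (h1 : H ≤ Yg C φ (span K {e}))
    (h2 : Yg C φ (span K {e}) ≤ normalizer (H : Set G))
    (h3 : ∀ a ∈ H, ∀ b ∈ H, a * b * a⁻¹ * b⁻¹ ∈ Eg C φ (span K {e})) : H ≤ Rg C φ (span K {e}) := by
  by_cases c : H ⊓ Rg C φ (span K {e}) ≤ Eg C φ (span K {e})
  · intro k hk
    obtain ⟨q, hq, c, hc, e1⟩ := h.cV h0 he (g := k) (le_normalizer (map_le_range φ _ (h1 hk)))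
      fun q hq => c ⟨by
        simpa [mul_assoc] using H.mul_mem hk (Tech.conj_mem_of_mem_normalizer (h2 (QY hq)) (H.inv_mem hk)),
        (Rg C φ _).mul_mem (Tech.conj_mem_of_mem_normalizer (YQ h (h1 hk)) hq) ((Rg C φ _).inv_mem hq)⟩
    rwa [e1, Y_cent h h0 (c := c) (by
      rw [eq_inv_mul_of_mul_eq e1.symm]; exact (Yg C φ _).mul_mem (inv_mem (QY hq)) (h1 hk)) hc, mul_one]
  obtain ⟨q, ⟨q1, q2⟩, q3⟩ := SetLike.not_le_iff_exists.1 c
  obtain ⟨a, d, k, rfl⟩ := (h.mem_Q h0 he).1 q2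
  have ae : a ∉ span K {e} := fun hc => by
    obtain ⟨l, rfl⟩ := Submodule.mem_span_singleton.1 hc
    have k0 : TOk P e 0 d := h.tok.2 ⟨he, by simp, by
      rw [(h.tok.1 k).2.2, P.B_smul_left, P.B_smul_right, he]; simp⟩
    obtain ⟨-, k1, e1⟩ := h.T_shift k0 l
    rw [zero_add] at e1
    have := (h.tok.1 k1).2.2
    refine q3 ((h.mem_Z he).2 ⟨_, ?_, congrArg φ e1⟩)
    simp only [map_zero] at this
    linear_combination this - h.add_self (d + l + σ l)
  let U : Submodule K V :=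
    { carrier := {v | ∀ s, C.act s e = e → φ s ∈ H → C.act s v - v ∈ span K {e}}
      add_mem' := fun {a b} ha hb s s1 s2 => by
        rw [map_add, add_sub_add_comm]; exact add_mem (ha s s1 s2) (hb s s1 s2)
      zero_mem' := fun s _ _ => by simp
      smul_mem' := fun l a ha s s1 s2 => by
        rw [map_smul, ← smul_sub]; exact Submodule.smul_mem _ l (ha s s1 s2) }
  have hU : ∀ v, P.B e v = 0 → v ∈ U := fun v hv => by
    refine irr h.toMod h0 he (U := U) (fun s s1 _ => by simp [s1]) (fun y hy v hv s s1 s2 => ?_)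
      (a := a) (fun s s1 s2 => ?_) k.perp ae hv
    · have := (fix_le_stb _ (mem_fix.2 hy) _).2 (hv (y⁻¹ * s * y)
        (by rw [C.mul_apply, C.mul_apply, hy, s1, C.inv_apply_eq hy]) (by
          rw [map_mul, map_mul, map_inv]
          exact Tech.conj_mem_of_mem_normalizer' (h2 (mem_map_of_mem φ (mem_fix.2 hy))) s2))
      rwa [map_sub, C.mul_apply, C.mul_apply, C.apply_inv] at this
    · obtain ⟨r, hr, e1⟩ := (h.mem_Z he).1 (h3 _ s2 _ q1)
      have k1 := k.act C s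
      have k0 := h.tok0 he hr
      rw [h.x_conj s k, s1, mul_inv_eq_iff_eq_mul, x, x, z, ← map_mul, C.T_mul k0 k] at e1
      rw [s1] at k1
      have k2 := k0.add k
      simpa using T_mod h.toMod h0 k1 k2 (h.inj_fix h0 ((C.T_self k1).trans (C.T_self k2).symm) e1)
  intro k hk
  obtain ⟨s, hs, rfl⟩ := h1 hk
  exact mem_map_of_mem φ ⟨hs, fun v hv => hU v (P.mem_perp_span_singleton.1 hv) s (mem_fix.1 hs) hk⟩

omit h in
theorem cj_map (g : G) (H : Subgroup S) :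
    H.map ((MulAut.conj g).toMonoidHom.comp φ) = Tech.cj g (H.map φ) := (map_map _ _ _).symm

theorem cj_pt (l : S) (h0 : e ≠ 0) (he : P.B e e = 0) :
    Tech.cj (φ l) (Eg C φ (span K {e})) ≤ Eg C φ (span K {C.act l e}) ∧
    Tech.cj (φ l) (Yg C φ (span K {e})) ≤ Yg C φ (span K {C.act l e}) ∧
    Tech.cj (φ l) (Rg C φ (span K {e})) ≤ Rg C φ (span K {C.act l e}) := by
  have he' : P.B (C.act l e) (C.act l e) = 0 := by rw [C.B_act, he]
  refine ⟨Tech.cj_le_iff.2 fun x hx => ?_, Tech.cj_le_iff.2 ?_, Tech.cj_le_iff.2 fun x hx => ?_⟩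
  · obtain ⟨r, hr, rfl⟩ := (h.mem_Z he).1 hx
    exact h.z_conj l he hr ▸ z_mem h he' hr
  · rintro _ ⟨s, hs, rfl⟩
    exact ⟨l * s * l⁻¹, mem_fix.2 (by rw [C.mul_apply, C.inv_apply, C.mul_apply, mem_fix.1 hs]), by simp⟩
  · obtain ⟨a, c, k, rfl⟩ := (h.mem_Q h0 he).1 hx
    exact (h.mem_Q (by simpa using h0) he').2 ⟨_, _, k.act C l, h.x_conj l k⟩

end FA

open FA

namespace Sit

variable (h : Sit C φ t) {e : V}
include h

theorem same_root {φ' : S →* G} {s : G} (h' : Sit C φ' s) (h0 : e ≠ 0) (he : P.B e e = 0)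
    (hs : s ∈ centralizer (Yg C φ (span K {e}) : Set G)) : ∃ p, p ≠ 0 ∧ P.B p p = 0 ∧
      Eg C φ' (span K {p}) = Eg C φ (span K {e}) ∧ Yg C φ' (span K {p}) = Yg C φ (span K {e}) ∧
      Rg C φ' (span K {p}) = Rg C φ (span K {e}) := by
  have YL : Yg C φ (span K {e}) ≤ φ'.range :=
    h'.le_of_perf (fun y hy => mem_centralizer_singleton_iff.2 (hs y hy)) (Y_perf h.toEmb h0 he)
  obtain ⟨T, hT, a1⟩ := Tech.exists_isSylowIn_ge (h.rad_two (ti he)) le_top
  obtain ⟨e', e0, -, -, a2⟩ := syl_pt h.toEmb hT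
  rw [span_eq e0 (h.rad_fix_pt h0 he fun s hs => by
    rw [mem_fix.1 (a2 (a1 hs))]; exact Submodule.mem_span_singleton_self e')] at a2
  obtain ⟨b1, b2⟩ := map_syl h'.toEmb hT
  obtain ⟨_, ⟨l, rfl⟩, e1⟩ := b1.exists_cj_eq (b1.of_card_le (hT.pgroup.map φ) ((map_mono a2).trans YL)
    (b2.trans (map_syl h.toEmb hT).2.symm).le)
  have hT' := hT.cj_of_mem (mem_top l)
  replace e1 : T.map φ = (Tech.cj l T).map φ' := by
    rw [← e1, map_map, ← cj_map]; congr 1; ext; simp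
  obtain ⟨p, p0, hp, c1, c2⟩ := syl_pt h.toEmb hT'
  have eZ : Eg C φ' (span K {p}) = Eg C φ (span K {e}) := le_antisymm
    (Z_le h'.toEmb h.toEmb hp h0 he hT.pgroup e1.symm c1 c2 a1)
    (Z_le h.toEmb h'.toEmb he p0 hp hT'.pgroup e1 a1 a2 c1)
  have eY : Yg C φ' (span K {p}) = Yg C φ (span K {e}) := by
    refine (eq_of_le_of_card_ge (Y_le h'.toEmb p0 hp YL (Y_perf h.toEmb h0 he) fun y hy =>
      Yz h.toEmb he hy (eZ ▸ z_mem h'.toEmb hp (map_one σ))) ?_).symm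
    obtain ⟨u, rfl⟩ := h.toMod.trans p0 hp h0 he
    rw [card_Y h'.toEmb p0, ← card_Y h.toEmb p0, ← Tech.card_cj (φ u)]
    exact card_le_of_le (cj_pt h.toEmb u p0 hp).2.1
  exact ⟨p, p0, hp, eZ, eY, le_antisymm
    (le_Q h.toEmb h0 he (eY ▸ QY) (eY ▸ fun _ => YQ h'.toEmb) (eZ ▸ fun _ a _ b => Q_comm h'.toEmb p0 hp a b))
    (le_Q h'.toEmb p0 hp (eY ▸ QY) (eY ▸ fun _ => YQ h.toEmb) (eZ ▸ fun _ a _ b => Q_comm h.toEmb h0 he a b))⟩

theorem ne_z (g : G) {p : V} {r : K} (hp : P.B p p = 0) (hr : σ r = r) :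
    g * t * g⁻¹ ≠ z C φ p r := fun e1 => by
  have h' := h.cj g
  have p0 : p ≠ 0 := fun k => h'.t1 (e1.trans ((h.z_eq_one hp hr).2 (.inl k)))
  have m := z_mem h.toEmb hp hr
  exact h'.t_not_mem (e1 ▸ h'.le_of_perf (fun y hy => mem_centralizer_singleton_iff.2
    (e1 ▸ (Yz h.toEmb hp hy m).eq)) (Y_perf h.toEmb p0 hp) (QY (ZQ h.toEmb hp m)))

theorem nfu (h0 : e ≠ 0) (he : P.B e e = 0) (h1 : ∀ g, g * t * g⁻¹ ≠ t * z C φ e 1) :
    NFU C φ t := fun g p r hp hr => ⟨fun e1 => by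
  by_contra n
  obtain ⟨p0, r0⟩ := not_or.1 (mt (h.z_eq_one hp hr).2 n)
  obtain ⟨d, hd, d1, -⟩ := h.exists_sqrt r
  have d0 : d ≠ 0 := fun k => r0 (by rw [← hd, k, mul_zero])
  have hp' : P.B (d • p) (d • p) = 0 := by rw [P.B_smul_left, P.B_smul_right, hp, mul_zero, mul_zero]
  obtain ⟨l, hl⟩ := h.toMod.trans (smul_ne_zero d0 p0) hp' h0 he
  refine h1 (φ l * g) ?_
  rw [← hl, ← h.z_conj l hp' (map_one σ), h.z_smul hp (map_one σ), d1 hr, hd, mul_one]
  calc _ = φ l * (g * t * g⁻¹) * (φ l)⁻¹ := by group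
    _ = _ := by rw [e1, ← mul_assoc, (h.tφ l).eq]; group, h.ne_z g hp hr⟩

theorem trans (h0 : e ≠ 0) (he : P.B e e = 0) {g : G} (hg : g * t * g⁻¹ = t * z C φ e 1) :
    ∃ g', g' * t * g'⁻¹ = t * z C φ e 1 ∧ g' ∈ normalizer (Yg C φ (span K {e}) : Set G) ∧
      g' ∈ normalizer (Rg C φ (span K {e}) : Set G) ∧
      g' ∈ normalizer (Eg C φ (span K {e}) : Set G) := by
  obtain ⟨p, p0, hp, e1, e2, e3⟩ := h.same_root (h.cj g) h0 he fun y hy => by
    obtain ⟨s, -, e4⟩ := id hy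
    rw [hg]
    exact ((e4 ▸ h.tφ s : Commute y t).mul_right (Yz h.toEmb he hy (z_mem h.toEmb he (map_one σ)))).eq
  obtain ⟨l, rfl⟩ := h.toMod.trans h0 he p0 hp
  obtain ⟨a1, a2, a3⟩ := cj_pt h.toEmb l h0 he
  refine ⟨g * φ l, ?_, Tech.mem_normalizer_of_cj_le ?_, Tech.mem_normalizer_of_cj_le ?_,
    Tech.mem_normalizer_of_cj_le ?_⟩
  · rw [← hg, mul_assoc g, (h.tφ l).eq]; group
  · rw [Tech.cj_mul]; exact (Tech.cj_mono g a2).trans ((cj_map g _).symm.trans e2).le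
  · rw [Tech.cj_mul]; exact (Tech.cj_mono g a3).trans ((cj_map g _).symm.trans e3).le
  · rw [Tech.cj_mul]; exact (Tech.cj_mono g a1).trans ((cj_map g _).symm.trans e1).le

end Sit

theorem NFU.cj (n : NFU C φ t) (g : G) :
    NFU C ((MulAut.conj g).toMonoidHom.comp φ) (g * t * g⁻¹) := fun k p r hp hr => by
  have e1 : z C ((MulAut.conj g).toMonoidHom.comp φ) p r = g * z C φ p r * g⁻¹ := rfl
  obtain ⟨a, b⟩ := n (g⁻¹ * k * g) p r hp hr
  rw [e1]
  have e3 : g⁻¹ * k * g * t * (g⁻¹ * k * g)⁻¹ = g⁻¹ * (k * (g * t * g⁻¹) * k⁻¹) * g := by group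
  exact ⟨fun e2 => by rw [a (by rw [e3, e2]; group), mul_one, mul_inv_cancel],
    fun e2 => b (by rw [e3, e2]; group)⟩

end CfsgLib.UN
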