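import Cfsg.Agent.Lib.UN.MovB
import Cfsg.Agent.Lib.HX.HatA
import Cfsg.Agent.Lib.SzS.Gen
import Cfsg.Agent.Lib.StdInt.Half

/-! The hats of the transvections -/

set_option autoImplicit false
set_option linter.unusedSectionVars false

namespace CfsgLib.UN

open Subgroup Module CfsgLib.Forms CfsgLib.LieMult
open CfsgLib.HX (Std CO Two Mv Tr LR Heis NF Fus4 Has4 M2)
open Submodule (span)
open scoped commutatorElement Pointwise

universe u

variable {K : Type} [Field K] [Finite K] {σ : K →+* K} {V : Type} [AddCommGroup V] [Module K V]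
  [FiniteDimensional K V] {P : PQ σ V} {S : Type} [Group S] [Finite S] {G : Type u} [Group G]
  [Finite G] {C : CG P S} {φ : S →* G} {t : G}

namespace HatP

omit [Finite G] in
theorem coc {g x : G} (e : g * x * g⁻¹ = x) : Commute g x := mul_inv_eq_iff_eq_mul.1 e

omit [Finite G] in
theorem cjc {g x : G} (e : Commute g x) : g * x * g⁻¹ = x := by rw [e.eq, mul_inv_cancel_right]

theorem nF (l : K) {s : K} (hs : σ s = s) (P : PQ σ V) : σ (σ l * l * s) = σ l * l * s := by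
  rw [map_mul, map_mul, P.σσ, hs, mul_comm l]

theorem fix_mem {l : S} {p : V} (hl : C.act l p = p) : φ l ∈ Yg C φ (span K {p}) :=
  mem_map_of_mem φ (C.mem_fixG.2 fun x hx => by
    obtain ⟨a, rfl⟩ := Submodule.mem_span_singleton.1 hx
    rw [map_smul, hl])

theorem T0_fix (h : Mod C) {e p : V} {r : K} (he : P.B e e = 0) (hr : σ r = r) (hpe : P.B e p = 0) :
    C.act (C.T e 0 r) p = p := C.T_fix (h.tok0 he hr) hpe (by simp)

theorem z_Y (h : Mod C) {e p : V} {r : K} (he : P.B e e = 0) (hr : σ r = r) (hpe : P.B e p = 0) :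
    z C φ e r ∈ Yg C φ (span K {p}) := fix_mem (T0_fix h he hr hpe)

theorem zz (h : Emb C φ) {e p : V} {r s : K} (he : P.B e e = 0) (hp : P.B p p = 0) (hpe : P.B e p = 0)
    (hr : σ r = r) (hs : σ s = s) : Commute (z C φ e r) (z C φ p s) :=
  coc (by
    have := h.z_conj (C.T e 0 r) hp hs
    rwa [T0_fix h.toMod he hr hpe] at this)

theorem z0 (h : Emb C φ) {e : V} (he : P.B e e = 0) : z C φ e 0 = 1 :=
  (h.z_eq_one he (map_zero σ)).2 (Or.inr rfl)

theorem Q_le_Y (U : Submodule K V) : Rg C φ U ≤ Yg C φ U := map_mono (rad_le_fix U)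

theorem two {g : G} (h : g * g = 1) : IsPGroup 2 (zpowers g) := fun ⟨x, n, hn⟩ =>
  ⟨1, Subtype.ext (by
    show x ^ 2 ^ 1 = 1
    rw [← hn, pow_one, ← zpow_natCast, ← zpow_mul, mul_comm, zpow_mul, zpow_natCast, pow_two, h, one_zpow])⟩

theorem exists_y0 (h : Pre C φ t) {e f : V} (hf : HP P e f) : ∃ y : K → G,
    (∀ s r, σ s = s → σ r = r → y (s + r) = y s * y r) ∧
    (∀ s, σ s = s → Mv φ.range (Yg C φ (span K {e})) t (z C φ e s) (y s)) ∧
    ∀ l μ s, σ s = s → C.act l e = μ • e → φ l * y s * (φ l)⁻¹ = y (σ μ * μ * s) := by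
  have he : P.B e e = 0 := hf.se.self_eq
  have h0 : e ≠ 0 := fun k => by have := hf.ef; rw [k] at this; simp at this
  obtain ⟨e', f', hh⟩ := h.exists_hh hf
  obtain ⟨l, hl⟩ := IsCyclic.exists_monoid_generator (α := Kˣ)
  obtain ⟨d, od, ed, -⟩ := h.exists_diag hh l.ne_zero (inv_ne_zero l.ne_zero) (by simp)
  have D := h.toSit.td h.two' (U := span K {e}) (ti_span.2 (by simpa using he)) (by simpa using h0)
  have tr : ∀ {a g}, Mv φ.range (Yg C φ (span K {e})) t a g → g * g = 1 → Tr φ.range (Rg C φ (span K {e})) t a g :=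
    fun m g2 => h.toSit.tr_of_mv (Submodule.mem_span_singleton_self e) m (two g2)
  have zE : ∀ {s}, σ s = s → z C φ e s ∈ Eg C φ (span K {e}) := fun hs => (h.mem_Z he).2 ⟨_, hs, rfl⟩
  have zn : ∀ {s}, σ s = s → s ≠ 0 → z C φ e s ≠ 1 := fun hs s0 k =>
    ((h.z_eq_one he hs).1 k).elim h0 s0
  have EY : ∀ g ∈ Eg C φ (span K {e}), g ∈ Yg C φ (span K {e}) := fun g hg => by
    obtain ⟨r, hr, rfl⟩ := (h.mem_Z he).1 hg
    exact z_Y h.toMod he hr he
  have mvE : ∀ g ∈ Eg C φ (span K {e}), Mv φ.range (Yg C φ (span K {e})) t (z C φ e 0) g := fun g hg => by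
    obtain ⟨r, hr, rfl⟩ := (h.mem_Z he).1 hg
    refine ⟨?_, by rw [z0 h.toEmb he, mul_one]; exact cjc (h.tφ _),
      fun o ho _ _ => ho _ ⟨_, rfl⟩⟩
    rintro _ ⟨k, hk, rfl⟩
    have := h.z_conj k he hr
    rw [C.mem_fixG.1 hk e (Submodule.mem_span_singleton_self e)] at this
    exact (coc this).eq
  have mvm : ∀ {s r g g'}, σ s = s → σ r = r → Mv φ.range (Yg C φ (span K {e})) t (z C φ e s) g →
      Mv φ.range (Yg C φ (span K {e})) t (z C φ e r) g' →
      Mv φ.range (Yg C φ (span K {e})) t (z C φ e (s + r)) (g * g') := fun {s r g g'} hs hr m m' =>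
    ⟨mul_mem m.cY m'.cY, by
      calc _ = g * (g' * t * g'⁻¹) * g⁻¹ := by group
        _ = _ := by rw [m'.pt, ← conj_mul, m.pt, ← m.cY _ (EY _ (zE hr)), mul_inv_cancel_right, h.z_add he hs hr,
          mul_assoc], fun o ho k k' => by rw [mul_assoc, m'.co o ho k k', ← mul_assoc, m.co o ho k k', mul_assoc]⟩
  obtain ⟨W, hW⟩ := HX.hatA_sub (fun g : G => g * g = 1 ∧ ∃ s, σ s = s ∧
      Mv φ.range (Yg C φ (span K {e})) t (z C φ e s) g ∧ (s = 0 → g ∈ Eg C φ (span K {e})))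
    ⟨mul_one 1, 0, map_zero σ, mvE 1 (one_mem _), fun _ => one_mem _⟩ (by
      rintro g g' ⟨g2, s, hs, m, k⟩ ⟨g2', r, hr, m', k'⟩
      have c : Commute g g' := by
        by_cases s0 : s = 0
        · exact m'.cY _ (EY _ (k s0))
        by_cases r0 : r = 0
        · exact (m.cY _ (EY _ (k' r0))).symm
        exact h.com e e s r g g' he he he hs hr (zn hs s0) (zn hr r0) m m' g2 g2'
      have p2 : g * g' * (g * g') = 1 := by rw [c.symm.mul_mul_mul_comm, g2, g2', mul_one]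
      refine ⟨p2, s + r, by rw [map_add, hs, hr], mvm hs hr m m', fun e0 => ?_⟩
      by_cases s0 : s = 0
      · exact mul_mem (k s0) (k' (by rwa [s0, zero_add] at e0))
      have := mvm hs hr m m'
      rw [e0, z0 h.toEmb he] at this
      refine (D.tr_one (tr this p2)).resolve_right fun hx => zn hs s0 ?_
      have e1 := D.sq_tmul (tr m g2)
      have c' : Commute (t * (g * g')) g' := m'.cY _ (EY _ hx)
      rw [g2, mul_one, show t * g = t * (g * g') * g' by rw [mul_assoc, mul_assoc, g2', mul_one],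
        c'.symm.mul_mul_mul_comm, D.sq _ hx, g2', mul_one] at e1
      exact e1.symm)
  have EW : Eg C φ (span K {e}) ≤ W := fun g hg => (hW g).2 ⟨D.sq g hg, 0, map_zero σ, mvE g hg, fun _ => hg⟩
  have dz : ∀ s, σ s = s → φ d * z C φ e s * (φ d)⁻¹ = z C φ e (σ l * l * s) := fun s hs => by
    rw [h.z_conj d he hs, ed, h.z_smul he hs]
  have dE : ∀ g ∈ Eg C φ (span K {e}), φ d * g * (φ d)⁻¹ ∈ Eg C φ (span K {e}) := fun g hg => by
    obtain ⟨r, hr, rfl⟩ := (h.mem_Z he).1 hg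
    rw [dz r hr]; exact zE (nF _ hr P)
  obtain ⟨U, -, US, Ud, UD, dec⟩ := SzS.exists_compl (W := ⊥) (h := φ d) bot_le EW
    (fun s _ w hw => by simpa using hw) (fun s hs => ((hW s).1 hs).1) (od.of_dvd_nat (orderOf_map_dvd φ d))
    (fun g hg => by
      obtain ⟨g2, s, hs, m, k⟩ := (hW g).1 hg
      have := h.toSit.mv_conj d m
      rw [ed, Submodule.span_singleton_smul_eq l.isUnit, dz s hs] at this
      exact (hW _).2 ⟨by rw [conj_mul, g2, mul_one, mul_inv_cancel], _, nF _ hs P, this, fun e0 => dE _ (k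
        ((mul_eq_zero.1 e0).resolve_left (mul_ne_zero ((map_ne_zero σ).2 l.ne_zero) l.ne_zero)))⟩)
    dE (fun s hs => by simpa using hs)
  have uq : ∀ u ∈ U, ∀ u' ∈ U, u * t * u⁻¹ = u' * t * u'⁻¹ → u = u' := fun u hu u' hu' e1 => by
    have m := mul_mem (inv_mem hu') hu
    obtain ⟨-, s, hs, m', k⟩ := (hW _).1 (US m)
    refine (inv_mul_eq_one.1 (UD _ m (k ?_))).symm
    by_contra s0
    refine zn hs s0 (mul_left_cancel (a := t) ?_)
    calc _ = u'⁻¹ * (u * t * u⁻¹) * u' := by rw [← m'.pt]; group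
      _ = _ := by rw [e1]; group
  have ex : ∀ s, ∃ u ∈ U, σ s = s → u * t * u⁻¹ = t * z C φ e s := fun s => by
    by_cases hs : σ s = s
    swap
    · exact ⟨1, one_mem _, fun k => absurd k hs⟩
    by_cases c : s = 0
    · exact ⟨1, one_mem _, fun _ => by simp [c, z0 h.toEmb he]⟩
    obtain ⟨p, m, p2⟩ := h.inv e s he hs
    obtain ⟨u, hu, x, hx, rfl⟩ := dec p ((hW p).2 ⟨p2, s, hs, m, fun k => absurd k c⟩)
    refine ⟨u, hu, fun _ => ?_⟩
    obtain ⟨k, -, rfl⟩ := hx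
    rw [← m.pt, mul_assoc u (φ k), (h.tφ k).eq]
    group
  choose y yU yt using ex
  have ymv : ∀ s, σ s = s → Mv φ.range (Yg C φ (span K {e})) t (z C φ e s) (y s) := fun s hs =>
    let ⟨_, _, _, m, _⟩ := (hW _).1 (US (yU s)); ⟨m.cY, yt s hs, m.co⟩
  refine ⟨y, fun s r hs hr => uq _ (yU _) _ (mul_mem (yU s) (yU r)) (by
    rw [yt _ (by rw [map_add, hs, hr]), (mvm hs hr (ymv s hs) (ymv r hr)).pt]), ymv, fun g μ s hs e1 => ?_⟩
  have μ0 : μ ≠ 0 := fun k => h0 ((C.act g).injective (by rw [e1, k, zero_smul, map_zero]))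
  obtain ⟨n, hn⟩ := hl (Units.mk0 μ μ0)
  have pw : ∀ n : ℕ, C.act (d ^ n) e = (l : K) ^ n • e ∧ φ (d ^ n) * y s * (φ (d ^ n))⁻¹ ∈ U := fun n => by
    induction n with
    | zero => simpa using yU s
    | succ n ih =>
      rw [pow_succ' d, C.mul_apply, ih.1, map_smul, ed, smul_smul, pow_succ, map_mul]
      exact ⟨rfl, by simpa only [mul_assoc, _root_.mul_inv_rev] using Ud _ ih.2⟩
  obtain ⟨p1, p2⟩ := pw n
  rw [show (l : K) ^ n = μ from congrArg Units.val hn] at p1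
  have k := (ymv s hs).cY _ (fix_mem (l := (d ^ n)⁻¹ * g) (by rw [C.mul_apply, e1, ← p1, C.inv_apply]))
  rw [map_mul, map_inv] at k
  have e2 : φ g * y s * (φ g)⁻¹ = φ (d ^ n) * y s * (φ (d ^ n))⁻¹ := by
    calc _ = φ (d ^ n) * ((φ (d ^ n))⁻¹ * φ g * y s) * (φ g)⁻¹ := by group
      _ = _ := by rw [k]; group
  refine uq _ (e2 ▸ p2) _ (yU _) ?_
  rw [(h.toSit.mv_conj g (ymv s hs)).pt, h.z_conj g he hs, e1, h.z_smul he hs, yt _ (nF _ hs P)]

end HatP

open HatP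

theorem Pre.hats (h : Pre C φ t) : ∃ y, Hats C φ t y := by
  classical
  obtain ⟨e, -, f, -, hf⟩ := h.exists_hp_perp (U := ⊥) disjoint_bot_left (by have := h.d4; simp; omega)
  have he : P.B e e = 0 := hf.se.self_eq
  have h0 : e ≠ 0 := fun k => by have := hf.ef; rw [k] at this; simp at this
  obtain ⟨y, ad, mv, eq⟩ := exists_y0 h hf
  have : ∀ p : V, ∃ w, p ≠ 0 → P.B p p = 0 → C.act w e = p := fun p => by
    by_cases k : p ≠ 0 ∧ P.B p p = 0
    · obtain ⟨w, hw⟩ := h.toMod.trans h0 he k.1 k.2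
      exact ⟨w, fun _ _ => hw⟩
    · exact ⟨1, fun k1 k2 => absurd ⟨k1, k2⟩ k⟩
  choose w hw using this
  have y0 : y 0 = 1 := by simpa using ad 0 0 (map_zero σ) (map_zero σ)
  obtain ⟨Y, Y0, Y1⟩ : ∃ Y : V → K → G, (∀ s, Y 0 s = 1) ∧ ∀ p s, p ≠ 0 → Y p s = φ (w p) * y s * (φ (w p))⁻¹ :=
    ⟨fun p s => if p = 0 then 1 else φ (w p) * y s * (φ (w p))⁻¹, fun s => if_pos rfl, fun p s k => if_neg k⟩
  have gen : ∀ l p μ s, p ≠ 0 → P.B p p = 0 → σ s = s → C.act l e = μ • p →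
      φ l * y s * (φ l)⁻¹ = Y p (σ μ * μ * s) := fun l p μ s k hp hs e1 => by
    rw [Y1 _ _ k, ← eq ((w p)⁻¹ * l) μ s hs (by rw [C.mul_apply, e1, map_smul, C.inv_apply_eq (hw p k hp)]),
      map_mul, map_inv]
    group
  have Yz : ∀ p, Y p 0 = 1 := fun p => by
    by_cases k : p = 0
    · rw [k, Y0]
    · rw [Y1 _ _ k, y0, mul_one, mul_inv_cancel]
  have add : ∀ p s r, σ s = s → σ r = r → Y p (s + r) = Y p s * Y p r := fun p s r hs hr => by
    by_cases k : p = 0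
    · simp only [k, Y0, mul_one]
    · simp only [Y1 _ _ k, ad s r hs hr, conj_mul]
  have mv' : ∀ p s, P.B p p = 0 → σ s = s → Mv φ.range (Yg C φ (span K {p})) t (z C φ p s) (Y p s) :=
    fun p s hp hs => by
      by_cases k : p = 0
      · rw [(h.z_eq_one hp hs).2 (Or.inl k), k, Y0]
        exact ⟨one_mem _, by simp, fun o _ _ _ => by simp⟩
      · have := h.toSit.mv_conj (w p) (mv s hs)
        rwa [h.z_conj _ he hs, hw p k hp, ← Y1 _ _ k] at this
  have one : ∀ p s, P.B p p = 0 → σ s = s → z C φ p s = 1 → Y p s = 1 := fun p s hp hs k =>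
    ((h.z_eq_one hp hs).1 k).elim (fun k => by rw [k, Y0]) fun k => by rw [k, Yz]
  have sq : ∀ p s, σ s = s → Y p s * Y p s = 1 := fun p s hs => by rw [← add p s s hs hs, h.add_self, Yz]
  refine ⟨Y, h.toSit, h.two', fun p s r _ => add p s r, fun p s l hp hs => ?_, fun l p s hp hs => ?_, mv',
    fun p p' s s' hp hp' hpp hs hs' => ?_⟩
  · by_cases k : p = 0
    · rw [k, smul_zero, Y0, Y0]
    by_cases k' : l = 0
    · rw [k', zero_smul, Y0, mul_zero, zero_mul, Yz]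
    rw [Y1 _ _ (smul_ne_zero k' k), gen _ p l s k hp hs (hw _ (smul_ne_zero k' k) (by
      rw [P.B_smul_left, P.B_smul_right, hp, mul_zero, mul_zero]))]
  · by_cases k : p = 0
    · rw [k, map_zero, Y0, mul_one, mul_inv_cancel]
    have := gen (l * w p) (C.act l p) 1 s (by simpa using k) (by rw [C.B_act, hp]) hs
      (by rw [C.mul_apply, hw p k hp, one_smul])
    rw [map_one, one_mul, one_mul] at this
    rw [← this, Y1 _ _ k, map_mul]
    group
  · by_cases k : z C φ p s = 1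
    · rw [one p s hp hs k]; exact Commute.one_left _
    by_cases k' : z C φ p' s' = 1
    · rw [one p' s' hp' hs' k']; exact Commute.one_right _
    exact h.com p p' s s' _ _ hp hp' hpp hs hs' k k' (mv' p s hp hs) (mv' p' s' hp' hs') (sq p s hs) (sq p' s' hs')

namespace Hats

variable {y : V → K → G} (h : Hats C φ t y) {p e a : V} {s r : K} {g : G}
include h

theorem y_zero (hp : P.B p p = 0) : y p 0 = 1 := by
  simpa using h.add p 0 0 hp (map_zero σ) (map_zero σ)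

theorem y_zero' (hs : σ s = s) : y 0 s = 1 := by
  have := h.smul 0 s 0 (by simp) hs
  rwa [smul_zero, mul_zero, zero_mul, h.y_zero (by simp)] at this

theorem y_sq (hp : P.B p p = 0) (hs : σ s = s) : y p s * y p s = 1 := by
  rw [← h.add p s s hp hs hs, h.add_self, h.y_zero hp]

theorem y_fix (hp : P.B p p = 0) (hs : σ s = s) {l : S} (hl : C.act l p = p) : Commute (φ l) (y p s) := by
  exact coc (by rw [h.eqv l p s hp hs, hl])

theorem zy (hp : P.B p p = 0) (he : P.B e e = 0) (hpe : P.B p e = 0) (hs : σ s = s) (hr : σ r = r) :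
    Commute (z C φ e r) (y p s) := by
  exact h.y_fix hp hs (T0_fix h.toMod he hr (P.B_eq_zero_comm.1 hpe))

theorem y_mem (hp : P.B p p = 0) (hs : σ s = s) : y p s ∈ G0 C φ y := by
  exact mem_sup_right (subset_closure ⟨p, s, hp, hs, rfl⟩)

theorem z_mem_Zh (hs : σ s = s) : z C φ p s ∈ Zh C φ y p := subset_closure ⟨s, hs, Or.inl rfl⟩

theorem y_mem_Zh (hs : σ s = s) : y p s ∈ Zh C φ y p := subset_closure ⟨s, hs, Or.inr rfl⟩

theorem zy_sq (hp : P.B p p = 0) (hs : σ s = s) (hr : σ r = r) : z C φ p s * y p r * (z C φ p s * y p r) = 1 := by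
  rw [(h.zy hp hp hp hr hs).symm.mul_mul_mul_comm, h.z_sq hp hs, h.y_sq hp hr, mul_one]

theorem mem_Zh (hp : P.B p p = 0) :
    g ∈ Zh C φ y p ↔ ∃ s r, σ s = s ∧ σ r = r ∧ g = z C φ p s * y p r := by
  refine ⟨fun hg => ?_, fun ⟨s, r, hs, hr, e⟩ => e ▸ mul_mem (h.z_mem_Zh hs) (h.y_mem_Zh hr)⟩
  induction hg using closure_induction with
  | mem x hx =>
    obtain ⟨s, hs, rfl | rfl⟩ := hx
    · exact ⟨s, 0, hs, map_zero σ, by rw [h.y_zero hp, mul_one]⟩
    · exact ⟨0, s, map_zero σ, hs, by rw [z0 h.toEmb hp, one_mul]⟩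
  | one => exact ⟨0, 0, map_zero σ, map_zero σ, by rw [h.y_zero hp, z0 h.toEmb hp, mul_one]⟩
  | mul x x' _ _ hx hx' =>
    obtain ⟨s, r, hs, hr, rfl⟩ := hx
    obtain ⟨s', r', hs', hr', rfl⟩ := hx'
    exact ⟨s + s', r + r', by rw [map_add, hs, hs'], by rw [map_add, hr, hr'], by
      rw [(h.zy hp hp hp hr hs').symm.mul_mul_mul_comm, h.z_add hp hs hs', h.add p r r' hp hr hr']⟩
  | inv x _ hx =>
    obtain ⟨s, r, hs, hr, rfl⟩ := hx
    exact ⟨s, r, hs, hr, inv_eq_of_mul_eq_one_right (h.zy_sq hp hs hr)⟩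

theorem zy_t (hp : P.B p p = 0) (hs : σ s = s) (hr : σ r = r) :
    z C φ p s * y p r * t * (z C φ p s * y p r)⁻¹ = t * z C φ p r := by
  calc _ = z C φ p s * (y p r * t * (y p r)⁻¹) * (z C φ p s)⁻¹ := by group
    _ = _ := by
      rw [(h.mv p r hp hr).pt]
      exact cjc ((h.tφ _).mul_right (zz h.toEmb hp hp hp hs hr))

theorem Zh_inj (h0 : p ≠ 0) (hp : P.B p p = 0) (hs : σ s = s) (hr : σ r = r)
    (e1 : z C φ p s * y p r = 1) : s = 0 ∧ r = 0 := by
  have := h.zy_t hp hs hr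
  rw [e1, one_mul, inv_one, mul_one, left_eq_mul, h.z_eq_one hp hr] at this
  obtain rfl := this.resolve_left h0
  rw [h.y_zero hp, mul_one, h.z_eq_one hp hs] at e1
  exact ⟨e1.resolve_left h0, rfl⟩

theorem Zh_sq (hp : P.B p p = 0) (hg : g ∈ Zh C φ y p) : g * g = 1 := by
  obtain ⟨s, r, hs, hr, rfl⟩ := (h.mem_Zh hp).1 hg
  exact h.zy_sq hp hs hr

/-- elements fixing the point `p` with a multiplier of norm one centralise the hat -/
theorem Zh_fix (hp : P.B p p = 0) {l : S} {μ : K} (hμ : σ μ * μ = 1) (hl : C.act l p = μ • p)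
    (hg : g ∈ Zh C φ y p) : Commute (φ l) g := by
  obtain ⟨s, r, hs, hr, rfl⟩ := (h.mem_Zh hp).1 hg
  exact Commute.mul_right (coc (by rw [h.z_conj l hp hs, hl, h.z_smul hp hs, hμ, one_mul]))
    (coc (by rw [h.eqv l p r hp hr, hl, h.smul p r μ hp hr, hμ, one_mul]))

theorem Zh_cY (hp : P.B p p = 0) : Zh C φ y p ≤ centralizer (Yg C φ (span K {p}) : Set G) := by
  rintro g hg _ ⟨l, hl, rfl⟩
  exact h.Zh_fix hp (μ := 1) (by simp) (by rw [C.mem_fixG.1 hl p (Submodule.mem_span_singleton_self p), one_smul]) hg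

theorem Zh_comm (hp : P.B p p = 0) (he : P.B e e = 0) (hpe : P.B p e = 0) :
    Zh C φ y p ≤ centralizer (Zh C φ y e : Set G) := by
  intro g hg g' hg'
  obtain ⟨s, r, hs, hr, rfl⟩ := (h.mem_Zh hp).1 hg
  obtain ⟨s', r', hs', hr', rfl⟩ := (h.mem_Zh he).1 hg'
  exact (((zz h.toEmb hp he hpe hs hs').mul_right (h.zy he hp (P.B_eq_zero_comm.1 hpe) hr' hs)).mul_left
    ((h.zy hp he hpe hr hs').symm.mul_right (h.com p e r r' hp he hpe hr hr'))).symm

theorem G0_co (hg : g ∈ G0 C φ y) : CO φ.range t g := by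
  intro o ho k k'
  have : G0 C φ y ≤ centralizer {o} := sup_le (fun l hl => mem_centralizer_singleton_iff.2 (ho l hl))
    ((closure_le _).2 fun _ ⟨p, s, hp, hs, e⟩ => e ▸ mem_centralizer_singleton_iff.2 ((h.mv p s hp hs).co o ho k k'))
  exact mem_centralizer_singleton_iff.1 (this hg)

theorem dec (h0 : p ≠ 0) (hp : P.B p p = 0) (hs : σ s = s)
    (hg : g ∈ centralizer (Rg C φ (span K {p}) : Set G)) (e1 : g * t * g⁻¹ = t * z C φ p s) :
    ∃ r, σ r = r ∧ ∃ o ∈ centralizer (φ.range : Set G), Commute o t ∧ Odd (orderOf o) ∧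
      (g = y p s * z C φ p r * o ∨ g = y p s * z C φ p r * t * o) := by
  have ct : Commute (y p s * g) t := coc (by
    calc _ = y p s * (g * t * g⁻¹) * (y p s)⁻¹ := by group
      _ = _ := by
        rw [e1, ← conj_mul, (h.mv p s hp hs).pt, cjc (h.zy hp hp hp hs hs).symm, mul_assoc,
          h.z_sq hp hs, mul_one])
  obtain ⟨r, hr, c, hc, e2⟩ := h.cQ h0 hp (h.cN ct) (mul_mem (centralizer_le (Q_le_Y _) (h.mv p s hp hs).cY) hg)
  obtain ⟨o, ho, ot, od, ec⟩ := h.two'.dec hc (by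
    have := (h.tφ (C.T p 0 r)).inv_left.mul_left ct
    rwa [e2, z, inv_mul_cancel_left] at this)
  rw [← eq_inv_mul_iff_mul_eq, inv_eq_of_mul_eq_one_right (h.y_sq hp hs)] at e2
  exact ⟨r, hr, o, ho, ot, od, ec.imp (fun f => by rw [e2, f, mul_assoc]) fun f => by rw [e2, f]; group⟩

theorem Zh_le_G0 (hp : P.B p p = 0) : Zh C φ y p ≤ G0 C φ y := fun g hg => by
  obtain ⟨s, r, hs, hr, rfl⟩ := (h.mem_Zh hp).1 hg
  exact mul_mem (mem_sup_left ⟨_, rfl⟩) (h.y_mem hp hr)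

theorem chr (h0 : p ≠ 0) (hp : P.B p p = 0) (hs : σ s = s) (g2 : g * g = 1)
    (hg : g ∈ centralizer (Rg C φ (span K {p}) : Set G)) (e1 : g * t * g⁻¹ = t * z C φ p s) :
    g ∈ Zh C φ y p ∨ t * g ∈ Eg C φ (span K {p}) := by
  obtain ⟨r, hr, o, ho, ot, od, e2⟩ := h.dec h0 hp hs hg e1
  have m : y p s * z C φ p r ∈ Zh C φ y p := mul_mem (h.y_mem_Zh hs) (h.z_mem_Zh hr)
  have c : Commute (y p s * z C φ p r) o := h.G0_co (h.Zh_le_G0 hp m) o ho ot od
  rcases e2 with rfl | rfl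
  · rw [c.symm.mul_mul_mul_comm, h.Zh_sq hp m, one_mul] at g2
    exact .inl (by rwa [StdInt.eq_one_of_odd_sq od g2, mul_one])
  · have e3 : y p s * z C φ p r * t * (y p s * z C φ p r * t) = z C φ p s := by
      rw [← mul_assoc, ← (h.zy hp hp hp hs hr).eq]
      nth_rewrite 2 [← inv_eq_of_mul_eq_one_right (h.zy_sq hp hr hs)]
      rw [h.zy_t hp hr hs, mul_assoc, z, (h.tφ _).eq, ← mul_assoc, h.t2, one_mul]
    rw [(c.symm.mul_right ot).mul_mul_mul_comm, e3] at g2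
    have k := (h.td h.two' (U := span K {p}) (ti_span.2 (by simpa using hp)) (by simpa using h0)).EC _
      ((h.mem_Z hp).2 ⟨s, hs, rfl⟩) (by rw [eq_inv_of_mul_eq_one_left g2]; exact inv_mem (mul_mem ho ho))
    rw [k, one_mul] at g2
    obtain rfl := ((h.z_eq_one hp hs).1 k).resolve_left h0
    refine .inr ((h.mem_Z hp).2 ⟨r, hr, ?_⟩)
    rw [StdInt.eq_one_of_odd_sq od g2, h.y_zero hp, one_mul, mul_one, z, (h.tφ _).eq, ← mul_assoc, h.t2, one_mul]

/-- the kernel lemma -/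
theorem ker_lem (h0 : p ≠ 0) (hp : P.B p p = 0) (h1 : g ∈ centralizer (Rg C φ (span K {p}) : Set G))
    (h2 : g ∈ centralizer (Zh C φ y p : Set G)) {k : G} (hk : k ∈ Zh C φ y p)
    (e1 : g * t * g⁻¹ = t * k) : ∃ k' ∈ Zh C φ y p, ∃ o ∈ centralizer (φ.range : Set G),
      Commute o t ∧ Odd (orderOf o) ∧ g = k' * o := by
  obtain ⟨s, r, hs, hr, rfl⟩ := (h.mem_Zh hp).1 hk
  have e2 : t * (z C φ p s * y p r) * (t * (z C φ p s * y p r)) = z C φ p r := by
    rw [mul_assoc, ← mul_assoc _ t]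
    nth_rewrite 2 [← inv_eq_of_mul_eq_one_right (h.zy_sq hp hs hr)]
    rw [h.zy_t hp hs hr, ← mul_assoc, h.t2, one_mul]
  rw [← e1, conj_mul, h.t2, mul_one, mul_inv_cancel, eq_comm, h.z_eq_one hp hr] at e2
  obtain rfl := e2.resolve_left h0
  rw [h.y_zero hp, mul_one] at e1
  obtain ⟨r, hr, o, ho, ot, od, e2⟩ := h.dec h0 hp hs h1 e1
  have m : y p s * z C φ p r ∈ Zh C φ y p := mul_mem (h.y_mem_Zh hs) (h.z_mem_Zh hr)
  refine ⟨_, m, o, ho, ot, od, e2.resolve_right fun e2 => one_ne_zero (α := K) ?_⟩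
  have m1 : y p 1 ∈ Zh C φ y p := h.y_mem_Zh (map_one σ)
  have c1 : Commute (y p 1) g := h2 _ m1
  have c2 : Commute (y p 1) (y p s * z C φ p r) := h.Zh_comm hp hp hp m _ m1
  have c3 : Commute (y p 1) o := (h.mv p 1 hp (map_one σ)).co o ho ot od
  have c4 := cjc ((c2.inv_right.mul_right c1).mul_right c3.inv_right)
  rw [e2, mul_assoc _⁻¹, mul_inv_cancel_right, inv_mul_cancel_left, (h.mv p 1 hp (map_one σ)).pt, mul_eq_left,
    h.z_eq_one hp (map_one σ)] at c4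
  exact c4.resolve_left h0

theorem w_symm (he : P.B e e = 0) (ha : P.B a a = 0) (hea : P.B e a = 0) : w y e a = w y a e := by
  rw [w, w, add_comm, mul_assoc, mul_assoc, (h.com e a 1 1 he ha hea (map_one σ) (map_one σ)).eq]

omit h in
theorem iso_add (he : P.B e e = 0) (ha : P.B a a = 0) (hea : P.B e a = 0) :
    P.B (a + e) (a + e) = 0 ∧ P.B (a + e) a = 0 ∧ P.B (a + e) e = 0 := by
  simp only [P.B_add_left, P.B_add_right, he, ha, hea, P.B_eq_zero_comm.1 hea, add_zero, and_self]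

theorem w_sq (he : P.B e e = 0) (ha : P.B a a = 0) (hea : P.B e a = 0) : w y e a * w y e a = 1 := by
  obtain ⟨k1, k2, k3⟩ := iso_add he ha hea
  have o := map_one σ
  have c1 := h.com _ _ 1 1 k1 ha k2 o o
  have c2 := h.com _ _ 1 1 k1 he k3 o o
  have c3 := h.com _ _ 1 1 he ha hea o o
  rw [w, (c2.symm.mul_right c3).mul_mul_mul_comm, c1.symm.mul_mul_mul_comm, h.y_sq k1 o, h.y_sq ha o, h.y_sq he o,
    mul_one, mul_one]

theorem w_t (he : P.B e e = 0) (ha : P.B a a = 0) (hea : P.B e a = 0) :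
    w y e a * t * (w y e a)⁻¹ = t * x C φ e a 0 := by
  obtain ⟨k1, k2, k3⟩ := iso_add he ha hea
  have o := map_one σ
  have hae := P.B_eq_zero_comm.1 hea
  have e1 := congrArg φ (h.T_line he ha hea o 1)
  simp only [map_mul, map_one, mul_one, one_smul] at e1
  calc _ = y (a + e) 1 * (y a 1 * (y e 1 * t * (y e 1)⁻¹) * (y a 1)⁻¹) * (y (a + e) 1)⁻¹ := by rw [w]; group
    _ = t * (z C φ (a + e) 1 * (z C φ a 1 * z C φ e 1)) := by
      rw [(h.mv e 1 he o).pt, ← conj_mul (b := y a 1), (h.mv a 1 ha o).pt, cjc (h.zy ha he hae o o).symm,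
        mul_assoc t, ← conj_mul, (h.mv _ 1 k1 o).pt, cjc ((h.zy k1 ha k2 o o).symm.mul_right
          (h.zy k1 he k3 o o).symm), mul_assoc]
    _ = _ := by
      rw [((zz h.toEmb k1 ha k2 o o).mul_right (zz h.toEmb k1 he k3 o o)).eq]
      rw [show z C φ (a + e) 1 = z C φ a 1 * z C φ e 1 * x C φ e a 0 from e1, ← mul_assoc (_ * _),
        (zz h.toEmb he ha hea o o).mul_mul_mul_comm, h.z_sq ha o, h.z_sq he o, one_mul, one_mul]

theorem w_conj (he : P.B e e = 0) (ha : P.B a a = 0) (hea : P.B e a = 0) (l : S) :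
    φ l * w y e a * (φ l)⁻¹ = w y (C.act l e) (C.act l a) := by
  have o := map_one σ
  rw [w, ← conj_mul, ← conj_mul, h.eqv l _ 1 (iso_add he ha hea).1 o, h.eqv l _ 1 ha o, h.eqv l _ 1 he o, map_add, w]

theorem w_self (he : P.B e e = 0) (l : K) : w y e (l • e) = y e (l + σ l) := by
  have o := map_one σ
  rw [w, show l • e + e = (l + 1) • e by rw [add_smul, one_smul], h.smul e 1 _ he o, h.smul e 1 _ he o,
    ← h.add e _ _ he (nF _ o P) (nF _ o P), ← h.add e _ _ he (by rw [map_add, nF _ o P, nF _ o P]) o]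
  congr 1
  rw [map_add, o]
  linear_combination (σ l * l + 1) * h.two

theorem w_mem (he : P.B e e = 0) (ha : P.B a a = 0) (hea : P.B e a = 0) : w y e a ∈ G0 C φ y := by
  have o := map_one σ
  exact mul_mem (mul_mem (h.y_mem (iso_add he ha hea).1 o) (h.y_mem ha o)) (h.y_mem he o)

theorem w_Zh (he : P.B e e = 0) (ha : P.B a a = 0) (hea : P.B e a = 0) (hp : P.B p p = 0)
    (h1 : P.B p e = 0) (h2 : P.B p a = 0) : w y e a ∈ centralizer (Zh C φ y p : Set G) := by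
  have o := map_one σ
  have k1 := P.B_eq_zero_comm.1 h1
  have k2 := P.B_eq_zero_comm.1 h2
  exact mul_mem (mul_mem (h.Zh_comm (iso_add he ha hea).1 hp (by rw [P.B_add_left, k1, k2, add_zero])
    (h.y_mem_Zh o)) (h.Zh_comm ha hp k2 (h.y_mem_Zh o))) (h.Zh_comm he hp k1 (h.y_mem_Zh o))

end Hats

end CfsgLib.UN
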