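import Cfsg.Agent.Lib.UN.Line

/-! The hat of the radical -/

set_option autoImplicit false
set_option linter.unusedSectionVars false

namespace CfsgLib.UN

open Subgroup Module CfsgLib.Forms CfsgLib.LieMult
open CfsgLib.HX (Std CO Two Mv Tr LR Heis NF Fus4 Has4 M2)
open Submodule (span)
open scoped commutatorElement Pointwise

universe u

variable {K : Type} [Field K] [Finite K] {σ : K →+* K} {V : Type} [AddCommGroup V] [Module K V]
  [FiniteDimensional K V] {P : PQ σ V} {S : Type} [Group S] [Finite S] {G : Type u} [Group G]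
  [Finite G] {C : CG P S} {φ : S →* G} {t : G}

namespace HeisP

open HatP

section Pure
variable {H : Type*} [Group H]

theorem cj4 (g A B : H) :
    g * (A * B * A * B) * g⁻¹ = g * A * g⁻¹ * (g * B * g⁻¹) * (g * A * g⁻¹) * (g * B * g⁻¹) := by group

theorem cm_add {A B B' : H} (hA : A * A = 1) (c : Commute B B') (c' : Commute (A * B' * A * B') B) :
    A * (B * B') * A * (B * B') = A * B * A * B * (A * B' * A * B') := by
  symm
  calc _ = A * B * A * (B * (A * B' * A * B')) := by group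
    _ = A * B * (A * A) * B' * A * (B' * B) := by rw [← c'.eq]; group
    _ = _ := by rw [hA, ← c.eq]; group

theorem del_add {A B A' B' δ δ' δ'' κ : H} (hA : A' * A' = 1) (hB : B * B = 1) (e1 : A' * B * A' * B = κ)
    (c1 : Commute δ A') (c2 : Commute δ B') (c3 : Commute κ B) (c4 : Commute κ B')
    (e : A * A' * (B * B') * δ'' = A * B * δ * (A' * B' * δ')) : δ'' = κ * (δ * δ') := by
  have e2 : B * A' = A' * B * κ := by
    rw [mul_assoc, ← c3.eq, ← e1]
    calc _ = A' * A' * B * A' * (B * B) := by rw [hA, hB]; group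
      _ = _ := by group
  refine mul_left_cancel (e.trans ?_)
  calc _ = A * B * (δ * (A' * B')) * δ' := by group
    _ = A * (B * A') * B' * (δ * δ') := by rw [(c1.mul_right c2).eq]; group
    _ = A * A' * B * (κ * B') * (δ * δ') := by rw [e2]; group
    _ = _ := by rw [c4.eq]; group

theorem eps_add {a b c d e : H} (h : a * a = 1) (ab : Commute a b) (ac : Commute a c) (ad : Commute a d)
    (ae : Commute a e) (cd : Commute c d) : a * (b * c) * (d * e * a) = b * d * (c * e) := by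
  rw [(ab.mul_right ac).eq, mul_assoc (b * c), ← mul_assoc a, (ad.mul_right ae).eq, mul_assoc _ a a, h, mul_one,
    cd.mul_mul_mul_comm]

theorem four_of_sq {u : H} (h : u * u * (u * u) = 1) : u ^ 4 = 1 := by
  rw [← h]; simp only [pow_succ, pow_zero, one_mul, mul_assoc]

theorem pow4 {U X k : H} (e : U * X * U⁻¹ = X * k) (hX : X * X = 1) (hk : k * k = 1) (c1 : Commute k U)
    (c2 : Commute k X) (h4 : U ^ 4 = 1) : (U * X) ^ 4 = 1 := by
  have e1 : U * X * (U * X) = k * (U * U) := by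
    calc _ = U * X * U⁻¹ * (U * (U * X * U⁻¹) * U⁻¹) * (U * U) := by group
      _ = X * k * (X * (k * k)) * (U * U) := by rw [e, ← conj_mul, e, cjc c1.symm, mul_assoc X k k]
      _ = _ := by rw [hk, mul_one, mul_assoc X, c2.eq, ← mul_assoc X, hX, one_mul]
  refine four_of_sq ?_
  rw [e1, (c1.mul_right c1).symm.mul_mul_mul_comm, hk, one_mul, ← h4]
  simp only [pow_succ, pow_zero, one_mul, mul_assoc]

theorem cj3 {Y W : H} (hY : Y * Y = 1) (q : H) :
    Y * W * Y * q * (Y * W * Y)⁻¹ = MulAut.conj Y (MulAut.conj W (MulAut.conj Y q)) := by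
  simp only [MulAut.conj_apply]; group

theorem fin1 {q A k1 k2 k3 : H} (hA : A * A = 1) (hk : k1 * k1 = 1) (c1 : Commute k1 A) (c2 : Commute k2 A)
    (c3 : Commute k1 k2) (c4 : Commute k1 k3) : q * A * k1 * k2 * (A * k3) * k1 = q * (k2 * k3) := by
  calc _ = q * (A * (k1 * k2 * A)) * (k3 * k1) := by group
    _ = q * (A * A) * (k1 * (k2 * k3)) * k1 := by rw [(c1.mul_left c2).eq]; group
    _ = q * (k2 * k3) * (k1 * k1) := by rw [hA, (c3.mul_right c4).eq]; group
    _ = _ := by rw [hk, mul_one]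

theorem fin2 {t ζ X A k z : H} (hA : A * A = 1) (hk : k * k = 1) (c1 : Commute k A) (hζ : ζ * ζ = 1)
    (c2 : Commute z ζ) : t * ζ * (X * A * k) * (A * (k * z) * ζ) = t * (ζ * X * ζ⁻¹) * z := by
  calc _ = t * ζ * X * A * (k * A) * k * (z * ζ) := by group
    _ = t * ζ * X * (A * A) * (k * k) * ζ * z := by rw [c1.eq, c2.eq]; group
    _ = _ := by rw [hA, hk, inv_eq_of_mul_eq_one_right hζ]; group

end Pure

variable {y : V → K → G} {e f a b d v v' : V} {s c γ γ' ρ ρ' : K} {g g' u k : G}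

theorem trF (h : Mod C) (a b : V) : σ (P.B a b + P.B b a) = P.B a b + P.B b a := by
  rw [map_add, h.conj, h.conj, add_comm]

theorem x_mul (o : TOk P e v γ) (o' : TOk P e v' γ') :
    x C φ e v γ * x C φ e v' γ' = x C φ e (v + v') (γ + γ' + P.B v' v) := by
  rw [x, x, x, ← map_mul, C.T_mul o o']

theorem z_inj (h : Emb C φ) (h0 : e ≠ 0) (he : P.B e e = 0) (hs : σ s = s) (hc : σ c = c)
    (k : z C φ e s = z C φ e c) : s = c := by
  have := (h.z_eq_one he (s := s + c) (by rw [map_add, hs, hc])).1 (by rw [h.z_add he hs hc, k, h.z_sq he hc])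
  linear_combination this.resolve_left h0 - h.add_self c

variable (C φ t y e) in
/-- the action of `g` on `Q_e` and on `t` -/
structure Pw (g : G) (v : V) (γ ρ : K) : Prop where
  mem : g ∈ G0 C φ y
  cZ : g ∈ centralizer (Zh C φ y e : Set G)
  ok : TOk P e v γ
  ρF : σ ρ = ρ
  act : ∀ d c, TOk P e d c → g * x C φ e d c * g⁻¹ = x C φ e d c * y e (P.B v d + P.B d v)
  tt : g * t * g⁻¹ = t * x C φ e v γ * y e ρ

variable (C φ y) in
/-- the commutators in the hat of `Q_e` -/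
def eta (c : K) (e : V) (T : K) : G := y e T * z C φ e (c * T)

theorem Pw.cast (k : Pw C φ t y e g v γ ρ) (h1 : v = v') (h2 : γ = γ') (h3 : ρ = ρ') : Pw C φ t y e g v' γ' ρ' :=
  h1 ▸ h2 ▸ h3 ▸ k

variable (h : HL C φ t y) (he : P.B e e = 0)
include h he

theorem cx (o : TOk P e d γ) (hk : k ∈ Zh C φ y e) : Commute k (x C φ e d γ) :=
  (h.Zh_fix he (μ := 1) (by simp) (by rw [C.T_self o, one_smul]) hk).symm

theorem cw (ha : P.B a a = 0) (hea : P.B e a = 0) (hk : k ∈ Zh C φ y e) : Commute k (w y e a) :=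
  h.w_Zh he ha hea he he hea k hk

theorem cc (hk : k ∈ Zh C φ y e) (hg : g ∈ Zh C φ y e) : Commute k g := h.Zh_comm he he he hg k hk

omit he in
theorem eta_mem (hc : σ c = c) (hs : σ s = s) : eta C φ y c e s ∈ Zh C φ y e :=
  mul_mem (h.y_mem_Zh hs) (h.z_mem_Zh (by rw [map_mul, hc, hs]))

theorem eta_add (hc : σ c = c) (hs : σ s = s) (hρ : σ ρ = ρ) :
    eta C φ y c e (s + ρ) = eta C φ y c e s * eta C φ y c e ρ := by
  have k1 : σ (c * s) = c * s := by rw [map_mul, hc, hs]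
  rw [eta, eta, eta, (h.zy he he he hρ k1).mul_mul_mul_comm, h.add e s ρ he hs hρ, mul_add,
    h.z_add he k1 (by rw [map_mul, hc, hρ])]

theorem eta_zero : eta C φ y c e 0 = 1 := by rw [eta, mul_zero, h.y_zero he, z0 h.toEmb he, mul_one]

theorem eta_conj {l : S} {μ : K} {e' : V} (he' : P.B e' e' = 0) (hc : σ c = c) (hs : σ s = s)
    (hl : C.act l e' = μ • e) : φ l * eta C φ y c e' s * (φ l)⁻¹ = eta C φ y c e (σ μ * μ * s) := by
  have k1 : σ (c * s) = c * s := by rw [map_mul, hc, hs]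
  rw [eta, ← conj_mul, h.eqv l _ s he' hs, h.z_conj l he' k1, hl, h.smul e s μ he hs, h.z_smul he k1, eta,
    mul_left_comm c]

theorem w_zero : w y e 0 = 1 := by simpa [h.y_zero he] using h.w_self he 0

theorem Pw.mul (k : Pw C φ t y e g v γ ρ) (k' : Pw C φ t y e g' v' γ' ρ') :
    Pw C φ t y e (g * g') (v + v') (γ + γ' + P.B v' v) (ρ + ρ' + (P.B v v' + P.B v' v)) where
  mem := mul_mem k.mem k'.mem
  cZ := mul_mem k.cZ k'.cZ
  ok := k.ok.add k'.ok
  ρF := by rw [map_add, map_add, k.ρF, k'.ρF, trF h.toMod]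
  act d c o := by
    calc _ = g * (g' * x C φ e d c * g'⁻¹) * g⁻¹ := by group
      _ = _ := by
        rw [k'.act d c o, ← conj_mul, k.act d c o, cjc (Commute.symm (k.cZ _ (h.y_mem_Zh (trF h.toMod _ _)))),
          mul_assoc, ← h.add e _ _ he (trF h.toMod _ _) (trF h.toMod _ _), P.B_add_left, P.B_add_right,
          add_add_add_comm]
  tt := by
    calc _ = g * (g' * t * g'⁻¹) * g⁻¹ := by group
      _ = t * (x C φ e v γ * x C φ e v' γ') * (y e ρ * y e (P.B v v' + P.B v' v) * y e ρ') := by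
        rw [k'.tt, ← conj_mul, ← conj_mul, k.tt, k.act _ _ k'.ok, cjc (Commute.symm (k.cZ _ (h.y_mem_Zh k'.ρF))),
          mul_assoc t (x C φ e v γ), mul_assoc t, (cx h he k'.ok (h.y_mem_Zh k.ρF)).mul_mul_mul_comm]
        simp only [mul_assoc]
      _ = _ := by
        rw [x_mul k.ok k'.ok, ← h.add e _ _ he k.ρF (trF h.toMod _ _), ← h.add e _ _ he (by
          rw [map_add, k.ρF, trF h.toMod]) k'.ρF, add_right_comm ρ]

theorem pw_w (ha : P.B a a = 0) (hea : P.B e a = 0) : Pw C φ t y e (w y e a) a 0 0 where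
  mem := h.w_mem he ha hea
  cZ := h.w_Zh he ha hea he he hea
  ok := h.tok1 he ha hea (map_zero σ)
  ρF := map_zero σ
  act d c o := by
    have := h.wx he ha hea o
    rw [mul_inv_eq_iff_eq_mul, mul_assoc, (cx h he o (h.y_mem_Zh (trF h.toMod _ _))).eq] at this
    rw [inv_eq_of_mul_eq_one_right (h.w_sq he ha hea), mul_assoc, this, ← mul_assoc, h.w_sq he ha hea, one_mul]
  tt := by rw [h.w_t he ha hea, h.y_zero he, mul_one]

theorem ker3 (h0 : e ≠ 0) (hu : u ∈ G0 C φ y) (cu : u ∈ centralizer (Zh C φ y e : Set G))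
    (cg : g ∈ centralizer (Zh C φ y e : Set G)) (u4 : u ^ 4 = 1) (g4 : g ^ 4 = 1)
    (h1 : ∀ d γ, TOk P e d γ → g * x C φ e d γ * g⁻¹ = u * x C φ e d γ * u⁻¹) (hk : k ∈ Zh C φ y e)
    (h2 : g * t * g⁻¹ = u * t * u⁻¹ * k) : ∃ k' ∈ Zh C φ y e, g = u * k' := by
  obtain ⟨k', hk', o, ho, ot, od, e1⟩ := h.ker_lem (g := u⁻¹ * g) h0 he (fun q hq => by
      obtain ⟨d, γ, o, rfl⟩ := (h.mem_Q h0 he).1 hq
      refine (coc ?_).symm.eq
      calc _ = u⁻¹ * (g * x C φ e d γ * g⁻¹) * u := by group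
        _ = _ := by rw [h1 d γ o]; group) (mul_mem (inv_mem cu) cg) hk (by
      calc _ = u⁻¹ * (g * t * g⁻¹) * u := by group
        _ = _ := by rw [h2, mul_assoc, mul_assoc _ k, cu k hk]; group)
  rw [inv_mul_eq_iff_eq_mul] at e1
  have c1 : Commute k' o := h.G0_co (h.Zh_le_G0 he hk') o ho ot od
  have c2 : Commute u (k' * o) := Commute.mul_right (Commute.symm (cu k' hk')) (h.G0_co hu o ho ot od)
  rw [e1, c2.mul_pow, c1.mul_pow, u4, four_of_sq (by rw [h.Zh_sq he hk', mul_one]), one_mul, one_mul] at g4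
  have : orderOf o = 1 := ((Nat.coprime_two_right.2 od).pow_right 2).eq_one_of_dvd
    (orderOf_dvd_of_pow_eq_one g4)
  exact ⟨k', hk', by rw [e1, orderOf_eq_one_iff.1 this, mul_one]⟩

theorem Pw.ker (h0 : e ≠ 0) (k : Pw C φ t y e u v γ ρ) (k' : Pw C φ t y e g v γ' ρ') (u4 : u ^ 4 = 1)
    (g4 : g ^ 4 = 1) : ∃ k' ∈ Zh C φ y e, g = u * k' := by
  have hγ : σ (γ + γ') = γ + γ' := by
    rw [map_add]
    linear_combination (h.tok.1 k.ok).2.2 + (h.tok.1 k'.ok).2.2 + h.add_self (P.B v v - γ - γ')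
  refine ker3 h he h0 k.mem k.cZ k'.cZ u4 g4 (fun d γ o => by rw [k.act d γ o, k'.act d γ o])
    (mul_mem (h.y_mem_Zh k.ρF) (mul_mem (h.z_mem_Zh hγ) (h.y_mem_Zh k'.ρF))) ?_
  rw [k.tt, k'.tt, mul_assoc _ (y e ρ), ← mul_assoc (y e ρ), h.y_sq he k.ρF, one_mul,
    ← mul_assoc, mul_assoc t _ (z C φ e _)]
  refine congrArg (fun q => t * q * y e ρ') ((x_mul k.ok (h.tok0 he hγ)).trans ?_).symm
  rw [add_zero, map_zero, LinearMap.zero_apply, add_zero, ← add_assoc, h.add_self, zero_add]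

theorem kap (h0 : e ≠ 0) (ha : P.B a a = 0) (hb : P.B b b = 0) (hea : P.B e a = 0) (heb : P.B e b = 0) :
    ∃ r, σ r = r ∧ w y e a * w y e b * w y e a * w y e b = y e (P.B a b + P.B b a) * z C φ e r := by
  have A := pw_w h he ha hea
  have B := pw_w h he hb heb
  have A2 := h.w_sq he ha hea
  obtain ⟨k, hk, e1⟩ := A.ker h he h0 (((B.mul h he A).mul h he B).cast
    (by rw [add_right_comm, h.vadd_self, zero_add]) rfl rfl) (four_of_sq (by rw [A2, mul_one])) (four_of_sq (by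
      rw [show w y e b * w y e a * w y e b * (w y e b * w y e a * w y e b) =
        w y e b * (w y e a * (w y e b * w y e b) * w y e a) * w y e b by group, h.w_sq he hb heb, mul_one, A2, mul_one,
        h.w_sq he hb heb, mul_one]))
  have e2 : w y e a * w y e b * (w y e a * w y e b) = k := by
    rw [← one_mul k, ← A2, mul_assoc _ _ k, ← e1]; group
  obtain ⟨s, r, hs, hr, rfl⟩ := (h.mem_Zh he).1 hk
  have := (((A.mul h he B).mul h he (A.mul h he B)).cast (v' := 0) (γ' := P.B a b + P.B b a) (ρ' := 0)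
    (h.vadd_self _) (by
      simp only [P.B_add_left, P.B_add_right, ha, hb]; linear_combination h.add_self (P.B b a))
    (by rw [h.add_self, h.add_self, add_zero])).tt
  rw [e2, h.zy_t he hs hr, h.y_zero he, mul_one, mul_right_inj] at this
  obtain rfl := z_inj h.toEmb h0 he hr (trF h.toMod a b) this
  exact ⟨s, hs, by rw [mul_assoc, e2, (h.zy he he he hr hs).eq]⟩

theorem kap_mem (h0 : e ≠ 0) (ha : P.B a a = 0) (hb : P.B b b = 0) (hea : P.B e a = 0) (heb : P.B e b = 0) :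
    w y e a * w y e b * w y e a * w y e b ∈ Zh C φ y e := by
  obtain ⟨r, hr, e1⟩ := kap h he h0 ha hb hea heb
  exact e1 ▸ mul_mem (h.y_mem_Zh (trF h.toMod _ _)) (h.z_mem_Zh hr)

theorem ww4 (h0 : e ≠ 0) (ha : P.B a a = 0) (hb : P.B b b = 0) (hea : P.B e a = 0) (heb : P.B e b = 0) :
    (w y e a * w y e b) ^ 4 = 1 :=
  four_of_sq (by rw [← mul_assoc _ (w y e a)]; exact h.Zh_sq he (kap_mem h he h0 ha hb hea heb))

theorem w_cj {e' a' : V} (he' : P.B e' e' = 0) (ha' : P.B a' a' = 0) (hea' : P.B e' a' = 0) (ha : P.B a a = 0)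
    (hea : P.B e a = 0) {l : S} {μ ν : K} (e1 : C.act l e' = μ • e) (e2 : C.act l a' = ν • a) (m : K) :
    φ l * w y e' (m • a') * (φ l)⁻¹ = w y e ((σ μ * (m * ν)) • a) := by
  rw [h.w_conj he' (by simp [ha']) (by simp [hea']), e1, map_smul, e2, h.wsmul _ _ _ he (by simp [ha]) (by simp [hea]),
    smul_smul, smul_smul, mul_assoc]

omit he in
/-- the commutators on a hyperbolic pair orthogonal to `e` -/
theorem kp_eq (k : HH P e f a b) : ∃ c, σ c = c ∧ ∀ l m : K, w y e (l • a) * w y e (m • b) * w y e (l • a) *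
    w y e (m • b) = eta C φ y c e (σ l * m + σ m * l) := by
  have he := k.h₁.se.self_eq
  have ha := k.h₂.se.self_eq
  have hb := k.h₂.sf.self_eq
  have h0 : e ≠ 0 := fun e0 => by have := k.h₁.ef; rw [e0] at this; simp at this
  obtain ⟨κ, hκ⟩ : ∃ κ : K → K → G, ∀ l m, κ l m = w y e (l • a) * w y e (m • b) * w y e (l • a) * w y e (m • b) :=
    ⟨_, fun _ _ => rfl⟩
  have ia : ∀ l : K, P.B (l • a) (l • a) = 0 := fun l => by simp [ha]
  have ib : ∀ l : K, P.B (l • b) (l • b) = 0 := fun l => by simp [hb]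
  have ea : ∀ l : K, P.B e (l • a) = 0 := fun l => by simp [k.ee]
  have eb : ∀ l : K, P.B e (l • b) = 0 := fun l => by simp [k.ef]
  have mem : ∀ l m, κ l m ∈ Zh C φ y e := fun l m => hκ l m ▸ kap_mem h he h0 (ia l) (ib m) (ea l) (eb m)
  have add : ∀ l m m', κ l (m + m') = κ l m * κ l m' := fun l m m' => by
    have c : Commute (w y e (m • b)) (w y e (m' • b)) := by
      show _ * _ = _ * _
      rw [← h.wadd _ _ _ he (ib m) (ib m') (eb m) (eb m') (by simp [hb]),
        ← h.wadd _ _ _ he (ib m') (ib m) (eb m') (eb m) (by simp [hb]), add_comm]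
    rw [hκ, hκ, hκ, add_smul, h.wadd _ _ _ he (ib m) (ib m') (eb m) (eb m') (by simp [hb])]
    exact cm_add (h.w_sq he (ia l) (ea l)) c (cw h he (ib m) (eb m) (hκ l m' ▸ mem l m'))
  have cj : ∀ (d : S) (μ ν ν' : K), C.act d e = μ • e → C.act d a = ν • a → C.act d b = ν' • b → ∀ l m,
      φ d * κ l m * (φ d)⁻¹ = κ (σ μ * (l * ν)) (σ μ * (m * ν')) := fun d μ ν ν' e1 e2 e3 l m => by
    rw [hκ, hκ, cj4, w_cj h he he ha k.ee ha k.ee e1 e2, w_cj h he he hb k.ef hb k.ef e1 e3]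
  have z1 : ∀ l, κ l 0 = 1 := fun l => by simpa using add l 0 0
  have one : ∀ l m, κ l m = κ 1 (σ l * m) := fun l m => by
    by_cases l0 : l = 0
    · rw [l0, map_zero, zero_mul, z1, hκ, zero_smul, w_zero h he, one_mul, mul_one, h.w_sq he (ib m) (eb m)]
    obtain ⟨p, hp, -⟩ := h.exists_sqrt l
    obtain ⟨n, hn, nF, -⟩ := h.exists_sqrt (σ p * p)
    replace nF := nF (by rw [map_mul, P.σσ, mul_comm])
    have p0 : p ≠ 0 := fun e0 => l0 (by rw [← hp, e0, mul_zero])
    have sp : σ p ≠ 0 := (map_ne_zero σ).2 p0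
    have n0 : n ≠ 0 := fun e0 => mul_ne_zero sp p0 (by rw [← hn, e0, mul_zero])
    obtain ⟨d, -, e1, -, e2, e3, -⟩ := h.exists_diag k (div_ne_zero n0 p0) (mul_ne_zero n0 p0) (by
      rw [show n / p * (n * p) = n * n by field_simp, map_mul, nF])
    have := cj d _ _ _ e1 e2 e3 1 (σ l * m)
    rw [cjc (h.Zh_fix he (by rw [map_div₀, nF]; field_simp; linear_combination hn) e1 (mem _ _))] at this
    rw [this, ← hp]
    simp only [map_div₀, map_mul, nF]
    congr 1 <;> field_simp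
    linear_combination -hn
  have sym : ∀ m, κ 1 (σ m) = κ 1 m := fun m => by
    obtain ⟨j, e2, e3, e1⟩ := h.exists_swap1 k.h₂
    replace e1 := e1 e (P.B_eq_zero_comm.1 k.ee) (P.B_eq_zero_comm.1 k.ef)
    have c := cjc (h.Zh_fix he (μ := 1) (by simp) (by rw [e1, one_smul]) (mem 1 m))
    rw [← mul_one (σ m), ← one, ← c, ← inv_eq_of_mul_eq_one_right (h.Zh_sq he (mem m 1)), hκ, hκ, cj4,
      w_cj h he he ha k.ee hb k.ef (μ := 1) (ν := 1) (by rw [e1, one_smul]) (by rw [e2, one_smul]),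
      w_cj h he he hb k.ef ha k.ee (μ := 1) (ν := 1) (by rw [e1, one_smul]) (by rw [e3, one_smul])]
    simp only [map_one, mul_one, one_mul, _root_.mul_inv_rev, mul_assoc,
      inv_eq_of_mul_eq_one_right (h.w_sq he (ia m) (ea m)), inv_eq_of_mul_eq_one_right (h.w_sq he (ib 1) (eb 1))]
  obtain ⟨θ, hθ⟩ := h.herm.exists_trace_one
  obtain ⟨c, hc, ec⟩ := kap h he h0 (ia 1) (ib θ) (ea 1) (eb θ)
  rw [← hκ, show P.B ((1 : K) • a) (θ • b) + P.B (θ • b) ((1 : K) • a) = 1 by simp [k.h₂.ef, k.h₂.fe, hθ],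
    ← mul_one c, ← eta] at ec
  have hom : ∀ n, σ n = n → κ 1 (n * θ) = eta C φ y c e n := fun n hn => by
    by_cases n0 : n = 0
    · rw [n0, zero_mul, z1, eta_zero h he]
    obtain ⟨ν, rfl, nF, -⟩ := h.exists_sqrt n
    obtain ⟨d, -, e1, -, e2⟩ := h.exists_diag1 k.h₁ (left_ne_zero_of_mul n0) (nF hn)
    have := cj d ν 1 1 e1 (by rw [e2 a k.ee k.fe, one_smul]) (by rw [e2 b k.ef k.ff, one_smul]) 1 θ
    rw [ec, eta_conj h he he hc (map_one σ) e1, one] at this
    simpa only [mul_one, nF hn, mul_assoc] using this.symm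
  refine ⟨c, hc, fun l m => ?_⟩
  have T : σ (σ l * m + σ m * l) = σ l * m + σ m * l := by simp only [map_add, map_mul, P.σσ]; ring
  have e1 : κ 1 (σ l * m) = κ 1 (σ (σ θ * (σ l * m)) + σ θ * (σ l * m) + (σ l * m + σ m * l) * θ) := congrArg _ (by
    simp only [map_mul, P.σσ]; linear_combination (-σ l * m) * hθ - h.add_self (θ * l * σ m))
  rw [← hκ, one, ← hom _ T, e1, add, add, sym, h.Zh_sq he (mem _ _), one_mul]

omit h he in
theorem li3 (h0 : e ≠ 0) (ha : P.B a a = 0) (hb : P.B b b = 0) (hea : P.B e a = 0) (heb : P.B e b = 0)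
    (hab : P.B a b ≠ 0) : LinearIndependent K ![e, a, b] := by
  refine Fintype.linearIndependent_iff.2 fun l e1 => ?_
  simp only [Fin.sum_univ_three, Matrix.cons_val_zero, Matrix.cons_val_one, Matrix.cons_val] at e1
  have h2 : l 2 = 0 := by simpa [ha, P.B_eq_zero_comm.1 hea, hab] using congrArg (P.B a) e1
  have h1 : l 1 = 0 := by
    simpa [hb, P.B_eq_zero_comm.1 heb, mt P.B_eq_zero_comm.1 hab] using congrArg (P.B b) e1
  have h3 : l 0 = 0 := by simpa [h1, h2, h0] using e1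
  intro i
  fin_cases i
  exacts [h3, h1, h2]

omit he in
theorem transport (k : HH P e f a b) {e' a' b' : V} (h0 : e' ≠ 0) (he : P.B e' e' = 0) (ha : P.B a' a' = 0)
    (hb : P.B b' b' = 0) (hea : P.B e' a' = 0) (heb : P.B e' b' = 0) (hab : P.B a' b' ≠ 0) :
    ∃ l μ, σ μ * μ = 1 ∧ C.act l e' = μ • e ∧ C.act l a' = (1 : K) • a ∧ C.act l b' = P.B a' b' • b := by
  have h0' : e ≠ 0 := fun e0 => by have := k.h₁.ef; rw [e0] at this; simp at this
  obtain ⟨l, μ, hμ, e1, e2⟩ := h.witt' (li3 h0 ha hb hea heb hab) (li3 (b := P.B a' b' • b) h0' k.h₂.se.self_eq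
    (by simp [k.h₂.sf.self_eq]) k.ee (by simp [k.ef]) (by simp [k.h₂.ef, hab])) (fun i j => by
      fin_cases i <;> fin_cases j <;> simp [he, ha, hb, hea, heb, P.B_eq_zero_comm.1 hea, P.B_eq_zero_comm.1 heb,
        k.h₁.se.self_eq, k.h₂.se.self_eq, k.h₂.sf.self_eq, k.ee, k.ef, P.B_eq_zero_comm.1 k.ee,
        P.B_eq_zero_comm.1 k.ef, k.h₂.ef, k.h₂.fe, h.conj]) 0 (fun i => by fin_cases i <;> simp [he, hea, heb])
  exact ⟨l, μ, hμ, e1, (e2 1 (by decide)).trans (one_smul K a).symm, e2 2 (by decide)⟩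

omit he in
theorem wadd_hh (k : HH P e f a b) (hc : σ c = c) (hk : ∀ l m : K, w y e (l • a) * w y e (m • b) * w y e (l • a) *
    w y e (m • b) = eta C φ y c e (σ l * m + σ m * l)) (hs : σ s = s) (l : K) :
    w y e (l • (a + s • b)) = w y e (l • a) * w y e ((l * s) • b) * eta C φ y c e (s * (σ l * l)) := by
  have he := k.h₁.se.self_eq
  have ha := k.h₂.se.self_eq
  have hb := k.h₂.sf.self_eq
  have h0 : e ≠ 0 := fun e0 => by have := k.h₁.ef; rw [e0] at this; simp at this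
  have hd : P.B (a + s • b) (a + s • b) = 0 := by simp [ha, hb, k.h₂.ef, k.h₂.fe, hs, h.add_self]
  have ed : P.B e (a + s • b) = 0 := by simp [k.ee, k.ef]
  have ia : ∀ l : K, P.B (l • a) (l • a) = 0 := fun l => by simp [ha]
  have ib : ∀ l : K, P.B (l • b) (l • b) = 0 := fun l => by simp [hb]
  have id : ∀ l : K, P.B (l • (a + s • b)) (l • (a + s • b)) = 0 := fun l => by
    rw [P.B_smul_left, P.B_smul_right, hd, mul_zero, mul_zero]
  have ea : ∀ l : K, P.B e (l • a) = 0 := fun l => by simp [k.ee]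
  have eb : ∀ l : K, P.B e (l • b) = 0 := fun l => by simp [k.ef]
  have ed' : ∀ l : K, P.B e (l • (a + s • b)) = 0 := fun l => by rw [P.B_smul_right, ed, mul_zero]
  have NF : ∀ l : K, σ (s * (σ l * l)) = s * (σ l * l) := fun l => by simp only [map_mul, hs, P.σσ]; ring
  choose δ mem eδ using fun l : K => (((pw_w h he (ia l) (ea l)).mul h he (pw_w h he (ib (l * s)) (eb _))).cast
    (v' := l • (a + s • b)) (by rw [smul_add, smul_smul]) rfl rfl).ker h he h0 (pw_w h he (id l) (ed' l))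
    (ww4 h he h0 (ia l) (ib _) (ea l) (eb _)) (four_of_sq (by rw [h.w_sq he (id l) (ed' l), mul_one]))
  obtain ⟨ε, hε⟩ : ∃ ε : K → G, ∀ l, ε l = δ l * eta C φ y c e (s * (σ l * l)) := ⟨_, fun _ => rfl⟩
  have add : ∀ l l', ε (l + l') = ε l * ε l' := fun l l' => by
    have T : σ (σ l' * (l * s) + σ (l * s) * l') = σ l' * (l * s) + σ (l * s) * l' := by
      simp only [map_add, map_mul, P.σσ, hs]; ring
    have m := eta_mem h (e := e) hc T
    have e1 := eδ (l + l')
    rw [add_smul, h.wadd _ _ _ he (id l) (id l') (ed' l) (ed' l') (by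
      rw [P.B_smul_left, P.B_smul_right, hd, mul_zero, mul_zero]), eδ l, eδ l', add_smul, add_mul, add_smul,
      h.wadd _ _ _ he (ia l) (ia l') (ea l) (ea l') (by simp [ha]),
      h.wadd _ _ _ he (ib _) (ib _) (eb _) (eb _) (by simp [hb])] at e1
    rw [hε, hε, hε, del_add (h.w_sq he (ia l') (ea l')) (h.w_sq he (ib _) (eb _)) (hk l' (l * s))
      (cw h he (ia l') (ea l') (mem l)) (cw h he (ib _) (eb _) (mem l)) (cw h he (ib _) (eb _) m)
      (cw h he (ib _) (eb _) m) e1.symm, show s * (σ (l + l') * (l + l')) = s * (σ l * l) + s * (σ l' * l') +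
        (σ l' * (l * s) + σ (l * s) * l') by simp only [map_add, map_mul, hs]; ring,
      eta_add h he hc (by rw [map_add, NF, NF]) T, eta_add h he hc (NF l) (NF l')]
    exact eps_add (h.Zh_sq he m) (cc h he m (mem _)) (cc h he m (mem _)) (cc h he m (eta_mem h hc (NF _)))
      (cc h he m (eta_mem h hc (NF _))) (cc h he (mem _) (eta_mem h hc (NF _)))
  obtain ⟨μ, μ1, hμ⟩ := h.herm.exists_norm_one_ne_one
  have μ0 : μ ≠ 0 := right_ne_zero_of_mul_eq_one hμ
  have sμ : (σ μ)⁻¹ = μ := inv_eq_of_mul_eq_one_right hμ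
  obtain ⟨d, -, e1, -, e2, e3, -⟩ := h.exists_diag k (inv_ne_zero μ0) μ0 (by simp [μ0])
  rw [sμ] at e3
  have inv : ∀ l, ε (μ * (l * μ)) = ε l := fun l => by
    have e4 := congrArg (fun q => φ d * q * (φ d)⁻¹) (eδ l)
    simp only [← conj_mul] at e4
    rw [w_cj h he he hd ed hd ed e1 (ν := μ) (by rw [map_add, map_smul, e2, e3, smul_add, smul_comm]),
      w_cj h he he ha k.ee ha k.ee e1 e2, w_cj h he he hb k.ef hb k.ef e1 e3, map_inv₀, sμ, eδ,
      cjc (h.Zh_fix he (by rw [map_inv₀, ← mul_inv, hμ, inv_one]) e1 (mem l)),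
      show μ * (l * μ) * s = μ * (l * s * μ) by ring, mul_right_inj] at e4
    rw [hε, hε, e4]
    congr 3
    simp only [map_mul]
    linear_combination (σ l * l * (σ μ * μ + 1)) * hμ
  have μ2 : μ * μ + 1 ≠ 0 := fun e0 => μ1 (h.eq_one_of_sq (by linear_combination e0 - h.add_self 1))
  have := add (μ * (l / (μ * μ + 1) * μ)) (l / (μ * μ + 1))
  rw [inv, hε (l / _), h.Zh_sq he (mul_mem (mem _) (eta_mem h hc (NF _))), show μ * (l / (μ * μ + 1) * μ) +
    l / (μ * μ + 1) = l by linear_combination div_mul_cancel₀ l μ2, hε] at this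
  rw [eδ, eq_inv_of_mul_eq_one_left this, inv_eq_of_mul_eq_one_right (h.Zh_sq he (eta_mem h hc (NF l)))]

omit h he in
theorem cj_cancel {H : Type*} [Group H] {g u v : H} (e : g * u * g⁻¹ = g * v * g⁻¹) : u = v := by simpa using e

theorem w_zero' : w y 0 e = 1 := by rw [w, add_zero, h.y_sq he (map_one σ), h.y_zero' (map_one σ), mul_one]

omit he in
theorem eta_zero' (hc : σ c = c) (hs : σ s = s) : eta C φ y c 0 s = 1 := by
  rw [eta, h.y_zero' hs, one_mul, h.z_eq_one (by simp) (by rw [map_mul, hc, hs])]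
  exact Or.inl rfl

omit he in
theorem exists_c : ∃ c, σ c = c ∧ (∀ e a b, P.B e e = 0 → P.B a a = 0 → P.B b b = 0 → P.B e a = 0 → P.B e b = 0 →
    w y e a * w y e b * w y e a * w y e b = eta C φ y c e (P.B a b + P.B b a)) ∧
    ∀ e a b, P.B e e = 0 → P.B a a = 0 → P.B b b = 0 → P.B e a = 0 → P.B e b = 0 → P.B a b = P.B b a →
      w y e (a + b) = w y e a * w y e b * eta C φ y c e (P.B a b) := by
  obtain ⟨e, -, f, -, hf⟩ := h.exists_hp_perp (U := ⊥) disjoint_bot_left (by have := h.d4; simp; omega)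
  obtain ⟨a, b, k⟩ := h.exists_hh hf
  obtain ⟨c, hc, hk⟩ := kp_eq h k
  have he := k.h₁.se.self_eq
  have ha := k.h₂.se.self_eq
  have hb := k.h₂.sf.self_eq
  refine ⟨c, hc, fun e' a' b' he' ha' hb' hea heb => ?_, fun e' a' b' he' ha' hb' hea heb hab => ?_⟩
  · by_cases h0 : e' = 0
    · rw [h0, w_zero' h ha', w_zero' h hb', eta_zero' h hc (trF h.toMod _ _)]; simp
    by_cases k0 : P.B a' b' = 0
    · have k1 := P.B_eq_zero_comm.1 k0
      rw [k0, k1, add_zero, eta_zero h he', mul_assoc, ← h.wadd _ _ _ he' ha' hb' hea heb k0]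
      exact h.w_sq he' (by simp [ha', hb', k0, k1]) (by simp [hea, heb])
    obtain ⟨l, μ, hμ, e1, e2, e3⟩ := transport h k h0 he' ha' hb' hea heb k0
    refine cj_cancel (g := φ l) ?_
    rw [eta_conj h he he' hc (trF h.toMod _ _) e1, ← one_smul K a', ← one_smul K b', cj4,
      w_cj h he he' ha' hea ha k.ee e1 e2, w_cj h he he' hb' heb hb k.ef e1 e3, hk]
    congr 1
    simp only [map_mul, one_smul, one_mul, mul_one, P.σσ, h.conj]
    ring
  · have hs : σ (P.B a' b') = P.B a' b' := by rw [h.conj, hab]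
    have i1 : P.B (a' + b') (a' + b') = 0 := by simp [ha', hb', hab, h.add_self]
    by_cases h0 : e' = 0
    · rw [h0, w_zero' h ha', w_zero' h hb', w_zero' h i1, eta_zero' h hc hs]; simp
    by_cases k0 : P.B a' b' = 0
    · rw [k0, eta_zero h he', mul_one, h.wadd _ _ _ he' ha' hb' hea heb k0]
    obtain ⟨l, μ, hμ, e1, e2, e3⟩ := transport h k h0 he' ha' hb' hea heb k0
    have e4 : C.act l (a' + b') = (1 : K) • (a + P.B a' b' • b) := by rw [map_add, e2, e3, one_smul, one_smul]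
    refine cj_cancel (g := φ l) ?_
    have k1 := w_cj h he he' ha' hea ha k.ee e1 e2 1
    have k2 := w_cj h he he' hb' heb hb k.ef e1 e3 1
    have k3 := w_cj h he he' i1 (by simp [hea, heb]) (by simp [ha, hb, k.h₂.ef, k.h₂.fe, hs, h.add_self])
      (by simp [k.ee, k.ef]) e1 e4 1
    simp only [one_smul, mul_one, one_mul] at k1 k2 k3
    rw [← conj_mul, ← conj_mul, eta_conj h he he' hc hs e1, k1, k2, k3, wadd_hh h k hc hk hs, P.σσ, hμ, mul_comm μ, hμ,
      mul_one, one_mul]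

theorem yw (hc : σ c = c) (ww : ∀ a b, P.B a a = 0 → P.B b b = 0 → P.B e a = 0 → P.B e b = 0 →
    w y e a * w y e b * w y e a * w y e b = eta C φ y c e (P.B a b + P.B b a))
    (wa : ∀ a b, P.B a a = 0 → P.B b b = 0 → P.B e a = 0 → P.B e b = 0 → P.B a b = P.B b a →
      w y e (a + b) = w y e a * w y e b * eta C φ y c e (P.B a b)) (ha : P.B a a = 0) (hb : P.B b b = 0)
    (hea : P.B e a = 0) (heb : P.B e b = 0) (hs : σ s = s) : ∃ g ∈ Zh C φ y e, y a s * w y e b * y a s =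
      w y e b * w y e ((s * P.B a b) • a) * x C φ e ((c * s * P.B a b) • a) 0 * g := by
  have ia : ∀ l : K, P.B (l • a) (l • a) = 0 := fun l => by simp [ha]
  have ea : ∀ l : K, P.B e (l • a) = 0 := fun l => by simp [hea]
  have hae := P.B_eq_zero_comm.1 hea
  have Y2 := h.y_sq ha hs
  have o0 : ∀ l : K, TOk P e (l • a) 0 := fun l => h.tok1 he (ia l) (ea l) (map_zero σ)
  by_cases h0 : e = 0
  · subst h0
    refine ⟨1, one_mem _, ?_⟩
    rw [w_zero' h hb, w_zero' h (ia _), x, h.T_symm he (ia _) (ea _), C.T_zero (h.herm.sing_iff _ |>.2 (ia _))]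
    simp [Y2]
  have B := pw_w h he hb heb
  have U := B.mul h he (pw_w h he (ia (s * P.B a b)) (ea _))
  have cY : y a s ∈ centralizer (Zh C φ y e : Set G) := h.Zh_comm ha he hae (h.y_mem_Zh hs)
  have Yk : ∀ k ∈ Zh C φ y e, MulAut.conj (y a s) k = k := fun k hk => cjc (Commute.symm (cY k hk))
  have Wk : ∀ k ∈ Zh C φ y e, MulAut.conj (w y e b) k = k := fun k hk => cjc (cw h he hb heb hk).symm
  have YA : ∀ l : K, MulAut.conj (y a s) (w y e (l • a)) = w y e (l • a) := fun l =>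
    cjc (h.w_Zh he (ia l) (ea l) ha hae (by simp [ha]) _ (h.y_mem_Zh hs))
  have Yx : ∀ d γ, TOk P e d γ → MulAut.conj (y a s) (x C φ e d γ) =
      x C φ e d γ * w y e ((s * P.B a d) • a) * y e (s * (P.B a d * P.B d a)) := fun d γ o => by
    rw [MulAut.conj_apply, inv_eq_of_mul_eq_one_right Y2, h.yx he ha hea o hs]
  have nF : ∀ d, σ (s * (P.B a d * P.B d a)) = s * (P.B a d * P.B d a) := fun d => by
    rw [map_mul, map_mul, hs, h.conj, h.conj, mul_comm (P.B d a)]
  have X2 : x C φ e ((c * s * P.B a b) • a) 0 * x C φ e ((c * s * P.B a b) • a) 0 = 1 := by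
    rw [x_mul (o0 _) (o0 _), h.vadd_self, ia, add_zero, add_zero]
    exact z0 h.toEmb he
  have zm : σ (s * (P.B a b * P.B b a) + c * (s * (P.B a b * P.B b a))) =
      s * (P.B a b * P.B b a) + c * (s * (P.B a b * P.B b a)) := by rw [map_add, map_mul σ c, hc, nF]
  refine ker3 h he h0 (mul_mem U.mem (mem_sup_left ⟨_, rfl⟩)) (mul_mem U.cZ fun k hk => cx h he (o0 _) hk)
    (mul_mem (mul_mem cY B.cZ) cY) (pow4 (U.act _ _ (o0 _)) X2 (h.y_sq he (trF h.toMod _ _))
      (U.cZ _ (h.y_mem_Zh (trF h.toMod _ _))) (cx h he (o0 _) (h.y_mem_Zh (trF h.toMod _ _)))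
      (ww4 h he h0 hb (ia _) heb (ea _))) (four_of_sq (by
        rw [show ∀ Y W : G, Y * W * Y * (Y * W * Y) = Y * (W * (Y * Y) * W) * Y from fun Y W => by group, Y2, mul_one,
          h.w_sq he hb heb, mul_one, Y2, mul_one])) (fun d γ o => ?_) (h.z_mem_Zh zm) ?_
  · have WA : MulAut.conj (w y e b) (w y e ((s * P.B a d) • a)) = w y e ((s * P.B a d) • a) *
        eta C φ y c e (P.B ((s * P.B a d) • a) b + P.B b ((s * P.B a d) • a)) := by
      rw [MulAut.conj_apply, inv_eq_of_mul_eq_one_right (h.w_sq he hb heb), ← ww _ _ (ia _) hb (ea _) heb,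
        ← mul_assoc, ← mul_assoc, ← mul_assoc, h.w_sq he (ia _) (ea _), one_mul]
    have m1 := h.y_mem_Zh (p := e) (nF d)
    have m2 := h.y_mem_Zh (p := e) (trF h.toMod b d)
    have m3 := eta_mem h (e := e) hc (trF h.toMod ((s * P.B a d) • a) b)
    have Wx : MulAut.conj (w y e b) (x C φ e d γ) = _ := B.act d γ o
    have e1 : x C φ e ((c * s * P.B a b) • a) 0 * x C φ e d γ * (x C φ e ((c * s * P.B a b) • a) 0)⁻¹ =
        x C φ e d γ * z C φ e (c * (P.B ((s * P.B a d) • a) b + P.B b ((s * P.B a d) • a))) := by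
      have hz : σ (c * (P.B ((s * P.B a d) • a) b + P.B b ((s * P.B a d) • a))) =
          c * (P.B ((s * P.B a d) • a) b + P.B b ((s * P.B a d) • a)) := by rw [map_mul, hc, trF h.toMod]
      rw [mul_inv_eq_iff_eq_mul, x_mul (o0 _) o, show z C φ e _ = x C φ e 0 _ from rfl, x_mul o (h.tok0 he hz),
        x_mul (o.add (h.tok0 he hz)) (o0 _), add_zero, add_comm d]
      congr 1
      simp only [P.B_smul_left, P.B_smul_right, map_mul, hc, hs, h.conj, map_zero, LinearMap.zero_apply]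
      linear_combination -h.add_self (c * s * P.B a d * P.B b a)
    rw [cj3 Y2, show ∀ U X q : G, U * X * q * (U * X)⁻¹ = U * (X * q * X⁻¹) * U⁻¹ from fun U X q => by group, e1,
      ← conj_mul, U.act d γ o, cjc (Commute.symm (U.cZ _ (h.z_mem_Zh (by rw [map_mul, hc, trF h.toMod]))))]
    simp only [Yx d γ o, map_mul, Wx, WA, YA, Wk _ m1, Yk _ m1, Yk _ m2, Yk _ m3]
    rw [fin1 (h.w_sq he (ia _) (ea _)) (h.Zh_sq he m1) (cw h he (ia _) (ea _) m1) (cw h he (ia _) (ea _) m2)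
      (cc h he m1 m2) (cc h he m1 m3), eta, ← mul_assoc (y e _), ← h.add e _ _ he (trF h.toMod _ _) (trF h.toMod _ _),
      ← mul_assoc]
    congr 3
    simp only [P.B_smul_left, P.B_smul_right, P.B_add_left, P.B_add_right, map_mul, hs, h.conj]
    ring
  · have n1 : P.B b ((s * P.B a b) • a) = s * (P.B a b * P.B b a) := by rw [P.B_smul_right, mul_assoc]
    have n2 : P.B ((s * P.B a b) • a) b = s * (P.B a b * P.B b a) := by
      rw [P.B_smul_left, map_mul, hs, h.conj, mul_assoc, mul_comm (P.B b a)]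
    have fe := T0_fix h.toMod ha hs hae
    have fb : C.act (C.T a 0 s) b = b + (s * P.B a b) • a := by simp [h.T_app (h.tok0 ha hs), hs]
    have ob := h.tok1 he hb heb (map_zero σ)
    have m1 : z C φ e (c * (s * (P.B a b * P.B b a))) ∈ Zh C φ y e := h.z_mem_Zh (by rw [map_mul, hc, nF])
    have Wζ : MulAut.conj (w y e b) (z C φ a s) =
        w y e ((s * P.B a b) • a) * eta C φ y c e (s * (P.B a b * P.B b a)) * z C φ a s := by
      have := h.w_conj he hb heb (C.T a 0 s)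
      rw [fe, fb, wa _ _ hb (ia _) heb (ea _) (n1.trans n2.symm), n1, mul_inv_eq_iff_eq_mul] at this
      rw [MulAut.conj_apply, inv_eq_of_mul_eq_one_right (h.w_sq he hb heb), mul_assoc, z, this, ← mul_assoc,
        ← mul_assoc, ← mul_assoc, h.w_sq he hb heb, one_mul]
    have Yt : MulAut.conj (y a s) t = t * z C φ a s := (h.mv a s ha hs).pt
    have Wt : MulAut.conj (w y e b) t = t * x C φ e b 0 := h.w_t he hb heb
    have Yζ : MulAut.conj (y a s) (z C φ a s) = z C φ a s := cjc (h.zy ha ha ha hs hs).symm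
    have ζx := h.x_conj (C.T a 0 s) ob
    rw [fe, fb] at ζx
    rw [cj3 Y2, show ∀ U X q : G, U * X * q * (U * X)⁻¹ = U * (X * q * X⁻¹) * U⁻¹ from fun U X q => by group,
      show x C φ e ((c * s * P.B a b) • a) 0 * t * (x C φ e ((c * s * P.B a b) • a) 0)⁻¹ = t from cjc (h.tφ _), U.tt]
    simp only [Yt, map_mul, Wt, Wζ, Yζ, YA, Yx b 0 ob, Yk _ (eta_mem h hc (nF b))]
    rw [eta, fin2 (h.w_sq he (ia _) (ea _)) (h.y_sq he (nF b)) (cw h he (ia _) (ea _) (h.y_mem_Zh (nF b)))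
      (h.z_sq ha hs) (zz h.toEmb he ha hea (by rw [map_mul, hc, nF]) hs), n1, n2, h.add_self, h.add_self, add_zero,
      zero_add, h.y_zero he, mul_one, h.z_add he (nF b) (by rw [map_mul, hc, nF]), ← mul_assoc _ (z C φ e _),
      show z C φ e (s * _) = x C φ e 0 _ from rfl, mul_assoc t (x C φ e _ _) (x C φ e _ _),
      x_mul (by simpa only [n2, add_zero, zero_add] using U.ok) (h.tok0 he (nF b)), h.add_self, add_zero, map_zero,
      LinearMap.zero_apply, add_zero, ← ζx]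
    rfl

end HeisP

theorem HL.hq {y : V → K → G} (h : HL C φ t y) : ∃ c, HQ C φ t y c := by
  obtain ⟨c, hc, ww, wa⟩ := HeisP.exists_c h
  exact ⟨c, h, hc, ww, fun e a b he ha hb hea heb hab => (wa e a b he ha hb hea heb hab).trans (mul_assoc _ _ _).symm,
    fun e a b s he ha hb hea heb hs => HeisP.yw h he hc (fun a b => ww e a b he) (fun a b => wa e a b he) ha hb hea
      heb hs⟩

end CfsgLib.UN
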