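import Cfsg.Agent.Lib.UN.LineA
import Cfsg.Agent.Lib.UFP.PrdA

/-! The line formula -/

set_option autoImplicit false
set_option linter.unusedSectionVars false

namespace CfsgLib.UN

open Subgroup Module CfsgLib.Forms CfsgLib.LieMult
open CfsgLib.HX (Std CO Two Mv Tr LR Heis NF Fus4 Has4 M2)
open Submodule (span)
open scoped commutatorElement Pointwise

universe u

variable {K : Type} [Field K] [Finite K] {σ : K →+* K} {V : Type} [AddCommGroup V] [Module K V]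
  [FiniteDimensional K V] {P : PQ σ V} {S : Type} [Group S] [Finite S] {G : Type u} [Group G]
  [Finite G] {C : CG P S} {φ : S →* G} {t : G}

variable (C φ) in
/-- the hat of `E(U)` -/
def Eh (y : V → K → G) (U : Submodule K V) : Subgroup G :=
  closure {g | ∃ p ∈ U, ∃ s, σ s = s ∧ (g = z C φ p s ∨ g = y p s)}

theorem TI.B {U : Submodule K V} (hU : TI P U) {p p' : V} (hp : p ∈ U) (hp' : p' ∈ U) : P.B p p' = 0 :=
  P.mem_perp.1 (hU hp') p hp

theorem y_Eh {y : V → K → G} {U : Submodule K V} {p : V} {s : K} (hp : p ∈ U) (hs : σ s = s) :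
    y p s ∈ Eh C φ y U := subset_closure ⟨p, hp, s, hs, .inr rfl⟩

theorem z_Eh {y : V → K → G} {U : Submodule K V} {p : V} {s : K} (hp : p ∈ U) (hs : σ s = s) :
    z C φ p s ∈ Eh C φ y U := subset_closure ⟨p, hp, s, hs, .inl rfl⟩

theorem isPGroup_of_sq {g : G} (h : g * g = 1) : IsPGroup 2 (zpowers g) :=
  IsPGroup.of_card_dvd_pow (n := 1) (by
    rw [Nat.card_zpowers, pow_one]; exact orderOf_dvd_of_pow_eq_one (by rw [pow_two, h]))

theorem norm_closure {s : Set G} {g : G} (h : ∀ a ∈ s, g * a * g⁻¹ ∈ closure s) :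
    g ∈ normalizer (closure s : Set G) :=
  mem_normalizer_fintype fun _ ha =>
    (closure_le ((closure s).comap (MulAut.conj g).toMonoidHom)).2 h ha

theorem mul3 {Y A B : G} (hA : A * A = 1) (hB : B * B = 1) (hAB : Commute A B) (hYA : Commute Y A)
    (hYB : Commute Y B) : Y = A * B * (Y * A * B) := by
  rw [← mul_assoc, ← mul_assoc, ← (hYA.mul_right hYB).eq, mul_assoc Y, mul_assoc A, hAB.symm.eq,
    ← mul_assoc A, hA, one_mul, mul_assoc, hB, mul_one]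

namespace Hats

variable {y : V → K → G} (h : Hats C φ t y) {U : Submodule K V} (hU : TI P U) {g : G}
include h hU

theorem E_le_Eh : Eg C φ U ≤ Eh C φ y U := by
  rw [Eg, h.toMod.E_eq hU, MonoidHom.map_closure]
  refine closure_mono ?_
  rintro _ ⟨_, ⟨p, hp, r, hr, rfl⟩, rfl⟩
  exact ⟨p, hp, r, hr, .inl rfl⟩

theorem Eh_comm : ∀ a ∈ Eh C φ y U, ∀ b ∈ Eh C φ y U, a * b = b * a := by
  have k : ∀ p ∈ U, Zh C φ y p ≤ centralizer (Eh C φ y U : Set G) := fun p hp => by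
    rw [le_centralizer_iff, Eh, closure_le]
    rintro _ ⟨p', hp', s, hs, e⟩
    exact h.Zh_comm (hU.B hp' hp') (hU.B hp hp) (hU.B hp' hp) (subset_closure ⟨s, hs, e⟩)
  have : Eh C φ y U ≤ centralizer (Eh C φ y U : Set G) := by
    refine (closure_le _).2 ?_
    rintro _ ⟨p, hp, s, hs, e⟩
    exact k p hp (subset_closure ⟨s, hs, e⟩)
  exact fun a ha b hb => this hb a ha

theorem Eh_sq (hg : g ∈ Eh C φ y U) : g * g = 1 := by
  induction hg using closure_induction with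
  | mem g hg =>
    obtain ⟨p, hp, s, hs, e⟩ := hg
    exact h.Zh_sq (hU.B hp hp) (subset_closure ⟨s, hs, e⟩)
  | one => exact mul_one 1
  | mul a b ha hb h1 h2 =>
    rw [mul_assoc, ← mul_assoc b, h.Eh_comm hU b hb a ha, mul_assoc, h2, mul_one, h1]
  | inv a _ h1 => rw [← mul_inv_rev, h1, inv_one]

theorem Eh_tr (h0 : U ≠ ⊥) (hg : g ∈ Eh C φ y U) : ∃ a ∈ Eg C φ U, Tr φ.range (Rg C φ U) t a g := by
  have td := h.toSit.td h.two' hU h0
  obtain ⟨T, -, hT⟩ := td.exists_sub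
  refine (hT g).1 ((closure_le T).2 ?_ hg)
  rintro _ ⟨p, hp, s, hs, e⟩
  have hz : z C φ p s ∈ Eg C φ U :=
    mem_map_of_mem _ (h.toMod.T_mem_E hU (h.toMod.tok0 (hU.B hp hp) hs) hp U.zero_mem)
  rcases e with rfl | rfl
  · exact (hT _).2 ⟨1, one_mem _, td.tr_E hz⟩
  · exact (hT _).2 ⟨_, hz, h.toSit.tr_of_mv hp (h.mv p s (hU.B hp hp) hs)
      (isPGroup_of_sq (h.y_sq (hU.B hp hp) hs))⟩

theorem t_not_Eh (h0 : U ≠ ⊥) : t ∉ Eh C φ y U := fun ht => by
  obtain ⟨p, hp, p0⟩ := Submodule.exists_mem_ne_zero_of_ne_bot h0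
  have e := (h.mv p 1 (hU.B hp hp) (map_one σ)).pt
  rw [h.Eh_comm hU _ (y_Eh hp (map_one σ)) t ht, mul_inv_cancel_right, left_eq_mul,
    h.toEmb.z_eq_one (hU.B hp hp) (map_one σ)] at e
  exact e.elim p0 one_ne_zero

theorem Eh_ker (h0 : U ≠ ⊥) (hg : g ∈ Eh C φ y U) (e : g * t = t * g) : g ∈ Eg C φ U := by
  obtain ⟨a, -, k⟩ := h.Eh_tr hU h0 hg
  have : a = 1 := by have := k.tr; rwa [e, mul_inv_cancel_right, left_eq_mul] at this
  subst this
  refine ((h.toSit.td h.two' hU h0).tr_one k).resolve_right fun k' => h.t_not_Eh hU h0 ?_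
  simpa using mul_mem (h.E_le_Eh hU k') (inv_mem hg)

theorem Eh_norm {l : S} (hl : ∀ v ∈ U, C.act l v ∈ U) : φ l ∈ normalizer (Eh C φ y U : Set G) := by
  refine norm_closure ?_
  rintro _ ⟨p, hp, s, hs, rfl | rfl⟩
  · exact (h.toEmb.z_conj l (hU.B hp hp) hs).symm ▸ z_Eh (hl p hp) hs
  · exact (h.eqv l p s (hU.B hp hp) hs).symm ▸ y_Eh (hl p hp) hs

omit hU in
theorem t_y {p : V} {s : K} (hp : P.B p p = 0) (hs : σ s = s) : t * y p s * t⁻¹ = y p s * z C φ p s := by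
  have e := (h.mv p s hp hs).pt
  have t2 : t⁻¹ = t := inv_eq_of_mul_eq_one_right h.t2
  rw [mul_inv_eq_iff_eq_mul, mul_assoc] at e
  rw [t2, mul_assoc, e, ← mul_assoc, h.t2, one_mul, (h.zy hp hp hp hs hs).eq]

theorem Eh_t : t ∈ normalizer (Eh C φ y U : Set G) := by
  refine norm_closure ?_
  rintro _ ⟨p, hp, s, hs, rfl | rfl⟩
  · rw [z, (h.toSit.tφ _).symm.mul_inv_cancel]; exact z_Eh hp hs
  · exact (h.t_y (hU.B hp hp) hs).symm ▸ mul_mem (y_Eh hp hs) (z_Eh hp hs)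

omit hU in
/-- the line formula -/
theorem line {e f e' f' : V} (k : HH P e f e' f') : ∃ ω : K → G, (∀ v v', ω (v + v') = ω v * ω v') ∧
    (∀ v u, φ (C.T e (u • f') 0) * ω v * (φ (C.T e (u • f') 0))⁻¹ =
      ω v * y e (v * σ u + σ v * u)) ∧
    ∀ u s, σ s = s → y (e' + u • e) s = y e' s * y e (σ u * u * s) * ω (σ u * s) := by
  have m := h.toMod
  have em := h.toEmb
  have σσ := P.σσ
  obtain ⟨he, hf, ef⟩ := m.hp_iff.1 k.h₁
  obtain ⟨he', hf', ef'⟩ := m.hp_iff.1 k.h₂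
  obtain ⟨U, hUd⟩ : ∃ U, U = span K {e, e'} := ⟨_, rfl⟩
  have e'e := P.B_eq_zero_comm.1 k.ee
  have hU : TI P U := hUd ▸ ti_span.2 (by simp [he, he', k.ee, e'e])
  have mU : ∀ l m : K, l • e + m • e' ∈ U := fun l m => hUd ▸ Submodule.mem_span_pair.2 ⟨l, m, rfl⟩
  have eU : e ∈ U := by simpa using mU 1 0
  have eU' : e' ∈ U := by simpa using mU 0 1
  have e0 : e ≠ 0 := fun e0 => by simp [e0] at ef
  have h0 : U ≠ ⊥ := fun e1 => e0 (by simpa [e1] using eU)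
  have kB : ∀ v : K, TOk P e (v • e') 0 := fun v =>
    m.tok1 he (hU.B (U.smul_mem _ eU') (U.smul_mem _ eU')) (hU.B eU (U.smul_mem _ eU')) (map_zero σ)
  have hB : ∀ v : K, x C φ e (v • e') 0 ∈ Eh C φ y U := fun v =>
    h.E_le_Eh hU (mem_map_of_mem _ (m.T_mem_E hU (kB v) eU (U.smul_mem _ eU')))
  obtain ⟨A, _, π, πm, πi, πs, πn⟩ := exists_model (h.Eh_comm hU)
  have π1 : π 1 = 0 := by simpa using πm 1 (one_mem _) 1 (one_mem _)
  have nU : ∀ l : S, C.act l e ∈ U → C.act l e' ∈ U → φ l ∈ normalizer (Eh C φ y U : Set G) :=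
    fun l h1 h2 => h.Eh_norm hU fun v hv => by
      obtain ⟨a, b, rfl⟩ := Submodule.mem_span_pair.1 (hUd ▸ hv)
      rw [map_add, map_smul, map_smul]
      exact U.add_mem (U.smul_mem _ h1) (U.smul_mem _ h2)
  have kN : ∀ u : K, TOk P e (u • f') 0 := fun u =>
    m.tok1 he (by simp [hf']) (by simp [k.ef]) (map_zero σ)
  have Ne : ∀ u : K, C.act (C.T e (σ u • f') 0) e = e := fun u => C.T_self (kN _)
  have Ne' : ∀ u : K, C.act (C.T e (σ u • f') 0) e' = e' + u • e := fun u => by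
    rw [C.T_perp (kN _) k.ee]; simp [σσ, k.h₂.fe]
  choose N hN using fun u : K => πn _ (nU _ ((Ne u).symm ▸ eU) ((Ne' u).symm ▸ U.add_mem eU' (U.smul_mem _ eU)))
  obtain ⟨τ, hτ⟩ := πn t (h.Eh_t hU)
  obtain ⟨μ, hμ1, hμ⟩ := m.herm.exists_norm_one_ne_one
  have μ0 : μ ≠ 0 := fun e => by simp [e] at hμ
  obtain ⟨d, od, de, -, de', -⟩ := m.exists_diag k μ0 (inv_ne_zero μ0) (by rw [mul_inv_cancel₀ μ0, map_one])
  have dn := nU d (de ▸ U.smul_mem _ eU) (de' ▸ U.smul_mem _ eU')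
  obtain ⟨D, hD⟩ := πn _ dn
  obtain ⟨j, je, je', -⟩ := m.exists_swap k
  obtain ⟨J, hJ⟩ := πn _ (nU j (je ▸ eU') (je' ▸ eU))
  have fN : ∀ u s, σ s = s → σ (σ u * u * s) = σ u * u * s := fun u s hs => by
    rw [map_mul, map_mul, σσ, hs]; ring
  have fT : ∀ v, σ (v + σ v) = v + σ v := fun v => by rw [map_add, σσ, add_comm]
  have zl : ∀ l m' s : K, σ s = s → π (z C φ (l • e + m' • e') s) = π (z C φ e (σ l * l * s)) +
      π (x C φ e ((σ l * m' * s) • e') 0) + π (z C φ e' (σ m' * m' * s)) := fun l m' s hs => by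
    have h1 := U.smul_mem m' eU'
    rw [← πm _ (z_Eh eU (fN _ _ hs)) _ (hB _), add_comm (π _), ← πm _ (z_Eh eU' (fN _ _ hs)) _
      (mul_mem (z_Eh eU (fN _ _ hs)) (hB _)), ← em.z_smul he' hs, add_comm, z,
      m.T_line he (hU.B h1 h1) (hU.B eU h1) hs, map_mul, map_mul, smul_smul, mul_right_comm (σ l) s, mul_assoc (φ _)]
    rfl
  obtain ⟨Ω, Ωa, ΩN, ΩY⟩ := line_abs (A := A) (Z := fun r => π (z C φ e r)) (Z' := fun r => π (z C φ e' r))
    (B := fun v => π (x C φ e (v • e') 0)) (Y := fun l m s => π (y (l • e + m • e') s)) (N := N) (τ := τ)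
    (d := D) (J := J) (μ := μ) m
    (fun a => by obtain ⟨g, hg, rfl⟩ := πs a; rw [← πm _ hg _ hg, h.Eh_sq hU hg, π1])
    (fun r s hr hs => by rw [em.z_add he hr hs, πm _ (z_Eh eU hr) _ (z_Eh eU hs)])
    (fun r s hr hs => by rw [em.z_add he' hr hs, πm _ (z_Eh eU' hr) _ (z_Eh eU' hs)])
    (fun u v => by
      rw [← πm _ (hB _) _ (hB _), x, x, x, ← map_mul, C.T_mul (kB _) (kB _), add_smul]; simp [he'])
    (fun r v r' hr hr' e1 => by
      rw [← πm _ (z_Eh eU hr) _ (hB _), ← πm _ (mul_mem (z_Eh eU hr) (hB _)) _ (z_Eh eU' hr'), ← π1] at e1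
      have e2 := πi _ (mul_mem (mul_mem (z_Eh eU hr) (hB _)) (z_Eh eU' hr')) _ (one_mem _) e1
      rw [z, z, x, ← map_mul, ← map_mul, ← map_one φ] at e2
      refine m.E_line_inj k hr hr' (map_zero σ) (map_zero σ) ?_
      rw [zero_smul, C.T_zero k.h₁.se, C.T_zero k.h₂.se, mul_one, mul_one]
      refine em.inj_two (m.rad_two hU) (m.E_le_rad hU ?_) (one_mem _) e2
      exact hUd ▸ (m.mem_E_line k).2 ⟨r, v, r', hr, hr', rfl⟩)
    (fun a ha => by
      obtain ⟨g, hg, rfl⟩ := πs a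
      rw [hτ g hg] at ha
      have e1 := πi _ (UFP.conj_mem (h.Eh_t hU) hg) _ hg ha
      obtain ⟨s, hs, rfl⟩ := h.Eh_ker hU h0 hg (mul_inv_eq_iff_eq_mul.1 e1).symm
      obtain ⟨r, v, r', hr, hr', rfl⟩ := (m.mem_E_line k).1 (hUd ▸ hs)
      refine ⟨r, v, r', hr, hr', ?_⟩
      rw [← πm _ (z_Eh eU hr) _ (hB _), ← πm _ (mul_mem (z_Eh eU hr) (hB _)) _ (z_Eh eU' hr'), map_mul, map_mul]
      rfl)
    (fun l m' s hs => by
      rw [hτ _ (y_Eh (mU _ _) hs), h.t_y (hU.B (mU _ _) (mU _ _)) hs, πm _ (y_Eh (mU _ _) hs) _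
        (z_Eh (mU _ _) hs), zl _ _ _ hs])
    (fun c l m' s hs => by
      rw [← h.smul _ _ _ (hU.B (mU _ _) (mU _ _)) hs, smul_add, smul_smul, smul_smul])
    (fun r s hr hs => by
      rw [h.add _ _ _ (hU.B (mU _ _) (mU _ _)) hr hs, πm _ (y_Eh (mU _ _) hr) _ (y_Eh (mU _ _) hs)])
    (fun u l m' s hs => by
      rw [hN _ _ (y_Eh (mU _ _) hs), h.eqv _ _ _ (hU.B (mU _ _) (mU _ _)) hs, map_add, map_smul, map_smul,
        Ne, Ne']
      congr 2; module)
    (fun u r hr => by rw [hN _ _ (z_Eh eU hr), em.z_conj _ he hr, Ne])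
    (fun u v => by
      rw [hN _ _ (hB _), em.x_conj _ (kB _), map_smul, Ne, Ne', smul_add, smul_smul, x,
        (m.T_shift (kB v) _).2.2, ← πm _ (hB _) _ (z_Eh eU (fT _)), x, z, ← map_mul,
        C.T_mul (kB _) (m.tok0 he (fT _))]
      simp)
    (fun u r hr => by
      have := zl u 1 r hr
      rw [map_one, mul_one, mul_one, one_mul, one_smul, add_comm (u • e)] at this
      rw [hN _ _ (z_Eh eU' hr), em.z_conj _ he' hr, Ne', this]; abel)
    hμ hμ1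
    (fun l m' s hs => by
      rw [hD _ (y_Eh (mU _ _) hs), h.eqv _ _ _ (hU.B (mU _ _) (mU _ _)) hs, map_add, map_smul, map_smul,
        de, de', smul_smul, smul_smul, mul_comm l, mul_comm m'])
    (fun r hr => by rw [hD _ (z_Eh eU hr), em.z_conj _ he hr, de, em.z_smul he hr, hμ, one_mul])
    (fun r hr => by
      rw [hD _ (z_Eh eU' hr), em.z_conj _ he' hr, de', em.z_smul he' hr, map_inv₀, ← mul_inv, hμ,
        inv_one, one_mul])
    (fun a ha => by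
      obtain ⟨g, hg, rfl⟩ := πs a
      rw [hD g hg, hD _ (UFP.conj_mem dn hg)] at ha
      have e1 := πi _ (UFP.conj_mem dn (UFP.conj_mem dn hg)) _ hg ha
      have e2 : g * φ d = φ d * g := UFP.comm_of_sq (od.of_dvd_nat (orderOf_map_dvd φ d)) (by
        conv_lhs => rw [← e1]
        simp [pow_two, mul_assoc])
      rw [hD g hg, ← e2, mul_inv_cancel_right])
    (fun l m' s hs => by
      rw [hJ _ (y_Eh (mU _ _) hs), h.eqv _ _ _ (hU.B (mU _ _) (mU _ _)) hs, map_add, map_smul, map_smul,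
        je, je', add_comm])
    (fun r hr => by rw [hJ _ (z_Eh eU hr), em.z_conj _ he hr, je])
  choose ω hω πω using fun v => πs (Ω v)
  simp only [one_smul, zero_smul, add_zero, zero_add] at ΩN ΩY
  refine ⟨ω, fun v v' => πi _ (hω _) _ (mul_mem (hω _) (hω _)) (by rw [πm _ (hω _) _ (hω _), πω, πω, πω, Ωa]),
    fun v u => ?_, fun u s hs => ?_⟩
  · have e1 := hN (σ u) _ (hω v)
    have e2 := nU _ ((Ne (σ u)).symm ▸ eU) ((Ne' (σ u)).symm ▸ U.add_mem eU' (U.smul_mem _ eU))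
    have e3 := fT (v * σ u)
    rw [πω, ΩN, ← πω, ← πm _ (hω _) _ (y_Eh eU e3), σσ] at e1
    rw [σσ] at e2
    rw [← πi _ (mul_mem (hω _) (y_Eh eU e3)) _ (UFP.conj_mem e2 (hω v)) e1, map_mul, σσ]
  · have h1 := y_Eh (C := C) (φ := φ) (y := y) eU' hs
    have h2 := y_Eh (C := C) (φ := φ) (y := y) eU (fN u s hs)
    refine πi _ (y_Eh (U.add_mem eU' (U.smul_mem _ eU)) hs) _ (mul_mem (mul_mem h1 h2) (hω _)) ?_
    rw [πm _ (mul_mem h1 h2) _ (hω _), πm _ h1 _ h2, πω, add_comm e', ΩY u s hs]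

end Hats

end CfsgLib.UN
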