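import Cfsg.Agent.Lib.UN.FusA
import Cfsg.Agent.Lib.HX.Mov

/-! Elements centralising the point stabiliser -/

set_option autoImplicit false
set_option linter.unusedSectionVars false

namespace CfsgLib.UN

open Subgroup Module CfsgLib.Forms CfsgLib.LieMult
open CfsgLib.HX (Std CO Two Mv Tr LR Heis NF Fus4 Has4 M2)
open Submodule (span)
open scoped commutatorElement Pointwise

universe u

variable {K : Type} [Field K] [Finite K] {σ : K →+* K} {V : Type} [AddCommGroup V] [Module K V]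
  [FiniteDimensional K V] {P : PQ σ V} {S : Type} [Group S] [Finite S] {G : Type u} [Group G]
  [Finite G] {C : CG P S} {φ : S →* G} {t : G}

open FA

namespace MV

theorem heis_inner {F W : Type} [Field F] [AddCommGroup W] [Module F W] {Q : Subgroup G} {z : F → G}
    {π : G → W} {f : LinearMap.BilinForm F W} (h : Heis Q z π f) (hF : ∀ c : F, c = 0 ∨ c = 1)
    {u : G → G} (hu : ∀ x ∈ Q, ∀ y ∈ Q, u (x * y) = u x * u y) (hz : ∀ s, u (z s) = z s)
    (h1 : ∀ x ∈ Q, ∃ s, u x = x * z s) : ∃ x₀ ∈ Q, ∀ x ∈ Q, u x = x₀ * x * x₀⁻¹ := by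
  have : Finite F := Finite.of_injective z fun a b e => by
    have := h.zinj (a - b) (mul_right_cancel (b := z b) (by rw [← h.zadd, sub_add_cancel, one_mul, e]))
    exact sub_eq_zero.1 this
  choose! δ hδ using h1
  have δmul : ∀ x ∈ Q, ∀ y ∈ Q, δ (x * y) = δ x + δ y := fun x hx y hy => h.z_inj (by
    have := hδ _ (Q.mul_mem hx hy)
    rw [hu x hx y hy, hδ x hx, hδ y hy, mul_assoc, ← mul_assoc (z _), ← h.cz hy, mul_assoc, ← h.zadd,
      mul_assoc] at this
    exact (mul_left_cancel (mul_left_cancel this)).symm)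
  have δz : ∀ s, δ (z s) = 0 := fun s => h.zinj _ (left_eq_mul.1 ((hz s).symm.trans (hδ _ (h.zQ s))))
  choose ρ ρQ ρπ using h.πsurj
  have δρ : ∀ x ∈ Q, δ (ρ (π x)) = δ x := fun x hx => by
    obtain ⟨s, hs⟩ := h.π_eq (ρQ (π x)) hx (ρπ _)
    rw [hs, δmul _ hx _ (h.zQ s), δz, add_zero]
  let lam : Module.Dual F W :=
    { toFun := fun v => δ (ρ v)
      map_add' := fun v w => by
        rw [← δmul _ (ρQ v) _ (ρQ w), ← δρ _ (Q.mul_mem (ρQ v) (ρQ w)), h.πmul _ (ρQ v) _ (ρQ w), ρπ, ρπ]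
      map_smul' := fun c v => by
        rcases hF c with rfl | rfl
        · rw [zero_smul, ← h.πz 0, δρ _ (h.zQ 0), δz]; simp
        · simp }
  have : Finite W := Finite.of_injective ρ fun v w e => by rw [← ρπ v, e, ρπ]
  obtain ⟨v, hv⟩ := (LinearMap.injective_iff_surjective_of_finrank_eq_finrank
    (f := (f : W →ₗ[F] Module.Dual F W)) (Subspace.dual_finrank_eq).symm).1
    (LinearMap.ker_eq_bot.1 (LinearMap.ker_eq_bot'.2 fun v hv => h.nd v fun w => by rw [hv]; rfl)) lam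
  refine ⟨ρ v, ρQ v, fun x hx => ?_⟩
  have := h.comm _ (ρQ v) _ hx
  rw [ρπ, hv, show lam (π x) = δ x from δρ x hx, mul_inv_eq_iff_eq_mul] at this
  rw [this, hδ x hx, h.cz hx]

theorem stb_of_le {U : Submodule K V} {s : S} (h : ∀ v ∈ U, C.act s v ∈ U) : s ∈ Stb C U := fun v => by
  have : U.map (C.act s).toLinearMap = U := Submodule.eq_of_le_of_finrank_eq
    (Submodule.map_le_iff_le_comap.2 h) (LinearEquiv.finrank_map_eq _ _)
  refine ⟨fun k => ?_, h v⟩
  obtain ⟨w, hw, e⟩ := this.ge k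
  rwa [← (C.act s).injective e]

theorem si_T (h : Mod C) {α : RingAut K} {γ : AV V} (k : SI P α γ) {e a : V} {c : K} (hc : TOk P e a c) :
    TOk P (γ e) (γ a) (α c) ∧ ∀ v, C.act (C.T (γ e) (γ a) (α c)) (γ v) = γ (C.act (C.T e a c) v) := by
  obtain ⟨h1, h2, h3⟩ := h.tok.1 hc
  have k1 : TOk P (γ e) (γ a) (α c) := h.tok.2 ⟨by rw [k.B_eq, h1, map_zero], by rw [k.B_eq, h2, map_zero],
    by rw [k.B_eq, ← h3, map_add, h.aut_comm]⟩
  refine ⟨k1, fun v => ?_⟩
  rw [h.T_app k1, h.T_app hc, map_add, map_add, k.semi, k.semi, k.B_eq, k.B_eq, map_add, map_mul, h.aut_comm]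

theorem four (h : Mod C) (hq : Small σ) {ω : K} (hω : ω + σ ω = 1) (l : K) :
    l = 0 ∨ l = 1 ∨ l = ω ∨ l = ω + 1 := by
  rcases hq (l + σ l) (by rw [map_add, P.σσ, add_comm]) with e | e
  · rcases hq l (by linear_combination e - h.add_self l) with e | e <;> simp [e]
  · rcases hq (l + ω) (by rw [map_add]; linear_combination e + hω - h.add_self (l + ω) + h.add_self 1)
      with e | e
    · exact .inr (.inr (.inl (by linear_combination e - h.add_self ω)))
    · exact .inr (.inr (.inr (by linear_combination e - h.add_self ω)))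

theorem norm_one (hq : Small σ) (P : PQ σ V) {l : K} (h0 : l ≠ 0) : σ l * l = 1 :=
  (hq _ (by rw [map_mul, P.σσ, mul_comm])).resolve_left (mul_ne_zero ((map_ne_zero σ).2 h0) h0)

/-- the projection onto `⟨e, f⟩^⊥` -/
def pr {e f : V} (hf : HP P e f) : V →ₗ[K] Wp P e f :=
  LinearMap.codRestrict _ (LinearMap.id - (P.B f).smulRight e - (P.B e).smulRight f) fun v =>
    CG.mem_perp_pair.2 ⟨by simp [hf.se.self_eq, hf.ef], by simp [hf.sf.self_eq, hf.fe]⟩

theorem pr_val {e f : V} (hf : HP P e f) (v : V) : (pr hf v : V) = v - P.B f v • e - P.B e v • f := rfl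

theorem pr_coe {e f : V} (hf : HP P e f) (v : Wp P e f) : pr hf v = v := Subtype.ext (by
  obtain ⟨a, b⟩ := CG.mem_perp_pair.1 v.2
  rw [pr_val, a, b]; simp)

theorem pr_e {e f : V} (hf : HP P e f) : pr hf e = 0 := Subtype.ext (by
  rw [pr_val, hf.fe, hf.se.self_eq]; simp)

theorem B_pr {e f : V} (hf : HP P e f) (b : Wp P e f) (v : V) : P.B b (pr hf v) = P.B b v := by
  obtain ⟨h1, h2⟩ := CG.mem_perp_pair.1 b.2
  simp [pr_val, P.B_eq_zero_comm.1 h1, P.B_eq_zero_comm.1 h2]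

theorem scal (h : Mod C) (hq : Small σ) {e f : V} (hf : HP P e f) (θ : Wp P e f →+ Wp P e f)
    (hθ : ∀ s, C.act s e = e → ∀ v, θ (pr hf (C.act s v.1)) = pr hf (C.act s (θ v).1)) :
    ∃ c : K, ∀ v, θ v = c • v := by
  have e0 : e ≠ 0 := fun c => by simpa [c] using hf.ef
  obtain ⟨ω, hω⟩ := h.herm.exists_trace_one
  have s1 : ∀ b : Wp P e f, P.B b b = 0 → ∀ v : Wp P e f, θ (P.B b v • b) = P.B b (θ v) • b :=
    fun b hb v => by
      have k := h.tok0 hb (map_one σ)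
      have := hθ _ (C.T_fix k (P.B_eq_zero_comm.1 (CG.mem_perp_pair.1 b.2).1) (by simp)) v
      simpa [h.T_app k, pr_coe] using this
  have s2 : ∀ b : Wp P e f, P.B b b = 0 → b ≠ 0 → ∃ c : K, θ b = c • b ∧
      ∀ v : Wp P e f, P.B b (θ v) = c * P.B b v := fun b hb b0 => by
    obtain ⟨f', hf'⟩ := h.exists_hp (fun c => b0 (Subtype.ext c)) hb
    have k1 := s1 b hb (pr hf f')
    rw [B_pr, hf'.ef, one_smul] at k1
    obtain ⟨u, u1, u2, u3, -⟩ := exists_unit_Wp (C := C) h.herm hf [] b (by simp) (by simp)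
      (.inl (by have := h.d7 hq; simp; omega))
    have eb := (CG.mem_perp_pair.1 b.2).1
    have li : ∀ l : K, l ≠ 0 → LinearIndependent K ![e, l • b.1] := fun l l0 =>
      LinearIndependent.pair_iff.2 fun x y c => by
        have c1 := congrArg (P.B f) c
        simp only [map_add, map_smul, hf.fe, (CG.mem_perp_pair.1 b.2).2, smul_eq_mul, mul_one, mul_zero,
          add_zero, map_zero] at c1
        simpa [c1, l0, b0] using c
    have ω0 : ω ≠ 0 := fun c => by simp [c] at hω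
    obtain ⟨s, hs⟩ := h.witt (li 1 one_ne_zero) (li ω ω0) (by
      simp [Fin.forall_fin_two, eb, hb, P.B_eq_zero_comm.1 eb]) (a := u) (by simp [u2]) (by
      simp [Fin.forall_fin_two, u3, (CG.mem_perp_pair.1 u1).1])
    have k2 := hθ s (hs 0) b
    have k3 : C.act s b.1 = ω • b.1 := by simpa using hs 1
    rw [k3, map_smul, pr_coe, k1, Submodule.coe_smul, map_smul (C.act s), k3, map_smul (pr hf),
      map_smul (pr hf), pr_coe, smul_comm, ← k1] at k2
    have k4 : ∀ l : K, θ (l • b) = l • θ b := fun l => by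
      rcases four h hq hω l with rfl | rfl | rfl | rfl <;> simp [k2, add_smul]
    refine ⟨_, k1, fun v => smul_left_injective K b0 ?_⟩
    beta_reduce
    rw [← s1 b hb, k4, k1, smul_smul, mul_comm]
  obtain ⟨e', f', k⟩ := h.exists_hh hf
  let a : Wp P e f := ⟨e', CG.mem_perp_pair.2 ⟨k.ee, k.fe⟩⟩
  let a' : Wp P e f := ⟨f', CG.mem_perp_pair.2 ⟨k.ef, k.ff⟩⟩
  have aa : P.B a a' = 1 := k.h₂.ef
  have aa' : P.B a' a = 1 := k.h₂.fe
  obtain ⟨c, c1, c2⟩ := s2 a k.h₂.se.self_eq fun c => by simp [c] at aa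
  obtain ⟨c', c1', c2'⟩ := s2 a' k.h₂.sf.self_eq fun c => by simp [c] at aa
  obtain rfl : c' = c := by simpa [c1', aa] using c2 a'
  have s3 : ∀ b' : Wp P e f, (∀ v : Wp P e f, P.B b' (θ v) = c' * P.B b' v) →
      ∀ b : Wp P e f, P.B b b = 0 → P.B b' b ≠ 0 → θ b = c' • b := fun b' k b hb n => by
    obtain ⟨d, d1, -⟩ := s2 b hb fun c => by simp [c] at n
    have := k b
    rw [d1, Submodule.coe_smul, map_smul, smul_eq_mul] at this
    rw [d1, mul_right_cancel₀ n this]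
  have s4 : ∀ b : Wp P e f, P.B b b = 0 → θ b = c' • b := fun b hb => by
    by_cases n : P.B a b = 0
    swap; · exact s3 a c2 b hb n
    by_cases n' : P.B a' b = 0
    swap; · exact s3 a' c2' b hb n'
    have := s3 a' c2' (b + a) (by
      simp [hb, n, P.B_eq_zero_comm.1 n, show P.B a a = 0 from k.h₂.se.self_eq]) (by simp [n', aa'])
    rwa [map_add, c1, smul_add, add_left_inj] at this
  refine ⟨c', fun v => ?_⟩
  rw [← pr_coe hf v]
  refine AddSubgroup.closure_induction (p := fun w _ => θ (pr hf w) = c' • pr hf w) (fun b hb => ?_) (by simp)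
    (fun x y _ _ hx hy => by rw [map_add, map_add, hx, hy, smul_add]) (fun x _ hx => by simp [hx])
    (h.iso_span (ti hf.se.self_eq) (by rw [finrank_span_singleton e0]; have := h.d4; omega)
      (P.mem_perp_span_singleton.2 (CG.mem_perp_pair.1 v.2).1))
  have eb := P.mem_perp_span_singleton.1 hb.1
  refine s4 _ ?_
  rw [B_pr, pr_val]
  simp [eb, hb.2, P.B_smul_left]

variable (C φ) in
/-- `g` acts on `Q / Z` as `γ` -/
def AQ (e : V) (g : G) (γ : V → V) : Prop :=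
  ∀ a c, TOk P e a c → ∃ d, TOk P e (γ a) d ∧ g * x C φ e a c * g⁻¹ = x C φ e (γ a) d

theorem AQ.mul {e : V} {g g' : G} {γ γ' : V → V} (k : AQ C φ e g γ) (k' : AQ C φ e g' γ') :
    AQ C φ e (g * g') (γ ∘ γ') := fun a c hc => by
  obtain ⟨d, hd, e1⟩ := k' a c hc
  obtain ⟨d', hd', e2⟩ := k _ d hd
  exact ⟨d', hd', by rw [Function.comp_apply, ← e2, ← e1]; group⟩

theorem x_mul {e a b : V} {c d : K} (k : TOk P e a c) (k' : TOk P e b d) :
    x C φ e a c * x C φ e b d = x C φ e (a + b) (c + d + P.B b a) := by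
  rw [x, x, x, ← map_mul, C.T_mul k k']

theorem xz (h : Emb C φ) {e b : V} {c d : K} (k : TOk P e b c) (k' : TOk P e b d) :
    σ (d - c) = d - c ∧ x C φ e b d = z C φ e (d - c) * x C φ e b c := by
  have : σ (d - c) = d - c := by
    rw [map_sub]
    linear_combination (h.tok.1 k').2.2 - (h.tok.1 k).2.2 - h.add_self (d - c)
  exact ⟨this, by rw [z, ← x, x_mul (h.tok0 (h.tok.1 k).1 this) k]; simp⟩

variable (h : Sit C φ t) {e : V} (h0 : e ≠ 0) (he : P.B e e = 0) (hq : Small σ) {g : G}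
include h h0 he hq

theorem cz (nY : g ∈ normalizer (Yg C φ (span K {e}) : Set G))
    (nQ : g ∈ normalizer (Rg C φ (span K {e}) : Set G)) {r : K} (hr : σ r = r) :
    Commute g (z C φ e r) := by
  obtain ⟨f, hf⟩ := h.exists_hp h0 he
  obtain ⟨π, β, lr, -⟩ := h.lr hf
  have m := z_mem h.toEmb he hr
  obtain ⟨s, e1⟩ := lr.cQY _ (Tech.conj_mem_of_mem_normalizer nY (QY (ZQ h.toEmb he m))) fun q hq => by
    have := Yz h.toEmb he (QY (Tech.conj_mem_of_mem_normalizer' nQ hq)) m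
    calc _ = g * (g⁻¹ * q * g * z C φ e r) * g⁻¹ := by group
      _ = _ := by rw [this.eq]; group
  rcases hq r hr with rfl | rfl
  · rw [(h.z_eq_one he hr).2 (.inr rfl)]; exact Commute.one_right g
  rcases hq s s.2 with c | c <;> rw [c] at e1
  · rw [(h.z_eq_one he (map_zero σ)).2 (.inr rfl), conj_eq_one_iff, h.z_eq_one he hr] at e1
    exact (e1.elim h0 one_ne_zero).elim
  · exact mul_inv_eq_iff_eq_mul.1 e1

theorem semi (nY : g ∈ normalizer (Yg C φ (span K {e}) : Set G))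
    (nQ : g ∈ normalizer (Rg C φ (span K {e}) : Set G)) : ∃ α γ, SI P α γ ∧ (α = 1 ∨ ∀ c, α c = σ c) ∧
      γ e = e ∧ AQ C φ e g γ := by
  obtain ⟨f, hf⟩ := h.exists_hp h0 he
  obtain ⟨π, β, lr, πx, hβ⟩ := h.lr hf
  obtain ⟨m, hm, mβ⟩ := lr.toHeis.exists_lin nQ fun s => cz h h0 he hq nY nQ s.2
  have sh : ∀ {a c}, TOk P e a c → ∀ l : K, ∃ d, TOk P e (a + l • e) d ∧
      x C φ e a c = x C φ e (a + l • e) d := fun {a c} k l => by
    obtain ⟨-, k1, -⟩ := h.T_shift k l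
    obtain ⟨k2, -, e1⟩ := h.T_shift k1 l
    exact ⟨_, k2, by rw [x, x, e1]; congr 2; linear_combination - h.add_self (l + σ l)⟩
  have πx' : ∀ {a c}, TOk P e a c → π (x C φ e a c) = pr hf a := fun {a c} k => by
    obtain ⟨d, k1, e1⟩ := sh k (-P.B f a)
    have e2 : a + -P.B f a • e = pr hf a := by rw [pr_val, k.perp]; module
    rw [e2] at k1 e1
    rw [e1, πx _ _ (pr hf a).2 k1]
  have mW : ∀ q ∈ Rg C φ (span K {e}), ∃ c, TOk P e (π q) c ∧ q = x C φ e (π q) c := by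
    rintro _ ⟨s, hs, rfl⟩
    obtain ⟨a, c, k, fa, rfl⟩ := (h.mem_rad_hp hf).1 hs
    have := πx a c (CG.mem_perp_pair.2 ⟨k.perp, fa⟩) k
    exact ⟨c, by rwa [← x, this], by rw [← x, this]⟩
  have πY : ∀ s, C.act s e = e → ∀ q ∈ Rg C φ (span K {e}),
      π (φ s * q * (φ s)⁻¹) = pr hf (C.act s (π q)) := fun s hs q hq => by
    obtain ⟨c, k, e1⟩ := mW q hq
    have k1 := k.act C s
    rw [hs] at k1
    nth_rewrite 1 [e1]
    rw [h.x_conj s k, hs, πx' k1]
  have st : ∀ s, C.act s e = e → ∃ L : Wp P e f →ₗ[K] Wp P e f, ∀ a, m (L a) = pr hf (C.act s (m a)) :=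
    fun s hs => by
      obtain ⟨s', hs', e1⟩ := Tech.conj_mem_of_mem_normalizer' nY (mem_map_of_mem φ (mem_fix.2 hs))
      refine ⟨pr hf ∘ₗ (C.act s').toLinearMap ∘ₗ (Wp P e f).subtype, fun a => ?_⟩
      obtain ⟨q, hq, rfl⟩ := lr.πsurj a
      have := hm _ (Tech.conj_mem_of_mem_normalizer (YQ h.toEmb (mem_map_of_mem φ hs')) hq)
      rw [πY s' (mem_fix.1 hs') q hq] at this
      rw [← hm q hq, ← πY s hs _ (Tech.conj_mem_of_mem_normalizer nQ hq)]
      refine this.symm.trans (congrArg π ?_)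
      rw [e1]; group
  obtain ⟨ω, hω⟩ := h.herm.exists_trace_one
  obtain ⟨c, hc⟩ := scal h.toMod hq hf (m.toAddMonoidHom.comp ((DistribSMul.toAddMonoidHom _ ω).comp
    m.symm.toAddMonoidHom)) fun s hs v => by
      obtain ⟨L, hL⟩ := st s hs
      obtain ⟨v, rfl⟩ := m.surjective v
      simp [← hL]
  replace hc : ∀ v, m (ω • v) = c • m v := fun v => by simpa using hc (m v)
  obtain ⟨e', f', k⟩ := h.exists_hh hf
  let a : Wp P e f := ⟨e', CG.mem_perp_pair.2 ⟨k.ee, k.fe⟩⟩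
  have a0 : a ≠ 0 := fun c => by simpa [show e' = 0 from congrArg Subtype.val c] using k.h₂.ef
  have σω : σ ω = ω + 1 := by linear_combination hω - h.add_self ω
  obtain ⟨α, hα, αω⟩ : ∃ α : RingAut K, (α = 1 ∨ ∀ c, α c = σ c) ∧ α ω = c := by
    rcases four h.toMod hq hω c with rfl | rfl | rfl | rfl
    · have := hc a
      rw [zero_smul, map_eq_zero_iff _ m.injective, smul_eq_zero] at this
      exact absurd hω (by simp [this.resolve_right a0])
    · have := m.injective ((hc a).trans (one_smul _ _))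
      obtain rfl : ω = 1 := smul_left_injective K a0 (this.trans (one_smul _ _).symm)
      exact absurd hω (by rw [map_one, h.add_self]; exact zero_ne_one)
    · exact ⟨1, .inl rfl, rfl⟩
    · exact ⟨RingEquiv.ofBijective σ ⟨σ.injective, P.σ_surj⟩, .inr fun _ => rfl, σω⟩
  have ms : ∀ (l : K) v, m (l • v) = α l • m v := fun l v => by
    rcases four h.toMod hq hω l with rfl | rfl | rfl | rfl <;> simp [hc, αω, add_smul]
  have mB : ∀ a b : Wp P e f, P.B (m a) (m b) = α (P.B a b) := fun a b => by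
    by_contra n
    obtain ⟨l, hl⟩ := α.surjective (ω / (P.B (m a) (m b) - α (P.B a b)))
    have := congrArg Subtype.val (mβ a (l • b))
    rw [hβ, hβ, ms, Submodule.coe_smul, Submodule.coe_smul, ← h.conj (m a), ← h.conj a, P.B_smul_right,
      P.B_smul_right] at this
    have h2 : α (l * P.B a b) + σ (α (l * P.B a b)) = l * P.B a b + σ (l * P.B a b) := by
      rcases hα with rfl | c
      · rfl
      · rw [c, P.σσ, add_comm]
    have h3 := (eq_div_iff (sub_ne_zero.2 n)).1 hl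
    have h4 := congrArg σ h3
    rw [map_mul, map_sub] at h4
    simp only [map_mul] at this h2
    exact one_ne_zero (α := K) (by linear_combination this - h2 - h3 - h4 - hω)
  let γ₀ : V →+ V :=
    { toFun := fun v => α (P.B f v) • e + α (P.B e v) • f + m (pr hf v)
      map_zero' := by simp
      map_add' := fun v w => by simp only [map_add, add_smul, Submodule.coe_add]; abel }
  have γB : ∀ v w, P.B (γ₀ v) (γ₀ w) = α (P.B v w) := fun v w => by
    obtain ⟨a1, a2⟩ := CG.mem_perp_pair.1 (m (pr hf v)).2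
    obtain ⟨b1, b2⟩ := CG.mem_perp_pair.1 (m (pr hf w)).2
    have := mB (pr hf v) (pr hf w)
    rw [B_pr, pr_val hf v, P.B_sub_left, P.B_sub_left, P.B_smul_left, P.B_smul_left] at this
    simp only [γ₀, AddMonoidHom.coe_mk, ZeroHom.coe_mk, P.B_add_left, P.B_add_right, P.B_smul_left,
      P.B_smul_right, this, he, hf.ef, hf.fe, hf.sf.self_eq, b1, b2, P.B_eq_zero_comm.1 a1,
      P.B_eq_zero_comm.1 a2, map_sub, map_mul, h.aut_comm]
    ring
  have : Finite V := Module.finite_of_finite K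
  refine ⟨α, (AddEquiv.ofBijective γ₀ (Finite.injective_iff_bijective.1
    ((injective_iff_map_eq_zero _).2 fun v hv => C.nondeg v fun w => α.injective (by
      rw [← γB, hv]; simp)))).toIntLinearEquiv, ⟨fun l v => ?_, γB⟩, hα, ?_, fun a c k => ?_⟩
  · show α (P.B f (l • v)) • e + α (P.B e (l • v)) • f + m (pr hf (l • v)) =
      α l • (α (P.B f v) • e + α (P.B e v) • f + m (pr hf v))
    simp [ms, mul_smul]
  · show α (P.B f e) • e + α (P.B e e) • f + m (pr hf e) = e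
    simp [hf.fe, he, pr_e]
  · have q1 := (h.mem_Q h0 he).2 ⟨a, c, k, rfl⟩
    obtain ⟨d, k1, e1⟩ := mW _ (Tech.conj_mem_of_mem_normalizer nQ q1)
    rw [hm _ q1, πx' k] at k1
    obtain ⟨d', k2, e2⟩ := sh k1 (α (P.B f a))
    have e3 : γ₀ a = m (pr hf a) + α (P.B f a) • e := by
      show α (P.B f a) • e + α (P.B e a) • f + m (pr hf a) = _
      rw [k.perp, map_zero, zero_smul, add_zero, add_comm]
    exact ⟨d', e3 ▸ k2, by rw [e1, hm _ q1, πx' k, e2, ← e3]; rfl⟩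

omit h0 he hq in
theorem aq_self {s : S} (hs : C.act s e = e) : AQ C φ e (φ s) (C.act s) := fun a c k =>
  ⟨c, by simpa [hs] using k.act C s, by rw [h.x_conj s k, hs]⟩

omit h0 hq in
theorem t_inv (hg : g * t * g⁻¹ = t * z C φ e 1) (c : Commute g (z C φ e 1)) :
    g⁻¹ * t * g = t * z C φ e 1 := by
  have := h.z_sq he (map_one σ)
  calc _ = g⁻¹ * (t * z C φ e 1 * z C φ e 1) * g := by rw [mul_assoc t, this, mul_one]
    _ = g⁻¹ * (g * t * g⁻¹) * (z C φ e 1 * g) := by rw [hg]; group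
    _ = _ := by rw [← c.eq]; group

theorem lin (hg : g * t * g⁻¹ = t * z C φ e 1) (nY : g ∈ normalizer (Yg C φ (span K {e}) : Set G))
    (nQ : g ∈ normalizer (Rg C φ (span K {e}) : Set G)) {γ : AV V} (k : SI P 1 γ) (γe : γ e = e)
    (aq : AQ C φ e g γ) : ∃ k ∈ normalizer (Yg C φ (span K {e}) : Set G), k * t * k⁻¹ = t * z C φ e 1 ∧
      ∀ q ∈ Rg C φ (span K {e}), k * q * k⁻¹ * q⁻¹ ∈ Eg C φ (span K {e}) := by
  let Γ : V →ₗ[K] V := { toFun := γ, map_add' := γ.map_add, map_smul' := k.semi }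
  have : Fintype K := Fintype.ofFinite K
  obtain ⟨s, hs⟩ := h.full (Γ * Γ * Γ) ((h.herm.isIso_iff _).2 fun a b =>
    (k.B_eq _ _).trans ((k.B_eq _ _).trans (k.B_eq a b))) (by
      have := FiniteField.pow_card_sub_one_eq_one (LinearMap.det Γ) (LinearEquiv.isUnit_det'
        (LinearEquiv.ofInjectiveEndo Γ γ.injective)).ne_zero
      rw [← Nat.card_eq_fintype_card, h.card_K, h.small_iff.1 hq] at this
      rw [map_mul, map_mul, ← this]; ring)
  have se : C.act s e = e := by rw [hs]; show γ (γ (γ e)) = e; rw [γe, γe, γe]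
  have sY := mem_map_of_mem φ (mem_fix.2 se)
  have c := cz h h0 he hq nY nQ (map_one σ)
  refine ⟨(φ s)⁻¹ * (g * g * g), mul_mem (inv_mem (le_normalizer sY)) (mul_mem (mul_mem nY nY) nY), ?_,
    fun q hq => ?_⟩
  · have e1 : g * (t * z C φ e 1) * g⁻¹ = t := by rw [← t_inv h he hg c]; group
    calc _ = (φ s)⁻¹ * (g * (g * (g * t * g⁻¹) * g⁻¹) * g⁻¹) * φ s := by group
      _ = (φ s)⁻¹ * t * (z C φ e 1 * φ s) := by rw [hg, e1, hg]; group
      _ = _ := by rw [← (Yz h.toEmb he sY (z_mem h.toEmb he (map_one σ))).eq, (h.tφ s).inv_left.eq]; group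
  · obtain ⟨a, c, k, rfl⟩ := (h.mem_Q h0 he).1 hq
    obtain ⟨d, k1, e1⟩ := ((aq.mul aq).mul aq) a c k
    have k2 := k.act C s
    have e2 := h.x_conj s k
    rw [se, hs] at k2 e2
    obtain ⟨r, e3⟩ := xz h.toEmb k2 k1
    have m := z_mem h.toEmb he r
    convert m using 1
    calc _ = (φ s)⁻¹ * (g * g * g * x C φ e a c * (g * g * g)⁻¹) * φ s * (x C φ e a c)⁻¹ := by group
      _ = (φ s)⁻¹ * (z C φ e (d - c) * φ s) := by rw [e1.trans e3, ← e2]; group
      _ = _ := by rw [← (Yz h.toEmb he sY m).eq]; group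

theorem exact (nY : g ∈ normalizer (Yg C φ (span K {e}) : Set G))
    (nQ : g ∈ normalizer (Rg C φ (span K {e}) : Set G)) {α : RingAut K} {γ : AV V} (k : SI P α γ)
    (hα : ∀ c, α c = σ c) (γe : γ e = e) (aq : AQ C φ e g γ) {e' : V} (he' : P.B e' e' = 0)
    (hee : P.B e e' = 0) (γe' : γ e' = e') : ∃ q ∈ Rg C φ (span K {e}),
      Commute (g * q) (z C φ e' 1) ∧
      ∀ v : K, g * q * x C φ e (v • e') 0 * (g * q)⁻¹ = x C φ e (σ v • e') 0 := by
  obtain ⟨f, hf⟩ := h.exists_hp h0 he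
  obtain ⟨π, β, lr, -⟩ := h.lr hf
  choose κ hκ using h.exists_conj k
  have κe : ∀ {s s'}, (∀ v, C.act s' (γ v) = γ (C.act s v)) → κ s = s' := fun {s s'} c => C.ext fun v => by
    obtain ⟨v, rfl⟩ := γ.surjective v
    rw [hκ, c]
  have κT : ∀ {p a c}, TOk P p a c → κ (C.T p a c) = C.T (γ p) (γ a) (α c) := fun c =>
    κe (si_T h.toMod k c).2
  have κY : ∀ s, C.act s e = e → C.act (κ s) e = e := fun s hs => by rw [← γe, hκ, hs]
  classical
  obtain ⟨u, hu⟩ : ∃ u : G → G, ∀ s, C.act s e = e → u (φ s) = g⁻¹ * φ (κ s) * g :=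
    ⟨Function.extend (fun s : C.fixG (span K {e}) => φ s) (fun s => g⁻¹ * φ (κ s) * g) id, fun s hs =>
      Function.Injective.extend_apply (fun a b c => Subtype.ext (h.inj_fix h0
        ((mem_fix.1 a.2).trans (mem_fix.1 b.2).symm) c)) _ _ ⟨s, mem_fix.2 hs⟩⟩
  have um : ∀ a ∈ Yg C φ (span K {e}), ∀ b ∈ Yg C φ (span K {e}), u (a * b) = u a * u b := by
    rintro _ ⟨a, ha, rfl⟩ _ ⟨b, hb, rfl⟩
    rw [← map_mul, hu _ (mem_fix.1 (mul_mem ha hb)), hu _ (mem_fix.1 ha), hu _ (mem_fix.1 hb),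
      κe (s' := κ a * κ b) fun v => by rw [C.mul_apply, C.mul_apply, hκ, hκ], map_mul]
    group
  have ux : ∀ {p a c}, TOk P p a c → P.B p e = 0 → P.B a e = 0 →
      u (x C φ p a c) = g⁻¹ * x C φ (γ p) (γ a) (σ c) * g := fun c c1 c2 => by
    rw [x, hu _ (C.T_fix c c1 c2), κT c, hα]; rfl
  have uz : ∀ {r}, σ r = r → g⁻¹ * z C φ e r * g = z C φ e r := fun hr => by
    rw [mul_assoc, ← (cz h h0 he hq nY nQ hr).eq, inv_mul_cancel_left]
  obtain ⟨q, hq', e1⟩ := heis_inner lr.toHeis (fun c => (hq c c.2).imp Subtype.ext Subtype.ext) (u := u)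
    (fun a ha b hb => um a (QY ha) b (QY hb)) (fun s => by
      have := ux (h.tok0 he s.2) he (by simp)
      rw [γe, map_zero, show σ s = s from s.2] at this
      exact this.trans (uz s.2)) fun q hq => by
      obtain ⟨a, c, k1, rfl⟩ := (h.mem_Q h0 he).1 hq
      obtain ⟨d, k2, e1⟩ := aq a c k1
      have k3 := (si_T h.toMod k k1).1
      rw [γe, hα] at k3
      obtain ⟨r, e2⟩ := xz h.toEmb k2 k3
      refine ⟨⟨_, r⟩, ?_⟩
      rw [ux k1 he k1.perp', γe, e2, ← e1, (Yz h.toEmb he (QY hq) (z_mem h.toEmb he r)).eq]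
      conv_rhs => rw [← uz r]
      group
  refine ⟨q, hq', ?_, fun v => ?_⟩
  · obtain ⟨a, a1, a2, a3, -⟩ := exists_unit_Wp (C := C) h.herm hf [] e' (by simp) (by simp)
      (.inl (by have := h.d7 hq; simp; omega))
    obtain ⟨c, k1⟩ := h.exists_tok he' a3
    have ea := P.B_eq_zero_comm.1 (CG.mem_perp_pair.1 a1).1
    have ee := P.B_eq_zero_comm.1 hee
    have yY : x C φ e' a c ∈ Yg C φ (span K {e}) := mem_map_of_mem φ (mem_fix.2 (C.T_fix k1 ee ea))
    have y2 : x C φ e' a c * x C φ e' a c = z C φ e' 1 := by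
      rw [x_mul k1 k1, h.vadd_self, h.add_self, a2, zero_add]; rfl
    have uY : u (x C φ e' a c) ∈ Yg C φ (span K {e}) := by
      rw [x, hu _ (C.T_fix k1 ee ea)]
      exact Tech.conj_mem_of_mem_normalizer' nY (mem_map_of_mem φ (mem_fix.2 (κY _ (C.T_fix k1 ee ea))))
    have uz' : u (z C φ e' 1) = g⁻¹ * z C φ e' 1 * g := by
      have := ux (h.tok0 he' (map_one σ)) ee (by simp)
      rwa [γe', map_zero, map_one] at this
    generalize x C φ e' a c = y at yY y2 uY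
    obtain ⟨r, e2⟩ := lr.cQY (y⁻¹ * (q⁻¹ * u y * q)) (mul_mem (inv_mem yY)
      (mul_mem (mul_mem (inv_mem (QY hq')) uY) (QY hq'))) fun w hw => by
        have w1 := Tech.conj_mem_of_mem_normalizer (YQ h.toEmb yY) hw
        have := um _ (QY w1) y yY
        rw [inv_mul_cancel_right, um y yY w (QY hw), e1 w hw, e1 _ w1] at this
        calc _ = y⁻¹ * q⁻¹ * (q * (y * w * y⁻¹) * q⁻¹ * u y) * q := by group
          _ = _ := by rw [← this]; group
    have c1 := Yz h.toEmb he yY (z_mem h.toEmb he r.2)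
    have e3 := um y yY y yY
    rw [y2, uz', show u y = q * (y * z C φ e r) * q⁻¹ by rw [← e2]; group, conj_mul, c1.symm.mul_mul_mul_comm,
      h.z_sq he r.2, mul_one, y2] at e3
    calc _ = g * (q * z C φ e' 1 * q⁻¹) * q := by group
      _ = _ := by rw [← e3]; group
  · have k1 : TOk P e (v • e') 0 := h.tok1 he (by simp [P.B_smul_left, he']) (by simp [hee]) (map_zero σ)
    have := (e1 _ ((h.mem_Q h0 he).2 ⟨_, _, k1, rfl⟩)).symm.trans (ux k1 he k1.perp')
    rw [γe, k.semi, hα, γe', map_zero] at this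
    calc _ = g * (q * x C φ e (v • e') 0 * q⁻¹) * g⁻¹ := by group
      _ = _ := by rw [this]; group

theorem line {f e' f' : V} (hh : HH P e f e' f') (hg : g * t * g⁻¹ = t * z C φ e 1)
    (c1 : Commute g (z C φ e 1)) (c2 : Commute g (z C φ e' 1))
    (c3 : ∀ v : K, g * x C φ e (v • e') 0 * g⁻¹ = x C φ e (σ v • e') 0) :
    ∃ k ∈ centralizer (Eg C φ (span K {e, e'}) : Set G), k * t * k⁻¹ = t * z C φ e 1 := by
  have he' := hh.h₂.se.self_eq
  have ee := P.B_eq_zero_comm.1 hh.ee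
  have k1 : ∀ (v : K) {c}, σ c = c → TOk P e (v • e') c := fun v c hc =>
    h.tok1 he (by simp [P.B_smul_left, he']) (by simp [hh.ee]) hc
  have hU : TI P (span K {e, e'}) := ti_span.2 (by simp [he, he', ee, hh.ee])
  have m1 : e ∈ span K {e, e'} := Submodule.subset_span (by simp)
  have m2 : e' ∈ span K {e, e'} := Submodule.subset_span (by simp)
  have cE : ∀ a ∈ Eg C φ (span K {e, e'}), ∀ b ∈ Eg C φ (span K {e, e'}), Commute a b := by
    rintro _ ⟨a, ha, rfl⟩ _ ⟨b, hb, rfl⟩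
    exact Commute.map (h.E_cent hU hb a (rad_le_fix _ (h.E_le_rad hU ha))) φ
  have zE : ∀ p ∈ span K {e, e'}, z C φ p 1 ∈ Eg C φ (span K {e, e'}) := fun p hp =>
    mem_map_of_mem φ (h.T_mem_E hU (h.tok0 (hU hp p hp) (map_one σ)) hp (zero_mem _))
  have xE : ∀ (v : K), x C φ e (v • e') 1 ∈ Eg C φ (span K {e, e'}) := fun v =>
    mem_map_of_mem φ (h.T_mem_E hU (k1 v (map_one σ)) m1 (Submodule.smul_mem _ v m2))
  let D : G → Prop := fun a => ∃ k ∈ centralizer (Eg C φ (span K {e, e'}) : Set G), k * t * k⁻¹ = t * a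
  have Dm : ∀ {a b}, D a → D b → b ∈ Eg C φ (span K {e, e'}) → D (a * b) := by
    rintro a b ⟨k, hk, e1⟩ ⟨k', hk', e2⟩ hb
    refine ⟨k * k', mul_mem hk hk', ?_⟩
    calc _ = k * (k' * t * k'⁻¹) * k⁻¹ := by group
      _ = k * t * k⁻¹ * (k * b) * k⁻¹ := by rw [e2]; group
      _ = _ := by rw [e1, ← hk b hb]; group
  have cz : ∀ {p g}, P.B p p = 0 → Commute g (z C φ p 1) → ∀ r, σ r = r → Commute g (z C φ p r) :=
    fun hp c r hr => by
      rcases hq r hr with rfl | rfl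
      exacts [(h.z_eq_one hp hr).2 (.inr rfl) ▸ Commute.one_right _, c]
  obtain ⟨j, j1, j2, -⟩ := h.exists_swap hh
  have D0 : D (z C φ e 1 * z C φ e' 1) := by
    have a1 : φ j * z C φ e 1 * (φ j)⁻¹ = z C φ e' 1 := by rw [h.z_conj j he (map_one σ), j1]
    have a2 : φ j * z C φ e' 1 * (φ j)⁻¹ = z C φ e 1 := by rw [h.z_conj j he' (map_one σ), j2]
    have a3 : ∀ v : K, φ j * x C φ e (v • e') 0 * (φ j)⁻¹ = x C φ e (σ v • e') 0 := fun v => by
      rw [h.x_conj j (k1 v (map_zero σ)), j1, map_smul, j2, x,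
        h.T_symm he' (by simp [P.B_smul_left, he]) (by simp [ee]),
        C.T_smul_left (h.tok1 he he' hh.ee (map_zero σ)), mul_zero]
      rfl
    have b1 : Commute (φ j * g * (φ j)⁻¹) (z C φ e 1) := a2 ▸ c2.conj (φ j)
    have b2 : Commute (φ j * g * (φ j)⁻¹) (z C φ e' 1) := a1 ▸ c1.conj (φ j)
    refine ⟨g⁻¹ * (φ j * g * (φ j)⁻¹), ?_, ?_⟩
    · rintro _ ⟨s, hs, rfl⟩
      obtain ⟨r, v, r', hr, hr', rfl⟩ := (h.mem_E_line hh).1 hs
      rw [map_mul, map_mul]
      refine (((cz he (c1.inv_left.mul_left b1) r hr).mul_right ?_).mul_right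
        (cz he' (c2.inv_left.mul_left b2) r' hr')).symm.eq
      have b3 := a3 (σ v)
      have b4 := c3 (σ v)
      rw [P.σσ] at b3 b4
      refine mul_inv_eq_iff_eq_mul.1 ?_
      calc _ = g⁻¹ * (φ j * (g * ((φ j)⁻¹ * x C φ e (v • e') 0 * φ j) * g⁻¹) * (φ j)⁻¹) * g := by
            rw [x]; group
        _ = g⁻¹ * (g * x C φ e (v • e') 0 * g⁻¹) * g := by
            nth_rewrite 1 [← b3]
            rw [show (φ j)⁻¹ * (φ j * x C φ e (σ v • e') 0 * (φ j)⁻¹) * φ j = x C φ e (σ v • e') 0 by group,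
              b4, a3, c3]
        _ = _ := by rw [x]; group
    · calc _ = g⁻¹ * (φ j * (g * ((φ j)⁻¹ * t * φ j) * g⁻¹) * (φ j)⁻¹) * g := by group
        _ = g⁻¹ * (φ j * t) * (φ j)⁻¹ * (φ j * z C φ e 1 * (φ j)⁻¹ * g) := by
            rw [(h.tφ j).inv_left.eq, inv_mul_cancel_right, hg]; group
        _ = g⁻¹ * t * g * z C φ e' 1 := by rw [(h.tφ j).eq, a1, ← c2.eq]; group
        _ = _ := by rw [t_inv h he hg c1, mul_assoc]
  have D1 : ∀ v : K, v ≠ 0 → D (x C φ e (v • e') 1) := fun v v0 => by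
    have k2 : TOk P e (v • f') 0 :=
      h.tok1 he (by simp [P.B_smul_left, hh.h₂.sf.self_eq]) (by simp [hh.ef]) (map_zero σ)
    have n := (h.act_norm (h.act_self _) (stb_of_le (s := C.T e (v • f') 0) (U := span K {e, e'})
      fun w hw => by
        rw [C.T_perp k2 (hU hw e m1)]; exact add_mem hw (Submodule.smul_mem _ _ m1))).2.2
    obtain ⟨k, hk, e1⟩ := id D0
    have D2 : D (z C φ e 1 * z C φ (e' + σ v • e) 1) := by
      have a1 := h.z_conj (C.T e (v • f') 0) he (map_one σ)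
      have a2 := h.z_conj (C.T e (v • f') 0) he' (map_one σ)
      rw [C.T_self k2] at a1
      rw [C.T_perp k2 hh.ee, P.B_smul_left, hh.h₂.fe, mul_one] at a2
      have a3 := h.tφ (C.T e (v • f') 0)
      generalize φ (C.T e (v • f') 0) = l at n a1 a2 a3
      refine ⟨l * k * l⁻¹, fun w hw => ?_, ?_⟩
      · have := hk _ (Tech.conj_mem_of_mem_normalizer' n hw)
        calc _ = l * (l⁻¹ * w * l * k) * l⁻¹ := by group
          _ = _ := by rw [this]; group
      · rw [← a2]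
        nth_rewrite 1 [← a1]
        calc _ = l * (k * (l⁻¹ * t * l) * k⁻¹) * l⁻¹ := by group
          _ = l * t * (z C φ e 1 * z C φ e' 1) * l⁻¹ := by
              rw [a3.inv_left.eq, inv_mul_cancel_right, e1]; group
          _ = _ := by rw [a3.eq]; group
    have m3 := add_mem m2 (Submodule.smul_mem _ (σ v) m1)
    have := Dm D0 D2 (mul_mem (zE e m1) (zE _ m3))
    rwa [(cE _ (zE e' m2) _ (zE e m1)).mul_mul_mul_comm, h.z_sq he (map_one σ), one_mul, z, z,
      h.T_line he he' hh.ee (map_one σ), map_mul, map_mul, ← mul_assoc, ← mul_assoc, ← z,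
      h.z_sq he' (map_one σ), one_mul, norm_one hq P ((map_ne_zero σ).2 v0), P.σσ, mul_one, mul_one, ← x, ← x,
      x_mul (h.tok0 he (map_one σ)) (k1 v (map_zero σ)), zero_add, map_zero, add_zero, add_zero] at this
  obtain ⟨ω, hω⟩ := h.herm.exists_trace_one
  have ω0 : ω ≠ 0 := fun c => by simp [c] at hω
  have := Dm (Dm (D1 1 one_ne_zero) (D1 ω ω0) (xE ω)) (D1 (σ ω) ((map_ne_zero σ).2 ω0)) (xE _)
  have b : ∀ a b : K, P.B (a • e') (b • e') = 0 := fun a b => by simp [P.B_smul_left, he']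
  rwa [x_mul (k1 1 (map_one σ)) (k1 ω (map_one σ)), b, h.add_self, add_zero, ← add_smul,
    x_mul (k1 _ (map_zero σ)) (k1 _ (map_one σ)), b, ← add_smul, add_assoc, hω, h.add_self, zero_smul,
    zero_add, add_zero] at this

end MV

open MV

namespace Sit

variable (h : Sit C φ t) {e : V} (h0 : e ≠ 0) (he : P.B e e = 0)
include h h0 he

/-- `q = 2` -/
theorem exists_triv2 (hq : Small σ) {g : G} (hg : g * t * g⁻¹ = t * z C φ e 1)
    (nY : g ∈ normalizer (Yg C φ (span K {e}) : Set G))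
    (nQ : g ∈ normalizer (Rg C φ (span K {e}) : Set G)) :
    ∃ k ∈ normalizer (Yg C φ (span K {e}) : Set G), k * t * k⁻¹ = t * z C φ e 1 ∧
      ∀ q ∈ Rg C φ (span K {e}), k * q * k⁻¹ * q⁻¹ ∈ Eg C φ (span K {e}) := by
  obtain ⟨α, γ, k, rfl | hα, γe, aq⟩ := semi h h0 he hq nY nQ
  · exact lin h h0 he hq hg nY nQ k γe aq
  obtain ⟨f, hf⟩ := h.exists_hp h0 he
  obtain ⟨a, b, hh⟩ := h.exists_hh hf
  have ha := hh.h₂.se.self_eq
  have ne : ∀ {a b}, P.B b a ≠ 0 → P.B b e = 0 → a ∉ span K {e} := fun c c' m => by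
    obtain ⟨l, rfl⟩ := Submodule.mem_span_singleton.1 m
    exact c (by rw [P.B_smul_right, c', mul_zero])
  have be := P.B_eq_zero_comm.1 hh.ef
  obtain ⟨s, μ, hμ, s1, s2⟩ := h.trans_line (a := γ a) h0 he (by rw [k.B_eq, ha, map_zero]) ha
    (by rw [← γe, k.B_eq, hh.ee, map_zero]) hh.ee (ne (b := γ b) (by simp [k.B_eq, hh.h₂.fe])
      (by rw [← γe, k.B_eq, be, map_zero])) (ne (b := b) (by simp [hh.h₂.fe]) be)
  obtain ⟨ν, ν1, -, ν2⟩ := h.exists_sqrt μ
  have ν0 := ne_zero_of_norm (ν2 hμ)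
  have he' : P.B (ν • a) (ν • a) = 0 := by simp [P.B_smul_left, ha]
  have hee : P.B e (ν • a) = 0 := by simp [hh.ee]
  have ne' : ν • a ∉ span K {e} := ne (b := b) (by simp [hh.h₂.fe, ν0]) be
  have sY := mem_map_of_mem φ (mem_fix.2 s1)
  have nY1 := mul_mem (le_normalizer sY) nY
  have nQ1 := mul_mem (YQ h.toEmb sY) nQ
  obtain ⟨q, hq', c2, c3⟩ := exact h h0 he hq nY1 nQ1 ((h.act_self s).toSI.mul k) hα
    (show C.act s (γ e) = e by rw [γe, s1]) ((aq_self h s1).mul aq) he' hee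
    (show C.act s (γ (ν • a)) = _ by
      rw [k.semi, map_smul, s2, smul_smul, hα, ← ν1, ← mul_assoc, ν2 hμ, one_mul])
  have nY2 := mul_mem nY1 (le_normalizer (QY hq'))
  have nQ2 := mul_mem nQ1 (le_normalizer hq')
  have zm := z_mem h.toEmb he (map_one σ)
  have hg2 : φ s * g * q * t * (φ s * g * q)⁻¹ = t * z C φ e 1 := by
    obtain ⟨q, -, rfl⟩ := hq'
    calc _ = φ s * (g * (φ q * t) * (φ q)⁻¹ * g⁻¹) * (φ s)⁻¹ := by group
      _ = φ s * t * (z C φ e 1 * (φ s)⁻¹) := by rw [(h.tφ q).eq, ← mul_assoc g, mul_inv_cancel_right, hg]; group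
      _ = _ := by rw [(h.tφ s).eq, ← (Yz h.toEmb he sY zm).inv_left.eq]; group
  have c1 := cz h h0 he hq nY2 nQ2 (map_one σ)
  generalize φ s * g * q = g at nY2 nQ2 hg2 c1 c2 c3
  generalize ν • a = e' at he' hee ne' c2 c3
  obtain ⟨f, f', hh⟩ := h.exists_hh' he he' hee h0 ne'
  obtain ⟨p, hp, e1⟩ := line h h0 he hq hh hg2 c1 c2 c3
  have hU : TI P (span K {e, e'}) := ti_span.2 (by simp [he, he', hee, P.B_eq_zero_comm.1 hee])
  have m1 : e ∈ span K {e, e'} := Submodule.subset_span (by simp)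
  have m2 : e' ∈ span K {e, e'} := Submodule.subset_span (by simp)
  obtain ⟨α', γ', k'⟩ := h.exists_act (g := g⁻¹ * p) (h.cN (mul_inv_eq_iff_eq_mul.1 (by
    calc _ = g⁻¹ * (p * t * p⁻¹) * g := by group
      _ = _ := by rw [e1, ← hg2]; group)))
  obtain ⟨n1, n2, -⟩ := h.act_norm k' (h.fix_of_z k' he (map_one σ) (map_one σ)
    (fun c => ((h.z_eq_one he (map_one σ)).1 c).elim h0 one_ne_zero) (mul_inv_eq_iff_eq_mul.2
      (c1.inv_left.mul_left (hp _ (mem_map_of_mem φ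
        (h.T_mem_E hU (h.tok0 he (map_one σ)) m1 (zero_mem _)))).symm)))
  replace n1 := mul_mem nY2 n1
  replace n2 := mul_mem nQ2 n2
  rw [mul_inv_cancel_left] at n1 n2
  obtain ⟨α, γ, k, rfl | hα, γe, aq⟩ := semi h h0 he hq n1 n2
  · exact lin h h0 he hq e1 n1 n2 k γe aq
  have key : ∀ v : K, γ (v • e') - v • e' ∈ span K {e} := fun v => by
    have k1 : TOk P e (v • e') 0 := h.tok1 he (by simp [P.B_smul_left, he']) (by simp [hee]) (map_zero σ)
    obtain ⟨d, k2, e2⟩ := aq _ _ k1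
    rw [x, ← hp _ (mem_map_of_mem φ (h.T_mem_E hU k1 m1 (Submodule.smul_mem _ v m2))),
      mul_inv_cancel_right] at e2
    exact T_mod h.toMod h0 k2 k1 (h.inj_fix h0 ((C.T_self k2).trans (C.T_self k1).symm) e2.symm)
  obtain ⟨ω, hω⟩ := h.herm.exists_trace_one
  have := sub_mem (key ω) (Submodule.smul_mem _ (σ ω) (key 1))
  rw [k.semi, hα, one_smul, smul_sub, sub_sub_sub_cancel_left, ← sub_smul,
    show σ ω - ω = 1 by linear_combination hω - h.add_self ω, one_smul] at this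
  exact absurd this ne'

theorem exists_p {g : G} (hg : g * t * g⁻¹ = t * z C φ e 1) :
    ∃ p ∈ centralizer (Yg C φ (span K {e}) : Set G), ∃ s, σ s = s ∧ s ≠ 0 ∧
      p * t * p⁻¹ = t * z C φ e s := by
  obtain ⟨g, hg, nY, nQ, nZ⟩ := h.trans h0 he hg
  obtain ⟨f, hf⟩ := h.exists_hp h0 he
  obtain ⟨π, β, lr, -⟩ := h.lr hf
  by_cases hq : Small σ
  · obtain ⟨k, k1, k2, k3⟩ := h.exists_triv2 h0 he hq hg nY nQ
    obtain ⟨p, hp, e1⟩ := lr.exists_cent (s := 1) k1 (fun s => cz h h0 he hq k1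
      (Tech.mem_normalizer_of_forall fun q hq => by
        simpa using mul_mem (ZQ h.toEmb he (k3 q hq)) hq) s.2) (fun q hq => by
      obtain ⟨r, hr, e1⟩ := (h.mem_Z he).1 (k3 q hq)
      exact ⟨⟨r, hr⟩, (mul_inv_eq_iff_eq_mul.1 e1).trans
        (Yz h.toEmb he (QY hq) (z_mem h.toEmb he hr)).eq.symm⟩) k2
    exact ⟨p, hp, 1, map_one σ, one_ne_zero, e1⟩
  · obtain ⟨k, k1, k2, k3, s, s0, k4⟩ := lr.exists_triv (h.big_iff.1 hq) hg nY nQ (h.X_z he ▸ nZ)
    obtain ⟨p, hp, e1⟩ := lr.exists_cent k1 k2 k3 k4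
    exact ⟨p, hp, s, s.2, fun c => s0 (Subtype.ext c), e1⟩

end Sit

end CfsgLib.UN
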