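import Cfsg.Agent.Lib.UN.PrdB
import Cfsg.Agent.Lib.UN.SylB

/-! Product case: the contradiction -/

set_option autoImplicit false
set_option linter.unusedSectionVars false

namespace CfsgLib.UN

open Subgroup Module CfsgLib.Forms CfsgLib.LieMult
open CfsgLib.HX (Std CO Two Mv Tr LR Heis NF Fus4 Has4 M2)
open Submodule (span)
open CfsgLib.UFP (mem_cent mem_cent1 conj_mem conj_mem' norm_conj norm_inf norm_sup pgroup_zpowers_of_sq)
open scoped commutatorElement Pointwise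

universe u

variable {K : Type} [Field K] [Finite K] {σ : K →+* K} {V : Type} [AddCommGroup V] [Module K V]
  [FiniteDimensional K V] {P : PQ σ V} {S : Type} [Group S] [Finite S] {G : Type u} [Group G]
  [Finite G] {C : CG P S} {φ : S →* G} {t : G}

section
variable {e f e' f' : V}

theorem HH.PrdC_ne (k : HH P e f e' f') : e ≠ 0 := fun h0 => by
  have := k.h₁.fe
  rw [h0, map_zero] at this
  exact zero_ne_one this

theorem HH.PrdC_li (k : HH P e f e' f') : LinearIndependent K ![e, e'] :=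
  LinearIndependent.pair_iff.2 fun s r hs => by
    have h1 := congrArg (P.B f) hs
    have h2 := congrArg (P.B f') hs
    have h3 : P.B f' e = 0 := P.B_eq_zero_comm.1 k.ef
    simp only [map_add, map_smul, map_zero, k.h₁.fe, k.fe, k.h₂.fe, h3, smul_eq_mul, mul_one, mul_zero, add_zero,
      zero_add] at h1 h2
    exact ⟨h1, h2⟩

theorem HH.PrdC_nm (k : HH P e f e' f') : e' ∉ span K {e} := fun hm => by
  obtain ⟨l, hl⟩ := Submodule.mem_span_singleton.1 hm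
  have h2 := congrArg (P.B f') hl
  rw [map_smul, P.B_eq_zero_comm.1 k.ef, k.h₂.fe, smul_zero] at h2
  exact zero_ne_one h2

theorem HH.PrdC_ti1 (k : HH P e f e' f') : TI P (span K {e}) := ti_span.2 (by
  rintro _ rfl _ rfl; exact k.h₁.se.self_eq)

theorem HH.PrdC_ti2 (k : HH P e f e' f') : TI P (span K {e, e'}) := ti_span.2 (by
  rintro _ (rfl | rfl) _ (rfl | rfl)
  exacts [k.h₁.se.self_eq, k.ee, P.B_eq_zero_comm.1 k.ee, k.h₂.se.self_eq])

theorem HH.PrdC_ok (k : HH P e f e' f') (h : Mod C) : TOk P e e' 0 :=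
  h.tok1 k.h₁.se.self_eq k.h₂.se.self_eq k.ee (map_zero σ)

theorem HH.PrdC_rad (k : HH P e f e' f') (h : Mod C) : C.T e e' 0 ∈ Rad C (span K {e}) :=
  h.T_mem_rad k.PrdC_ti1 (k.PrdC_ok h) (Submodule.mem_span_singleton_self e) (P.mem_perp_span_singleton.2 k.ee)

theorem HH.PrdC_app (k : HH P e f e' f') (h : Mod C) : C.act (C.T e e' 0) f' = f' + e := by
  rw [C.T_perp (k.PrdC_ok h) k.ef, k.h₂.ef, one_smul]

end

namespace Emb

variable (h : Emb C φ) {b : Basis (Fin (finrank K V)) K V}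
include h

theorem PrdC_eq {s s' : S} (h1 : IsPGroup 2 (zpowers s)) (h2 : IsPGroup 2 (zpowers s')) (e : φ s = φ s') :
    s = s' := by
  obtain ⟨i, hi⟩ := h1 ⟨s, mem_zpowers s⟩
  obtain ⟨j, hj⟩ := h2 ⟨s', mem_zpowers s'⟩
  have hi' : s ^ 2 ^ i = 1 := congrArg Subtype.val hi
  have hj' : s' ^ 2 ^ j = 1 := congrArg Subtype.val hj
  have e1 : φ (s'⁻¹ * s) = 1 := by rw [map_mul, map_inv, e, inv_mul_cancel]
  have c : Commute s' (s'⁻¹ * s) := mem_center_iff.1 (h.ker e1) s'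
  have p : (s'⁻¹ * s) ^ 2 ^ (i + j) = 1 := by
    have := c.mul_pow (2 ^ (i + j))
    rwa [mul_inv_cancel_left, pow_add, pow_mul s, hi', one_pow, mul_comm (2 ^ i), pow_mul s', hj', one_pow, one_mul,
      eq_comm, mul_comm (2 ^ j), ← pow_add] at this
  exact (inv_mul_eq_one.1 (h.inj2 (Tech.isPGroup_zpowers_of_pow p) (e1 ▸ one_mem _))).symm

theorem PrdC_mem_U (hb : Bas P b) {l : S} (h2 : IsPGroup 2 (zpowers l))
    (hn : φ l ∈ normalizer ((Ub C b).map φ : Set G)) : l ∈ Ub C b := by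
  have U2 := h.toMod.Ub_two hb
  have n : l ∈ normalizer (Ub C b : Set S) := mem_normalizer_fintype fun u hu => by
    obtain ⟨x, hx, e⟩ := conj_mem hn ⟨u, hu, rfl⟩
    obtain ⟨i, hi⟩ := U2 ⟨u, hu⟩
    rwa [h.PrdC_eq (s := l * u * l⁻¹) (Tech.isPGroup_zpowers_of_pow (k := i) (by
      rw [conj_pow, show u ^ 2 ^ i = 1 from congrArg Subtype.val hi]; group)) (SLE.pg_zpowers U2 hx)
      (by rw [e, map_mul, map_mul, map_inv])]
  exact (h.toMod.Ub_max hb (U2.to_sup_of_normal_left' h2 (zpowers_le.2 n)) le_sup_left).le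
    (mem_sup_right (mem_zpowers l))

theorem PrdC_inf (hb : Bas P b) {T : Subgroup G} (hT : IsPGroup 2 T) (hU : (Ub C b).map φ ≤ T) :
    T ⊓ φ.range = (Ub C b).map φ := by
  refine le_antisymm (by_contra fun hn => ?_) (le_inf hU (map_le_range _ _))
  obtain ⟨x, hx, n, x1, -⟩ := UFP.exists_norm hT.to_inf_left (le_inf hU (map_le_range _ _)) hn
  obtain ⟨l, l2, -, rfl⟩ := h.exists_two hx.2 (SLE.pg_zpowers hT hx.1)
  exact x1 ⟨l, h.PrdC_mem_U hb l2 n, rfl⟩

theorem PrdC_inn (hb : Bas P b) {GN C₂ T : Subgroup G} (hT : IsPGroup 2 T) (hN : GN ≤ normalizer (φ.range : Set G))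
    (hU : T ⊓ φ.range = (Ub C b).map φ) (hC : GN ⊓ centralizer (φ.range : Set G) ≤ C₂) (hL : φ.range ≤ GN)
    {w : G} (hw : w ∈ T ⊓ GN) {γ : AV V} (a : Act C φ w 1 γ) : w ∈ (Ub C b).map φ ⊔ T ⊓ C₂ := by
  obtain ⟨l, l2, e⟩ := h.lin_two a (SLE.pg_zpowers hT hw.1)
  have n : w ∈ normalizer ((Ub C b).map φ : Set G) := hU ▸ norm_inf (le_normalizer hw.1) (hN hw.2)
  have hl : φ l ∈ (Ub C b).map φ := ⟨l, h.PrdC_mem_U hb l2 (by
    have := mul_mem n (inv_mem (centralizer_le_normalizer _ (centralizer_le (map_le_range φ (Ub C b)) e)))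
    simpa using this), rfl⟩
  rw [← mul_inv_cancel_left (φ l) w]
  exact mul_mem_sup hl ⟨T.mul_mem (T.inv_mem (hU.ge hl).1) hw.1, hC ⟨GN.mul_mem (GN.inv_mem (hL ⟨l, rfl⟩)) hw.2, e⟩⟩

theorem PrdC_Z (hb : Bas P b) :
    (Ub C b).map φ ⊓ centralizer ((Ub C b).map φ : Set G) = Eg C φ (flag b 1) := by
  rw [Eg, ← h.toMod.Ub_cent hb]
  apply le_antisymm
  · rintro _ ⟨⟨x, hx, rfl⟩, hc⟩
    exact ⟨x, ⟨hx, mem_cent.2 fun u hu => h.inj_two (h.toMod.Ub_two hb) (mul_mem hu hx) (mul_mem hx hu) (by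
      rw [map_mul, map_mul]; exact mem_cent.1 hc _ ⟨u, hu, rfl⟩)⟩, rfl⟩
  · rintro _ ⟨x, hx, rfl⟩
    refine ⟨⟨x, hx.1, rfl⟩, mem_cent.2 ?_⟩
    rintro _ ⟨u, hu, rfl⟩
    rw [← map_mul, ← map_mul, mem_cent.1 hx.2 u hu]

theorem PrdC_char (hb : Bas P b) {δ : G} (hδ : δ ∈ normalizer ((Ub C b).map φ : Set G)) {A : Subgroup S}
    (hA : A ≤ Ub C b) (hc : ∀ (θ : MulAut (Ub C b)) (s : Ub C b), (s : S) ∈ A → (θ s : S) ∈ A) :
    δ ∈ normalizer (A.map φ : Set G) := by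
  have hi : Function.Injective (φ.subgroupMap (Ub C b)) := fun a a' e =>
    Subtype.ext (h.inj_two (h.toMod.Ub_two hb) a.2 a'.2 (congrArg Subtype.val e))
  let ε := MulEquiv.ofBijective _ ⟨hi, φ.subgroupMap_surjective (Ub C b)⟩
  refine mem_normalizer_fintype ?_
  rintro _ ⟨s, hs, rfl⟩
  refine ⟨_, hc ((ε.trans (((Ub C b).map φ).normalizerMonoidHom ⟨δ, hδ⟩)).trans ε.symm) ⟨s, hA hs⟩ hs, ?_⟩
  exact congrArg Subtype.val (ε.apply_symm_apply _)

theorem PrdC_z_inj {p : V} {s r : K} (h0 : p ≠ 0) (hp : P.B p p = 0) (hs : σ s = s) (hr : σ r = r)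
    (e : z C φ p s = z C φ p r) : s = r := by
  have := h.z_add hp hs hr
  rw [e, h.z_sq hp hr, h.z_eq_one hp (by rw [map_add, hs, hr])] at this
  linear_combination this.resolve_left h0 - h.toMod.add_self r

theorem PrdC_gal {w : G} {α : RingAut K} {γ : AV V} (a : Act C φ w α γ) {e : V} (h0 : e ≠ 0) (he : P.B e e = 0)
    (hc : w ∈ centralizer (Eg C φ (span K {e}) : Set G)) : α = 1 ∨ ∀ c, α c = σ c := by
  have c : ∀ s, σ s = s → w * z C φ e s * w⁻¹ = z C φ e s := fun s hs => by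
    rw [← mem_cent.1 hc _ ((h.mem_Z he).2 ⟨s, hs, rfl⟩), mul_inv_cancel_right]
  have h1 : z C φ e 1 ≠ 1 := fun k => ((h.z_eq_one he (map_one σ)).1 k).elim h0 one_ne_zero
  obtain ⟨l, hl⟩ := Submodule.mem_span_singleton.1 ((h.fix_of_z a he (map_one σ) (map_one σ) h1 (c 1 (map_one σ)) e).2
    (Submodule.mem_span_singleton_self e))
  have k : ∀ s, σ s = s → σ l * l * α s = s := fun s hs => by
    have hα : σ (α s) = α s := by rw [← h.toMod.aut_comm, hs]
    refine h.PrdC_z_inj h0 he (by rw [map_mul, map_mul, P.σσ, hα, mul_comm l]) hs ?_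
    rw [← h.z_smul he hα, hl, ← h.act_z a he hs, c s hs]
  have k1 := k 1 (map_one σ)
  rw [map_one, mul_one] at k1
  exact h.toMod.aut_fix fun s hs => by simpa only [k1, one_mul] using k s hs

theorem PrdC_le_or {e f : V} (hf : HP P e f) {q : G} (hq : q ∈ Rg C φ (span K {e})) {H : Subgroup G}
    (hH : ∀ u ∈ Rg C φ (span K {e}), q * u * q⁻¹ * u⁻¹ ∈ H) :
    Eg C φ (span K {e}) ≤ H ∨ q ∈ Eg C φ (span K {e}) := by
  have he := hf.se.self_eq
  obtain ⟨_, hs, rfl⟩ := hq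
  obtain ⟨a, c, k, fa, rfl⟩ := (h.toMod.mem_rad_hp hf).1 hs
  by_cases ha : a = 0
  · subst ha
    have := (h.toMod.tok.1 k).2.2
    rw [map_zero] at this
    exact .inr ((h.mem_Z he).2 ⟨c, by linear_combination this - h.toMod.add_self c, rfl⟩)
  refine .inl fun g hg => ?_
  obtain ⟨r, hr, rfl⟩ := (h.mem_Z he).1 hg
  obtain ⟨v, hv⟩ : ∃ v, P.B a v ≠ 0 := by
    by_contra! hh
    exact ha (C.nondeg a hh)
  obtain ⟨θ, hθ⟩ := h.herm.exists_trace_one
  have af : P.B a f = 0 := P.B_eq_zero_comm.1 fa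
  obtain ⟨u, eu, au⟩ : ∃ u, P.B e u = 0 ∧ P.B a u = r * θ :=
    ⟨(r * θ / P.B a v) • (v - P.B e v • f), by simp [hf.ef], by simp [af, hv]⟩
  obtain ⟨d, kd⟩ := h.toMod.exists_tok he eu
  have := hH _ ⟨_, (h.toMod.mem_rad_pt (fun e0 => by simpa [e0] using hf.fe) he).2 ⟨u, d, kd, rfl⟩, rfl⟩
  rw [← commutatorElement_def, ← map_commutatorElement, C.T_commutator k kd, ← h.toMod.conj a u, au] at this
  rwa [show σ (r * θ) - r * θ = r by
    rw [map_mul, hr]; linear_combination r * hθ - h.toMod.add_self (r * θ)] at this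

end Emb

theorem Emb.side (h : Emb C φ) (hq : ¬ Small σ) {b : Basis (Fin (finrank K V)) K V} (hb : Bas P b)
    {GN C₂ T : Subgroup G} (hT : IsPGroup 2 T) (hN : GN ≤ normalizer (φ.range : Set G))
    (hU : T ⊓ φ.range = (Ub C b).map φ) (hC : GN ⊓ centralizer (φ.range : Set G) ≤ C₂)
    (hC' : C₂ ≤ centralizer (φ.range : Set G)) (hL : φ.range ≤ GN) :
    UFP.Side GN C₂ T ((Ub C b).map φ) := by
  obtain ⟨e, f, e', f', k, h1, h2⟩ := h.toMod.exists_flag hb
  have nU : ∀ w ∈ T ⊓ GN, w ∈ normalizer ((Ub C b).map φ : Set G) := fun w hw =>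
    hU ▸ norm_inf (le_normalizer hw.1) (hN hw.2)
  have UT : (Ub C b).map φ ≤ T := hU ▸ inf_le_left
  have he := k.h₁.se.self_eq
  have e0 := k.PrdC_ne
  have inn : ∀ w ∈ T ⊓ GN, ∀ γ, Act C φ w 1 γ → w ∈ (Ub C b).map φ ⊔ T ⊓ C₂ := fun w hw γ a =>
    h.PrdC_inn hb hT hN hU hC hL hw a
  have gal : ∀ w ∈ T ⊓ GN ⊓ centralizer (((Ub C b).map φ ⊓ centralizer ((Ub C b).map φ : Set G) : Subgroup G) : Set G),
      w ∉ (Ub C b).map φ ⊔ T ⊓ C₂ → ∃ α γ, Act C φ w α γ ∧ ∀ c, α c = σ c := fun w hw hn => by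
    obtain ⟨α, γ, a⟩ := h.exists_act (hN hw.1.2)
    refine ⟨α, γ, a, (h.PrdC_gal a e0 he ?_).resolve_left fun e => hn (inn w hw.1 γ (e ▸ a))⟩
    rw [← h1, ← h.PrdC_Z hb]
    exact hw.2
  refine ⟨?_, fun w hw H hH => ?_, fun w hw w' hw' n n' => ?_, fun w hw n J hJ i => ?_⟩
  · by_contra! hc
    have hT : C.T e e' 0 ∈ Ub C b := (h.toMod.rad_le_Ub hb).1 (h1 ▸ k.PrdC_rad h.toMod)
    have : C.T e e' 0 ∈ Ub C b ⊓ centralizer (Ub C b : Set S) := ⟨hT, mem_cent.2 fun u hu =>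
      h.inj_two (h.toMod.Ub_two hb) (mul_mem hu hT) (mul_mem hT hu) (by
        rw [map_mul, map_mul]; exact hc _ ⟨u, hu, rfl⟩ _ ⟨_, hT, rfl⟩)⟩
    rw [h.toMod.Ub_cent hb, h1] at this
    have := this f' (P.mem_perp_span_singleton.2 k.ef)
    rw [k.PrdC_app h.toMod, add_eq_left] at this
    exact e0 this
  · rw [h.PrdC_Z hb, h1]
    have QU : Rg C φ (span K {e}) ≤ (Ub C b).map φ := map_mono (h1 ▸ (h.toMod.rad_le_Ub hb).1)
    let J₀ := closure {x | ∃ u ∈ (Ub C b).map φ, x = w * u * w⁻¹ * u⁻¹}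
    have k1 : J₀ ≤ H ⊓ (Ub C b).map φ := (closure_le _).2 (by
      rintro _ ⟨u, hu, rfl⟩
      exact mem_inf.2 ⟨hH u hu, mul_mem (conj_mem (nU w hw) hu) (inv_mem hu)⟩)
    have k2 : (Ub C b).map φ ≤ normalizer (J₀ : Set G) := fun v hv => SLE.norm_closure (by
      rintro _ ⟨u, hu, rfl⟩
      rw [show v * (w * u * w⁻¹ * u⁻¹) * v⁻¹ = (w * v * w⁻¹ * v⁻¹)⁻¹ * (w * (v * u) * w⁻¹ * (v * u)⁻¹) by group]
      exact mul_mem (inv_mem (subset_closure ⟨v, hv, rfl⟩)) (subset_closure ⟨_, mul_mem hv hu, rfl⟩))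
    rcases h.toMod.normal_Ub hb (J := J₀.comap φ ⊓ Ub C b) inf_le_right (fun u hu =>
      mem_normalizer_fintype fun x hx => mem_inf.2 ⟨by
        have := conj_mem (k2 ⟨u, hu, rfl⟩) hx.1
        rwa [← map_inv, ← map_mul, ← map_mul] at this,
        mul_mem (mul_mem hu (mem_inf.1 hx).2) (inv_mem hu)⟩) with k3 | k3
    · obtain ⟨q, hq, c, hc, rfl⟩ := h.cV e0 he (hN hw.2) fun u hu => by
        have m : w * u * w⁻¹ * u⁻¹ ∈ J₀ := subset_closure ⟨u, QU hu, rfl⟩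
        obtain ⟨x, hx, ex⟩ := (k1 m).2
        exact ⟨x, h1 ▸ k3 (mem_inf.2 ⟨by rw [mem_comap, ex]; exact m, hx⟩), ex⟩
      refine (h.PrdC_le_or k.h₁ hq fun u hu => ?_).imp_right fun hz => mul_mem ?_ (centralizer_le (map_le_range _ _) hc)
      · have := hH u (QU hu)
        rwa [mul_assoc q, ← mem_cent.1 hc u (map_le_range _ _ hu),
          show q * (u * c) * (q * c)⁻¹ * u⁻¹ = q * u * q⁻¹ * u⁻¹ by group] at this
      · rw [← h1, ← h.PrdC_Z hb] at hz
        exact hz.2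
    · left
      rintro _ ⟨x, hx, rfl⟩
      exact (k1 (k3 (h1 ▸ hx)).1).1
  · obtain ⟨α, γ, a, ea⟩ := gal w hw n
    obtain ⟨α', γ', a', ea'⟩ := gal w' hw' n'
    have := h.act_mul a a'
    rw [show α * α' = 1 from RingEquiv.ext fun c => by rw [RingAut.mul_apply, ea, ea', P.σσ]; rfl] at this
    exact inn _ (mul_mem hw.1 hw'.1) _ this
  · obtain ⟨α, γ, a, ea⟩ := gal w hw n
    have i' : ∀ x ∈ Ub C b, ∀ x' ∈ Ub C b, x ∉ J.comap φ ⊓ Ub C b → x' ∉ J.comap φ ⊓ Ub C b →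
        x * x' ∈ J.comap φ ⊓ Ub C b := fun x hx x' hx' n n' => mem_inf.2 ⟨by
      rw [mem_comap, map_mul]
      exact i _ ⟨x, hx, rfl⟩ _ ⟨x', hx', rfl⟩ (fun e => n ⟨e, hx⟩) fun e => n' ⟨e, hx'⟩, mul_mem hx hx'⟩
    have hn : ∀ u ∈ Ub C b, ∀ u', (∀ v, C.act u' (γ v) = γ (C.act u v)) → u' ∈ Ub C b := fun u hu u' e => by
      obtain ⟨x, hx, ex⟩ := conj_mem (nU w hw.1) ⟨u, hu, rfl⟩
      obtain ⟨n, hn⟩ := h.toMod.Ub_two hb ⟨u, hu⟩
      have p : ∀ n : ℕ, ∀ v, C.act (u' ^ n) (γ v) = γ (C.act (u ^ n) v) := fun n => by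
        induction n with
        | zero => intro v; rw [pow_zero, pow_zero, C.one_apply, C.one_apply]
        | succ n ih => intro v; rw [pow_succ, pow_succ, C.mul_apply, C.mul_apply, e, ih]
      have p2 : u' ^ 2 ^ n = 1 := C.ext fun v => by
        obtain ⟨v, rfl⟩ := γ.surjective v
        rw [p, show u ^ 2 ^ n = 1 from congrArg Subtype.val hn, C.one_apply, C.one_apply]
      rwa [h.PrdC_eq (Tech.isPGroup_zpowers_of_pow p2) (SLE.pg_zpowers (h.toMod.Ub_two hb) hx)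
        ((a.conj u u' e).symm.trans ex.symm)]
    refine ⟨?_, ?_⟩
    · rw [← map_commutator]
      refine (map_mono (h.toMod.gr1 hb hq inf_le_right i')).trans ?_
      rw [map_commutator]
      have : (J.comap φ ⊓ Ub C b).map φ ≤ J := map_le_iff_le_comap.2 inf_le_left
      exact commutator_mono this this
    · obtain ⟨u, hu, u', e, ne⟩ := h.toMod.gr2 hb hq inf_le_right i' a.toSI ea fun u hu => by
        obtain ⟨u', e⟩ := h.toMod.exists_conj a.toSI u
        exact ⟨u', hn u hu u' e, e⟩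
      refine ⟨φ u, hu.1, fun m => ne ?_⟩
      rw [← map_commutator, a.conj u u' e, ← map_inv, ← map_mul] at m
      obtain ⟨d, hd, ed⟩ := m
      rwa [← h.inj_two (h.toMod.Ub_two hb) (UFP.comm_le_self _ hd) (mul_mem (hn u hu.2 u' e) (inv_mem hu.2)) ed]

namespace DblP

variable {y : V → K → G} {c : K} {φ₁ φ₂ : S →* G} (h : DblP C φ t y c φ₁ φ₂) {Gs : Subgroup G}
include h

theorem conj_map (A : Subgroup S) : MulAut.conj t • A.map φ₁ = A.map φ₂ := by
  ext x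
  rw [Coprime.mem_conj_smul_iff]
  constructor
  · rintro ⟨s, hs, e⟩
    exact ⟨s, hs, by rw [← h.tc, e]; group⟩
  · rintro ⟨s, hs, rfl⟩
    exact ⟨s, hs, by rw [← h.tc]; group⟩

theorem prdL (hG : SLE.Glob Gs t) (hL : φ.range ≤ Gs) {b : Basis (Fin (finrank K V)) K V}
    (hb : Bas P b) : ∃ T, T ⊓ φ₁.range = (Ub C b).map φ₁ ∧
    UFP.PrdL (normalizer (G0 C φ y : Set G))
      (normalizer (G0 C φ y : Set G) ⊓ normalizer (φ₁.range : Set G))
      (normalizer (G0 C φ y : Set G) ⊓ centralizer (φ₂.range : Set G))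
      (normalizer (G0 C φ y : Set G) ⊓ centralizer (φ₁.range : Set G)) T φ₁.range t := by
  have : Fact (Nat.Prime 2) := ⟨Nat.prime_two⟩
  have M := h.toMod
  have U2 := M.Ub_two hb
  obtain ⟨T, h0, h1, hT, syl⟩ := SLE.exists_syl ((pgroup_zpowers_of_sq h.t2).to_sup_of_normal_right'
    (SLE.pg_sup_comm (U2.map φ₁) (U2.map φ₂) fun _ hp _ hq => h.cm (map_le_range _ _ hp) (map_le_range _ _ hq))
    (zpowers_le.2 (norm_sup
      (fun p hp => mem_sup_right ((h.conj_map _).le (Coprime.conj_mem_conj_smul hp)))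
      fun p hp => mem_sup_left ((h.symm.conj_map _).le (Coprime.conj_mem_conj_smul hp)))))
    (sup_le (zpowers_le.2 h.toHL.t_norm)
      (sup_le ((map_le_range _ _).trans h.L1_le) ((map_le_range _ _).trans h.symm.L1_le)))
  have eq := h.emb₁.PrdC_inf hb hT ((le_sup_left.trans le_sup_right).trans h0)
  obtain ⟨e, f, e', f', k, f1, f2⟩ := M.exists_flag hb
  have he := k.h₁.se.self_eq
  refine ⟨T, eq, h.swap, hT, h1, h0 (mem_sup_left (mem_zpowers t)), fun k => h.t_not_norm k.2, syl,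
    le_inf h.L1_le h.symm.c21, inf_le_right, inf_le_right, ?_, ?_⟩ <;> rw [eq]
  · have AU : Rad C (flag b 1) ⊓ C.fixG (P.perp (flag b 2)) ≤ Ub C b := inf_le_left.trans (M.rad_le_Ub hb).1
    have k1 := M.tok0 he (map_one σ)
    have m1 : e ∈ span K ({e, e'} : Set V) := Submodule.subset_span (.inl rfl)
    have m2 : e' ∈ span K ({e, e'} : Set V) := Submodule.subset_span (.inr rfl)
    have a1 : C.T e 0 1 ∈ Rad C (flag b 1) ⊓ C.fixG (P.perp (flag b 2)) := by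
      rw [f1, f2]
      exact ⟨M.T_mem_rad k.PrdC_ti1 k1 (Submodule.mem_span_singleton_self e) (zero_mem _),
        M.T_mem_E k.PrdC_ti2 k1 m1 (zero_mem _)⟩
    have a2 : C.T e e' 0 ∈ Rad C (flag b 1) ⊓ C.fixG (P.perp (flag b 2)) := by
      rw [f1, f2]
      exact ⟨k.PrdC_rad M, M.T_mem_E k.PrdC_ti2 (k.PrdC_ok M) m1 m2⟩
    have ne : ∀ s ∈ Ub C b, C.act s f' = f' → φ₁ s ≠ φ₁ (C.T e e' 0) := fun s hs e1 e2 => by
      rw [h.emb₁.inj_two U2 hs (AU a2) e2, k.PrdC_app M, add_eq_left] at e1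
      exact k.PrdC_ne e1
    refine ⟨_, map_mono AU, fun g hg => h.emb₁.PrdC_char hb (eq ▸ norm_inf (le_normalizer hg.1) hg.2.2) AU
      fun θ s => (M.char_Ub hb θ s).2.2, ?_, _, ⟨_, a1, rfl⟩, _, ⟨_, a2, rfl⟩,
      fun e1 => ((h.emb₁.z_eq_one he (map_one σ)).1 e1).elim k.PrdC_ne one_ne_zero,
      fun e1 => ne 1 (one_mem _) (C.one_apply _) (by rw [map_one, e1]),
      ne _ (AU a1) (C.T_fix k1 k.ef (by simp))⟩
    rintro _ ⟨s, hs, rfl⟩
    rw [← map_mul, M.E_sq k.PrdC_ti2 (f2 ▸ hs.2), map_one]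
  · refine (h.toHL.uw hG hL (h.not_mem hG) (h.isU hG hL) he k.h₂.se.self_eq k.ee k.PrdC_ne k.PrdC_nm).mono ?_
    rw [h.conj_map, ← f1, ← f2]
    refine (sup_le (map_mono (M.rad_le_Ub hb).1) (map_mono (M.rad_le_Ub hb).2)).trans ?_
    rintro _ ⟨s, hs, rfl⟩
    exact ⟨h.ext s ▸ mul_mem_sup ⟨s, hs, rfl⟩ ⟨s, hs, rfl⟩, mem_cent1.2 (h.toSit.tφ s).eq.symm⟩

/-- **V** -/
theorem false (hG : SLE.Glob Gs t) (hL : φ.range ≤ Gs) : False := by
  have H := h.emb₁
  have M := h.toMod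
  have ht := h.not_mem hG
  have hu := h.isU hG hL
  have s1 := hG.pf_le H.perf
  have s2 := hG.pf_le h.emb₂.perf
  obtain ⟨b, hb⟩ := M.exists_bas
  obtain ⟨T, eq, d⟩ := h.prdL hG hL hb
  obtain ⟨e, f, e', f', k, f1, f2⟩ := M.exists_flag hb
  have he := k.h₁.se.self_eq
  have he' := k.h₂.se.self_eq
  have e0 := k.PrdC_ne
  have x1 : ∀ {ψ : S →* G}, Emb C ψ → z C ψ e 1 ≠ 1 := fun E e1 =>
    ((E.z_eq_one he (map_one σ)).1 e1).elim e0 one_ne_zero
  have xm : ∀ ψ : S →* G, z C ψ e 1 ∈ ψ.range := fun ψ => ⟨_, rfl⟩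
  have h2 : Gs ≤ normalizer (G0 C φ y : Set G) := UFP.le_of_invol hG.simple (s1 (xm _)) (x1 H)
    (H.z_sq he (map_one σ)) fun u us u2 => by
    have cC : ∀ {g x c : G}, g ∈ normalizer (G0 C φ y : Set G) → x ∈ φ₁.range → c ∈ centralizer (φ₁.range : Set G) →
        g = x * c → c ∈ normalizer (G0 C φ y : Set G) ⊓ centralizer (φ₁.range : Set G) := fun hg hx hc k =>
      ⟨(mul_mem_cancel_left (h.L1_le hx)).1 (k ▸ hg), hc⟩
    by_cases hq : Small σ
    · obtain ⟨ty, hty⟩ := H.exists_ty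
      have mem : ∀ {g : G} {α γ}, Act C φ₁ g α γ → (g ∈ ty.ker.map (normalizer (φ₁.range : Set G)).subtype ↔ α = 1) :=
        fun {g α γ} a => by
          rw [← hty ⟨g, H.act_mem a⟩ α γ a]
          exact mem_map_iff_mem (f := (normalizer (φ₁.range : Set G)).subtype) (subtype_injective _)
            (x := ⟨g, H.act_mem a⟩)
      have gal : ∀ α : RingAut K, α ≠ 1 → ∀ c, α c = σ c := fun α hα => (M.aut_fix fun c hc => by
        rcases hq c hc with rfl | rfl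
        exacts [map_zero α, map_one α]).resolve_left hα
      refine d.mem hu (hG.index ht) ht hG.perf s1 (K := ty.ker.map (normalizer (φ₁.range : Set G)).subtype) ?_
        (fun g hg => (mem (H.act_cent hg.2)).2 rfl) (fun g hg g' hg' n n' => ?_) (fun g hg m => ?_) us u2
      · rintro _ ⟨l, rfl⟩
        exact (mem (H.act_self l)).2 rfl
      · obtain ⟨α, γ, a⟩ := H.exists_act hg.2
        obtain ⟨α', γ', a'⟩ := H.exists_act hg'.2
        refine (mem (H.act_mul a a')).2 (RingEquiv.ext fun c => ?_)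
        rw [RingAut.mul_apply, gal α (fun e => n ((mem a).2 e)), gal α' (fun e => n' ((mem a').2 e)), P.σσ]; rfl
      · obtain ⟨α, γ, a⟩ := H.exists_act hg.2.2
        obtain rfl := (mem a).1 m
        rw [eq]
        exact H.PrdC_inn hb d.Sp inf_le_right eq (inf_le_inf_right _ inf_le_left) d.L1N hg a
    have nR : ∀ (U : Submodule K V) {l : S}, l ∈ Stb C U → φ₁ l ∈ normalizer (Rg C φ₁ U : Set G) := fun U l hl =>
      le_normalizer_map φ₁ ⟨l, (M.stb_norm U hl).1.2, rfl⟩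
    refine UFP.NUData.mem (R := fun i : Bool => Rg C φ₁ (flag b (bif i then 1 else 2)))
      ⟨d, ?_, fun g g1 g2 => ?_, ?_, ?_, ?_, fun j g hg _ hc => ?_, fun J hJ => ?_, ?_⟩ hu (hG.index ht) ht us u2
    · rw [eq]; exact H.side hq hb d.Sp inf_le_right eq (inf_le_inf_right _ inf_le_left) inf_le_right d.L1N
    · rw [h.conj_t] at g2
      rw [← h.eqG]
      exact norm_sup (fun p hp => mem_sup_left (conj_mem g1 hp)) fun p hp => mem_sup_right (conj_mem g2 hp)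
    · rw [eq]
      refine fun J hJ => map_le_iff_le_comap.2 (M.fpf hb hq fun l hl u hu => ?_)
      simpa only [mem_comap, map_mul, map_inv] using
        hJ _ ⟨⟨l, rfl⟩, le_normalizer_map φ₁ ⟨l, hl, rfl⟩⟩ _ ⟨u, hu, rfl⟩
    · rw [eq]; rintro (_ | _); exacts [map_mono (M.rad_le_Ub hb).2, map_mono (M.rad_le_Ub hb).1]
    · rw [eq]; rintro j _ ⟨s, hs, rfl⟩; exact nR _ (M.Ub_le_stb hb _ hs)
    · cases j
      · simp only [cond_false, f2] at hc ⊢
        obtain ⟨x, hx, c, m, rfl⟩ := H.cR k.PrdC_ti2 (by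
          have := finrank_span_eq_card k.PrdC_li
          rw [Matrix.range_cons, Matrix.range_cons, Matrix.range_empty, Set.union_empty, Set.singleton_union] at this
          simp [this]) hg.2 hc
        exact mul_mem_sup (map_mono (M.E_le_rad k.PrdC_ti2) hx) (cC hg.1 (map_le_range _ _ hx) m rfl)
      · simp only [cond_true, f1] at hc ⊢
        obtain ⟨r, hr, c, m, rfl⟩ := H.cQ e0 he hg.2 hc
        exact mul_mem_sup ((H.mem_Q e0 he).2 ⟨0, r, M.tok0 he hr, rfl⟩) (cC hg.1 ⟨_, rfl⟩ m rfl)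
    · rw [eq] at hJ
      have cj : ∀ (j : Bool) (l : S), l ∈ Stb C (flag b (bif j then 1 else 2)) → ∀ u ∈ Ub C b,
          l * u * l⁻¹ ∈ J.comap φ₁ := fun j l hl u hu => by
        simpa only [mem_comap, map_mul, map_inv] using hJ j _ ⟨⟨l, rfl⟩, nR _ hl⟩ _ ⟨u, hu, rfl⟩
      have k0 : Ub C b ≤ J.comap φ₁ := fun x hx => by simpa using cj true 1 (one_mem _) x hx
      have q1 : ∀ {a c}, TOk P e a c → C.T e a c ∈ Ub C b := fun kk => (M.rad_le_Ub hb).1 (f1 ▸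
        M.T_mem_rad k.PrdC_ti1 kk (Submodule.mem_span_singleton_self e) (P.mem_perp_span_singleton.2 kk.perp))
      have q2 : ∀ l : K, TOk P e (l • f') 0 := fun l => M.tok1 he
        (by simp [k.h₂.sf.self_eq]) (by simp [k.ef]) (map_zero σ)
      rw [MonoidHom.range_eq_map, map_le_iff_le_comap]
      refine (M.gen_line k (fun p s hp ep hs => ?_) (fun l => k0 (q1 (q2 l))) fun l => ?_).ge
      · by_cases m : p ∈ span K {e}
        · exact k0 ((M.rad_le_Ub hb).1 (f1 ▸ M.T_mem_rad k.PrdC_ti1 (M.tok0 hp hs) m (zero_mem _)))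
        obtain ⟨l, μ, hμ, l1, l2⟩ := M.trans_line e0 he he' hp k.ee ep k.PrdC_nm m
        have := cj true l (f1 ▸ fix_le_stb _ (C.mem_fixG.2 fun v hv => by
          obtain ⟨a, rfl⟩ := Submodule.mem_span_singleton.1 hv
          rw [map_smul, l1])) _ ((M.rad_le_Ub hb).2 (f2 ▸ M.T_mem_rad k.PrdC_ti2 (M.tok0 he' hs)
            (Submodule.subset_span (.inr rfl)) (zero_mem _)))
        rwa [C.T_conj l (M.tok0 he' hs), l2, map_zero, C.T_smul_left (M.tok0 hp hs), smul_zero, mul_comm μ, hμ,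
          one_mul] at this
      · obtain ⟨j, j1, j2, j3, j4, -⟩ := M.exists_swap k
        have hj : ∀ v ∈ span K ({e, e'} : Set V), C.act j v ∈ span K ({e, e'} : Set V) := fun v hv => by
          obtain ⟨a, a', rfl⟩ := Submodule.mem_span_pair.1 hv
          exact Submodule.mem_span_pair.2 ⟨a', a, by rw [map_add, map_smul, map_smul, j1, j2, add_comm]⟩
        have := cj Bool.false j (by
          simp only [cond_false, f2]
          refine fun v => ⟨fun hv => ?_, hj v⟩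
          obtain ⟨a, a', e1⟩ := Submodule.mem_span_pair.1 hv
          refine Submodule.mem_span_pair.2 ⟨a', a, (C.act j).injective ?_⟩
          rw [map_add, map_smul, map_smul, j1, j2, add_comm, e1]) _ (q1 (q2 l))
        rwa [C.T_conj j (q2 l), j1, map_smul, j4] at this
    · rw [eq]
      rintro δ hδ - - (_ | _)
      · exact H.PrdC_char hb hδ (M.rad_le_Ub hb).2 fun θ s => (M.char_Ub hb θ s).2.1
      · exact H.PrdC_char hb hδ (M.rad_le_Ub hb).1 fun θ s => (M.char_Ub hb θ s).1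
  have e1 : G0 C φ y = Gs := hG.eq_of_norm (h.eqG ▸ sup_le s1 s2) h2 (h.le1 (xm _)) (x1 H)
  exact h.ne ((hG.eq_of_norm s1 (e1 ▸ h.norm1) (xm _) (x1 H)).trans
    (hG.eq_of_norm s2 (e1 ▸ h.symm.norm1) (xm _) (x1 h.emb₂)).symm)

end DblP

end CfsgLib.UN
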