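import Cfsg.Agent.Lib.UN.LineB

/-! Involutions over the transvections, additive form -/

set_option autoImplicit false
set_option linter.unusedSectionVars false

namespace CfsgLib.UN

open Subgroup Module CfsgLib.Forms CfsgLib.LieMult
open CfsgLib.HX (Std CO Two Mv Tr LR Heis NF Fus4 Has4 M2)
open Submodule (span)
open scoped commutatorElement Pointwise

universe u

variable {K : Type} [Field K] [Finite K] {σ : K →+* K} {V : Type} [AddCommGroup V] [Module K V]
  [FiniteDimensional K V] {P : PQ σ V} {S : Type} [Group S] [Finite S] {G : Type u} [Group G]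
  [Finite G] {C : CG P S} {φ : S →* G} {t : G}

theorem inv_abs {A : Type*} [AddCommGroup A] {Z Z' B : K → A} {M : K → A → Prop} {N : K → A →+ A}
    {τ d : A →+ A} {l : K} {a₀ : A} (h : Mod C)
    (Za : ∀ r s, σ r = r → σ s = s → Z (r + s) = Z r + Z s)
    (Za' : ∀ r s, σ r = r → σ s = s → Z' (r + s) = Z' r + Z' s) (Ba : ∀ u v, B (u + v) = B u + B v)
    (inj : ∀ r v r', σ r = r → σ r' = r' → Z r + B v + Z' r' = 0 → r = 0 ∧ v = 0 ∧ r' = 0)
    (ker : ∀ a, τ a = a → ∃ r v r', σ r = r ∧ σ r' = r' ∧ a = Z r + B v + Z' r')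
    (τZ' : ∀ r, σ r = r → τ (Z' r) = Z' r)
    (Mex : ∀ s, σ s = s → ∃ y, M s y) (Mτ : ∀ s y, M s y → τ y = y + Z s)
    (Madd : ∀ s y s' y', M s y → M s' y' → M (s + s') (y + y'))
    (Mu : ∀ s y y', M s y → M s y' → ∃ r, σ r = r ∧ y' = y + Z r) (MZ : ∀ r, σ r = r → M 0 (Z r))
    (MN : ∀ u s y, M s y → N u y = y) (Md : ∀ s y, M s y → M (l * l * s) (d y))
    (τa : τ a₀ = a₀ + B 1) (Nτ : ∀ u a, τ (N u a) = N u (τ a)) (Na : ∀ u u' a, N (u + u') a = N u (N u' a))
    (N0 : ∀ a, N 0 a = a) (dN : ∀ u a, d (N u a) = N (l * l * u) (d a)) (dτ : ∀ a, τ (d a) = d (τ a))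
    (NB : ∀ u v, N u (B v) = B v + Z (v * u + σ (v * u)))
    (NZ' : ∀ u r, σ r = r → N u (Z' r) = Z' r + Z (σ u * u * r) + B (σ u * r))
    (dB : ∀ v, d (B v) = B v) (dZ' : ∀ r, σ r = r → d (Z' (l * l * r)) = Z' r)
    (hl : σ l = l) (l1 : l ≠ 1) {s : K} (hs : σ s = s) : ∃ y, M s y ∧ y + y = 0 := by
  have σσ := P.σσ
  have k2 := h.add_self
  have two : (2 : K) = 0 := h.two
  have Z0 : Z 0 = 0 := by simpa using Za 0 0 (map_zero σ) (map_zero σ)
  have Z0' : Z' 0 = 0 := by simpa using Za' 0 0 (map_zero σ) (map_zero σ)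
  have B0 : B 0 = 0 := by simpa using Ba 0 0
  have Z2 : ∀ r, σ r = r → Z r + Z r = 0 := fun r hr => by rw [← Za _ _ hr hr, k2, Z0]
  have Z2' : ∀ r, σ r = r → Z' r + Z' r = 0 := fun r hr => by rw [← Za' _ _ hr hr, k2, Z0']
  have B2 : ∀ v, B v + B v = 0 := fun v => by rw [← Ba, k2, B0]
  have fN : ∀ u s, σ s = s → σ (σ u * u * s) = σ u * u * s := fun u s hs => by
    rw [map_mul, map_mul, σσ, hs]; ring
  have fT : ∀ v, σ (v + σ v) = v + σ v := fun v => by rw [map_add, σσ, add_comm]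
  have fa : ∀ {r s}, σ r = r → σ s = s → σ (r + s) = r + s := fun hr hs => by rw [map_add, hr, hs]
  have ν : 1 + l * l ≠ 0 := fun e => l1 (h.eq_one_of_sq (by linear_combination e - two))
  have NZ : ∀ u r, σ r = r → N u (Z r) = Z r := fun u r hr => MN _ _ _ (MZ r hr)
  have MZ' : ∀ s y r, M s y → σ r = r → M s (y + Z r) := fun s y r k hr => by
    simpa using Madd _ _ _ _ k (MZ r hr)
  have uq : ∀ s y y' v v', M s y → M s y' → y + B v = y' + B v' → v = v' := fun s y y' v v' k k' e => by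
    obtain ⟨r, hr, rfl⟩ := Mu _ _ _ k k'
    have := (inj r (v + v') 0 hr (map_zero σ) (by
      rw [Ba, Z0']; linear_combination (norm := abel1) -e + B2 v)).2.1
    linear_combination this - v' * two
  obtain ⟨a, τa', r, v, hr, da⟩ : ∃ a, τ a = a + B 1 ∧ ∃ r v, σ r = r ∧ d a = a + Z r + B v := by
    obtain ⟨r, v, r', hr, hr', e⟩ := ker (d a₀ - a₀) (by rw [map_sub, dτ, τa, map_add, dB]; abel)
    obtain ⟨c, rfl⟩ : ∃ c, r' = (1 + l * l) * c := ⟨r' / _, (mul_div_cancel₀ _ ν).symm⟩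
    have hc : σ c = c := mul_left_cancel₀ ν (by simpa [hl] using hr')
    have hc' : σ (l * l * c) = l * l * c := by simp [hl, hc]
    refine ⟨a₀ + Z' (l * l * c), by rw [map_add, τa, τZ' _ hc']; abel, r, v, hr, ?_⟩
    rw [add_mul, one_mul, Za' _ _ hc hc'] at e
    rw [map_add, dZ' _ hc]
    linear_combination (norm := abel1) e + Z2' c hc
  have ex : ∀ u, ∃ y β, M (u + σ u) y ∧ N u a = a + y + B β := fun u => by
    by_cases u0 : u = 0
    · exact ⟨0, 0, by simpa [u0, Z0] using MZ 0 (map_zero σ), by simp [u0, N0, B0]⟩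
    obtain ⟨y, hy⟩ := Mex _ (fT u)
    obtain ⟨r, v, r', hr, hr', e⟩ := ker (N u a - a - y) (by
      rw [map_sub, map_sub, Nτ, τa', map_add, NB, one_mul, Mτ _ _ hy]; abel)
    have e1 := congrArg (N u) e
    rw [map_sub, map_sub, ← Na, k2, N0, MN _ _ _ hy, map_add, map_add, NZ _ _ hr, NB, NZ' _ _ hr'] at e1
    obtain ⟨c, hc, e2⟩ := Mu _ _ _ (MZ 0 (map_zero σ)) (k2 _ ▸ Madd _ _ _ _ hy hy)
    have e3 := (inj (c + (v * u + σ (v * u)) + σ u * u * r') (σ u * r') 0 (fa (fa hc (fT _)) (fN _ _ hr'))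
      (map_zero σ) (by
        rw [Za _ _ (fa hc (fT _)) (fN _ _ hr'), Za _ _ hc (fT _), Z0']
        linear_combination (norm := abel1) -e - e1 - e2 - Z0 - Z2 r hr - B2 v - Z2' r' hr')).2.1
    rw [(mul_eq_zero.1 e3).resolve_left ((map_ne_zero σ).2 u0), Z0'] at e
    exact ⟨_, v, MZ' _ _ r hy hr, by linear_combination (norm := abel1) e⟩
  choose y β hy hN using ex
  have βa : ∀ u u', β (u + u') = β u + β u' := fun u u' => by
    have e := Na u u' a
    rw [hN, hN u', map_add, map_add, hN, MN _ _ _ (hy _), NB] at e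
    have k := MZ' _ _ _ (Madd _ _ _ _ (hy u) (hy u')) (fT (β u' * u))
    rw [add_add_add_comm, ← map_add] at k
    exact uq _ _ _ _ _ (hy _) k (by rw [Ba]; linear_combination (norm := abel1) e)
  have βd : ∀ u, β (l * l * u) = β u := fun u => by
    have e := dN u a
    rw [hN, map_add, map_add, da, dB, map_add, map_add, hN, NZ _ _ hr, NB] at e
    have k := Md _ _ (hy u)
    rw [show l * l * (u + σ u) = l * l * u + σ (l * l * u) by simp [hl, mul_add]] at k
    exact uq _ _ _ _ _ (MZ' _ _ _ (hy _) (fT (v * (l * l * u)))) k (by linear_combination (norm := abel1) -e)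
  obtain ⟨θ, hθ⟩ := h.herm.exists_trace_one
  obtain ⟨u, hu⟩ : ∃ u, θ * s = (1 + l * l) * u := ⟨θ * s / _, (mul_div_cancel₀ _ ν).symm⟩
  have e := congrArg (N (θ * s)) (hN (θ * s))
  have b0 : β (θ * s) = 0 := by rw [hu, add_mul, one_mul, βa, βd, k2]
  rw [← Na, k2, N0, b0, B0, add_zero, map_add, hN, b0, B0, MN _ _ _ (hy _)] at e
  refine ⟨y (θ * s), ?_, by linear_combination (norm := abel1) -e⟩
  have := hy (θ * s)
  rwa [map_mul, hs, ← add_mul, hθ, one_mul] at this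

end CfsgLib.UN
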