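import Cfsg.Agent.Lib.UN.PreA0

/-! Two-elements over the transvections -/

set_option autoImplicit false
set_option linter.unusedSectionVars false

namespace CfsgLib.UN

open Subgroup Module CfsgLib.Forms CfsgLib.LieMult
open CfsgLib.HX (Std CO Two Mv Tr LR Heis NF Fus4 Has4 M2)
open Submodule (span)
open scoped commutatorElement Pointwise

universe u

variable {K : Type} [Field K] [Finite K] {σ : K →+* K} {V : Type} [AddCommGroup V] [Module K V]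
  [FiniteDimensional K V] {P : PQ σ V} {S : Type} [Group S] [Finite S] {G : Type u} [Group G]
  [Finite G] {C : CG P S} {φ : S →* G} {t : G}

namespace PA

variable (C φ) in
/-- normal form in `E(l)` -/
def nf (e e' : V) (r v r' : K) : G := z C φ e r * x C φ e (v • e') 0 * z C φ e' r'

section Nf

variable (h : Emb C φ) {e f e' f' : V} (k : HH P e f e' f') {r v r' s u s' : K}

theorem hh_ti (k : HH P e f e' f') : TI P (span K {e, e'}) :=
  ti_span.2 (by simp [k.h₁.se.self_eq, k.h₂.se.self_eq, k.ee, k.symm.ee])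

include h k

theorem tokB (v : K) : TOk P e (v • e') 0 :=
  h.toMod.tok1 k.h₁.se.self_eq (by simp [k.h₂.se.self_eq]) (by simp [k.ee]) (map_zero σ)

theorem mem_nf {g : G} : g ∈ Eg C φ (span K {e, e'}) ↔
    ∃ r v r', σ r = r ∧ σ r' = r' ∧ g = nf C φ e e' r v r' := by
  simp only [Eg, mem_map, h.toMod.mem_E_line k, nf, z, x, ← map_mul]
  exact ⟨fun ⟨_, ⟨r, v, r', a, b, c⟩, d⟩ => ⟨r, v, r', a, b, c ▸ d.symm⟩,
    fun ⟨r, v, r', a, b, c⟩ => ⟨_, ⟨r, v, r', a, b, rfl⟩, c.symm⟩⟩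

theorem nf_inj (hr : σ r = r) (hr' : σ r' = r') (hs : σ s = s) (hs' : σ s' = s')
    (e1 : nf C φ e e' r v r' = nf C φ e e' s u s') : r = s ∧ v = u ∧ r' = s' := by
  have m := h.toMod
  simp only [nf, z, x, ← map_mul] at e1
  exact m.E_line_inj k hr hr' hs hs' (h.inj_two (m.rad_two (hh_ti k))
    (m.E_le_rad (hh_ti k) ((m.mem_E_line k).2 ⟨_, _, _, hr, hr', rfl⟩))
    (m.E_le_rad (hh_ti k) ((m.mem_E_line k).2 ⟨_, _, _, hs, hs', rfl⟩)) e1)

theorem b_add (u v : K) : x C φ e ((u + v) • e') 0 = x C φ e (u • e') 0 * x C φ e (v • e') 0 := by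
  rw [x, x, x, ← map_mul, C.T_mul (tokB h k _) (tokB h k _), add_smul]; simp [k.h₂.se.self_eq]

theorem nf_zero : nf C φ e e' 0 0 0 = 1 := by
  simp only [nf, z, x, zero_smul, C.T_zero k.h₁.se, C.T_zero k.h₂.se, map_one, mul_one]

theorem nf_z (r : K) : nf C φ e e' r 0 0 = z C φ e r := by
  simp only [nf, z, x, zero_smul, C.T_zero k.h₁.se, C.T_zero k.h₂.se, map_one, mul_one]

theorem nf_b (v : K) : nf C φ e e' 0 v 0 = x C φ e (v • e') 0 := by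
  simp only [nf, z, C.T_zero k.h₁.se, C.T_zero k.h₂.se, map_one, mul_one, one_mul]

theorem nf_z' (r : K) : nf C φ e e' 0 0 r = z C φ e' r := by
  simp only [nf, z, x, zero_smul, C.T_zero k.h₁.se, map_one, one_mul]

theorem E_comm {a b : G} (ha : a ∈ Eg C φ (span K {e, e'})) (hb : b ∈ Eg C φ (span K {e, e'})) :
    Commute a b := by
  obtain ⟨a, ha, rfl⟩ := ha
  obtain ⟨b, hb, rfl⟩ := hb
  exact Commute.map (h.toMod.E_cent (hh_ti k) hb a (rad_le_fix _ (h.toMod.E_le_rad (hh_ti k) ha))) φ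

theorem nf_mul (hr : σ r = r) (hr' : σ r' = r') (hs : σ s = s) (hs' : σ s' = s') :
    nf C φ e e' r v r' * nf C φ e e' s u s' = nf C φ e e' (r + s) (v + u) (r' + s') := by
  have z0 := map_zero σ
  have a1 := (mem_nf h k).2 ⟨_, _, _, hs, z0, (nf_z h k s).symm⟩
  have a2 := fun v => (mem_nf h k).2 ⟨_, _, _, z0, z0, (nf_b h k v).symm⟩
  have a3 := (mem_nf h k).2 ⟨_, _, _, z0, hr', (nf_z' h k r').symm⟩
  simp only [nf, h.z_add k.h₁.se.self_eq hr hs, h.z_add k.h₂.se.self_eq hr' hs', b_add h k, mul_assoc]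
  rw [(E_comm h k a3 a1).left_comm, (E_comm h k a3 (a2 _)).left_comm, (E_comm h k (a2 _) a1).left_comm]

theorem nf_symm (hr : σ r = r) (hr' : σ r' = r') : nf C φ e' e r' v r = nf C φ e e' r (σ v) r' := by
  have z0 := map_zero σ
  have e1 : x C φ e' (v • e) 0 = x C φ e (σ v • e') 0 := by
    have := C.T_smul_left (tokB h k 1) v
    rw [one_smul, mul_zero] at this
    rw [x, h.toMod.T_symm k.h₂.se.self_eq (by simp [k.h₁.se.self_eq]) (by simp [k.symm.ee]), this, x]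
  rw [nf, e1, ← nf_z h k, ← nf_b h k, ← nf_z' h k, nf_mul h k z0 hr' z0 z0,
    nf_mul h k (by simp) (by simpa) hr z0]
  simp

theorem nf_conj {l : S} {a b : K} (h1 : C.act l e = a • e) (h2 : C.act l e' = b • e') (hr : σ r = r)
    (hr' : σ r' = r') : φ l * nf C φ e e' r v r' * (φ l)⁻¹ =
      nf C φ e e' (σ a * a * r) (σ a * b * v) (σ b * b * r') := by
  have := C.T_smul_left (tokB h k (v * b)) a
  rw [nf, nf, ← h.z_smul k.h₁.se.self_eq hr, ← h.z_smul k.h₂.se.self_eq hr', ← h1, ← h2,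
    ← h.z_conj l k.h₁.se.self_eq hr, ← h.z_conj l k.h₂.se.self_eq hr',
    show x C φ e ((σ a * b * v) • e') 0 = φ l * x C φ e (v • e') 0 * (φ l)⁻¹ by
      rw [h.x_conj l (tokB h k v), h1, map_smul, h2, smul_smul, x, x, this, smul_smul, mul_zero,
        mul_comm v, mul_assoc]]
  group

end Nf

variable (C φ t) in
/-- 2-elements over a transvection -/
structure Ov (p : V) (s : K) (g : G) : Prop where
  hs : σ s = s
  mv : Mv φ.range (Yg C φ (span K {p})) t (z C φ p s) g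
  two : IsPGroup 2 (zpowers g)

variable (C φ t) in
/-- those in the commutator group with the torus -/
def O1 (l : K) (p : V) (s : K) (g : G) : Prop := Ov C φ t p s g ∧ ∃ g₀ s₀ k r, Ov C φ t p s₀ g₀ ∧
  C.act k p = l • p ∧ σ r = r ∧ g = φ k * g₀ * (φ k)⁻¹ * g₀⁻¹ * z C φ p r

variable (h : Sit C φ t) (h2 : Two φ.range t) {p : V} (p0 : p ≠ 0) (hp : P.B p p = 0)
  {s s' r c l : K} {g g' : G} {k k' : S}

theorem Ov.fix (o : Ov C φ t p s g) (e : C.act k p = p) : Commute (φ k) g := o.mv.cY _ (HatP.fix_mem e)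

theorem Ov.same (o : Ov C φ t p s g) (e : C.act k p = C.act k' p) :
    φ k * g * (φ k)⁻¹ = φ k' * g * (φ k')⁻¹ := by
  have := (o.fix (k := k'⁻¹ * k) (by rw [C.mul_apply, e, C.inv_apply])).mul_inv_cancel
  rw [map_mul, map_inv] at this
  conv_rhs => rw [← this]
  group

include h hp

theorem Ov.cz (o : Ov C φ t p s g) (hr : σ r = r) : Commute (z C φ p r) g := o.mv.cY _ (h.z_Y hp hr)

theorem Ov.conj (o : Ov C φ t p s g) (k : S) : Ov C φ t (C.act k p) s (φ k * g * (φ k)⁻¹) :=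
  ⟨o.hs, h.z_conj k hp o.hs ▸ h.mv_conj k o.mv,
    HX.A2D.two_iff.2 (StdInt.two_conj _ (HX.A2D.two_iff.1 o.two))⟩

theorem Ov.smul (o : Ov C φ t (c • p) s g) (c0 : c ≠ 0) : Ov C φ t p (σ c * c * s) g :=
  ⟨HatP.nF c o.hs P, by
    simpa only [Submodule.span_singleton_smul_eq c0.isUnit, h.z_smul hp o.hs] using o.mv, o.two⟩

theorem O1.conj (o : O1 C φ t l p s g) (k : S) : O1 C φ t l (C.act k p) s (φ k * g * (φ k)⁻¹) := by
  obtain ⟨o, g₀, s₀, k', r, o₀, e1, hr, e2⟩ := o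
  refine ⟨o.conj h hp k, _, s₀, k * k' * k⁻¹, r, o₀.conj h hp k, ?_, hr, ?_⟩
  · rw [C.mul_apply, C.inv_apply, C.mul_apply, e1, map_smul]
  · rw [← h.z_conj k hp hr, e2, map_mul, map_mul, map_inv]; group

theorem O1.smul (o : O1 C φ t l (c • p) s g) (c0 : c ≠ 0) : O1 C φ t l p (σ c * c * s) g := by
  obtain ⟨o, g₀, s₀, k', r, o₀, e1, hr, e2⟩ := o
  refine ⟨o.smul h hp c0, _, _, k', _, o₀.smul h hp c0, ?_, HatP.nF c hr P, h.z_smul hp hr c ▸ e2⟩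
  rw [map_smul, smul_comm l] at e1
  exact smul_right_injective V c0 e1

theorem zE (hr : σ r = r) : z C φ p r ∈ Eg C φ (span K {p}) := (h.mem_Z hp).2 ⟨r, hr, rfl⟩

theorem t_mul (o : Ov C φ t p s g) : t * g = g * t * z C φ p s := by
  rw [mul_inv_eq_iff_eq_mul.1 o.mv.pt, mul_assoc, mul_assoc, ← (o.cz h hp o.hs).eq, ← mul_assoc (z _ _ _ _),
    h.z_sq hp o.hs, one_mul]

include p0

theorem Ov.uq (o : Ov C φ t p s g) (o' : Ov C φ t p s' g) : s = s' := by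
  have e := mul_left_cancel (o.mv.pt.symm.trans o'.mv.pt)
  have : z C φ p (s + s') = 1 := by rw [h.z_add hp o.hs o'.hs, e, h.z_sq hp o'.hs]
  rw [h.z_eq_one hp (by rw [map_add, o.hs, o'.hs])] at this
  linear_combination this.resolve_left p0 - s' * h.two

include h2

theorem td1 : TD φ.range (Rg C φ (span K {p})) (Eg C φ (span K {p})) t :=
  h.td h2 (ti_span.2 (by simpa)) (by simpa)

omit h2 p0 hp in
theorem Ov.tr (o : Ov C φ t p s g) : Tr φ.range (Rg C φ (span K {p})) t (z C φ p s) g :=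
  h.tr_of_mv (Submodule.mem_span_singleton_self p) o.mv o.two

theorem Ov.mul (o : Ov C φ t p s g) (o' : Ov C φ t p s' g') : Ov C φ t p (s + s') (g * g') := by
  have k := (td1 h h2 p0 hp).tr_mul (zE h hp o.hs) (zE h hp o'.hs) (o.tr h) (o'.tr h)
  exact ⟨by rw [map_add, o.hs, o'.hs], ⟨mul_mem o.mv.cY o'.mv.cY, h.z_add hp o.hs o'.hs ▸ k.tr, k.co⟩, k.two⟩

theorem Ov.inv (o : Ov C φ t p s g) : Ov C φ t p s g⁻¹ := by
  have k := (td1 h h2 p0 hp).tr_inv (zE h hp o.hs) (o.tr h)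
  exact ⟨o.hs, ⟨inv_mem o.mv.cY, k.tr, k.co⟩, k.two⟩

theorem Ov.zero (o : Ov C φ t p 0 g) : ∃ r, σ r = r ∧ (g = z C φ p r ∨ g = t * z C φ p r) := by
  rcases (td1 h h2 p0 hp).tr_one (HatP.z0 h.toEmb hp ▸ o.tr h) with k | k
  · obtain ⟨r, hr, e⟩ := (h.mem_Z hp).1 k
    exact ⟨r, hr, .inl e⟩
  · obtain ⟨r, hr, e⟩ := (h.mem_Z hp).1 k
    exact ⟨r, hr, .inr (by rw [← e, ← mul_assoc, h.t2, one_mul])⟩

theorem Ov.z (hr : σ r = r) : Ov C φ t p 0 (z C φ p r) := by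
  have k := (td1 h h2 p0 hp).tr_E (zE h hp hr)
  refine ⟨map_zero σ, ⟨?_, (HatP.z0 h.toEmb hp).symm ▸ k.tr, k.co⟩, k.two⟩
  rintro _ ⟨a, ha, rfl⟩
  rw [UN.z, ← map_mul, ← map_mul,
    h.toMod.E_cent (ti_span.2 (by simpa)) ((h.toMod.mem_E_pt hp).2 ⟨r, hr, rfl⟩) a ha]

theorem Ov.mulz (o : Ov C φ t p s g) (hr : σ r = r) : Ov C φ t p s (g * UN.z C φ p r) := by
  simpa using o.mul h h2 p0 hp (Ov.z h h2 p0 hp hr)

theorem Ov.cm (o : Ov C φ t p s g) (e : C.act k p = c • p) (c0 : c ≠ 0) :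
    Ov C φ t p (σ c * c * s + s) (φ k * g * (φ k)⁻¹ * g⁻¹) :=
  ((e ▸ o.conj h hp k).smul h hp c0).mul h h2 p0 hp (o.inv h h2 p0 hp)

/-- elements of odd order with a multiplier of norm one -/
theorem Ov.odd (o : Ov C φ t p s g) (e : C.act k p = c • p) (hc : σ c * c = 1) (ok : Odd (orderOf k)) :
    Commute (φ k) g := by
  have c0 : c ≠ 0 := fun e => by simp [e] at hc
  have o1 := o.cm h h2 p0 hp e c0
  rw [hc, one_mul, h.toMod.add_self] at o1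
  obtain ⟨r, hr, e1⟩ := o1.zero h h2 p0 hp
  have c1 : Commute (φ k) (UN.z C φ p r) := HatP.coc (by rw [h.z_conj k hp hr, e, h.z_smul hp hr, hc, one_mul])
  obtain ⟨a, ha, c2, a2⟩ : ∃ a, φ k * g * (φ k)⁻¹ * g⁻¹ = a ∧ Commute (φ k) a ∧ a * a = 1 := by
    rcases e1 with e1 | e1
    · exact ⟨_, e1, c1, h.z_sq hp hr⟩
    · exact ⟨_, e1, (h.tφ k).mul_right c1, by
        rw [mul_assoc, ← mul_assoc (UN.z _ _ _ _), UN.z, (h.tφ _).eq, ← mul_assoc, ← mul_assoc, h.t2, one_mul]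
        exact h.z_sq hp hr⟩
  rw [mul_inv_eq_iff_eq_mul, mul_inv_eq_iff_eq_mul] at ha
  refine (UFP.comm_of_sq (ok.of_dvd_nat (orderOf_map_dvd φ k)) ?_).symm
  rw [pow_two, mul_assoc (φ k), ha, ← mul_assoc (φ k), ← mul_assoc (φ k), c2.eq, mul_assoc a, ha,
    ← mul_assoc a, ← mul_assoc a, a2, one_mul, mul_assoc]

theorem O1.mulz (o : O1 C φ t l p s g) (hr : σ r = r) : O1 C φ t l p s (g * z C φ p r) := by
  obtain ⟨o, g₀, s₀, k', r', o₀, e1, hr', e2⟩ := o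
  exact ⟨o.mulz h h2 p0 hp hr, g₀, s₀, k', r' + r, o₀, e1, by rw [map_add, hr, hr'], by
    rw [h.z_add hp hr' hr, e2, mul_assoc]⟩

variable (hl : σ l = l) (l0 : l ≠ 0) (l1 : l ≠ 1)
include l0

theorem O1.mul (o : O1 C φ t l p s g) (o' : O1 C φ t l p s' g') : O1 C φ t l p (s + s') (g * g') := by
  obtain ⟨o, g₀, s₀, k, r, o₀, e1, hr, e2⟩ := o
  obtain ⟨o', g₁, s₁, k', r', o₁, e1', hr', e2'⟩ := o'
  rw [o₁.same (e1'.trans e1.symm)] at e2'
  have a := o₁.cm h h2 p0 hp e1 l0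
  have b := o₀.inv h h2 p0 hp
  obtain ⟨c, hc, e3⟩ := (h.mem_Z hp).1 ((td1 h h2 p0 hp).tr_comm (zE h hp b.hs) (zE h hp a.hs) (b.tr h) (a.tr h))
  refine ⟨o.mul h h2 p0 hp o', g₀ * g₁, _, k, c + r + r', o₀.mul h h2 p0 hp o₁, e1, by
    rw [map_add, map_add, hc, hr, hr'], ?_⟩
  rw [mul_inv_eq_iff_eq_mul, mul_inv_eq_iff_eq_mul, mul_assoc (z _ _ _ _),
    ((a.cz h hp hc).mul_right (b.cz h hp hc)).eq] at e3
  rw [h.z_add hp (by rw [map_add, hc, hr]) hr', h.z_add hp hc hr, e2, e2', mul_assoc _ (z C φ p r),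
    ← mul_assoc (z C φ p r), (a.cz h hp hr).eq, mul_assoc _ g₀⁻¹, ← mul_assoc g₀⁻¹, ← mul_assoc g₀⁻¹, e3]
  group

include hl

theorem O1.z (hr : σ r = r) : O1 C φ t l p 0 (z C φ p r) := by
  obtain ⟨f, hf⟩ := h.toMod.exists_hp p0 hp
  obtain ⟨k, -, e, -⟩ := h.toMod.exists_diag1 hf l0 hl
  exact ⟨Ov.z h h2 p0 hp hr, 1, 0, k, r, HatP.z0 h.toEmb hp ▸ Ov.z h h2 p0 hp (map_zero σ), e, hr, by simp⟩

include l1

omit hp p0 h2 hl l0 in
theorem nu : l * l + 1 ≠ 0 := fun e => l1 (h.toMod.eq_one_of_sq (by linear_combination e - h.two))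

theorem O1.uq (o : O1 C φ t l p s g) (o' : O1 C φ t l p s g') : ∃ r, σ r = r ∧ g' = g * UN.z C φ p r := by
  obtain ⟨o, g₀, s₀, k, r, o₀, e1, hr, rfl⟩ := o
  obtain ⟨o', g₁, s₁, k', r', o₁, e1', hr', rfl⟩ := o'
  rw [o₁.same (e1'.trans e1.symm)] at o' ⊢
  have a := o.uq h p0 hp ((o₀.cm h h2 p0 hp e1 l0).mulz h h2 p0 hp hr)
  have b := o'.uq h p0 hp ((o₁.cm h h2 p0 hp e1 l0).mulz h h2 p0 hp hr')
  obtain rfl : s₀ = s₁ := mul_left_cancel₀ (nu h l1) (by rw [hl] at a b; linear_combination b - a)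
  have o2 := (o₀.inv h h2 p0 hp).mul h h2 p0 hp o₁
  rw [h.toMod.add_self] at o2
  obtain ⟨c, hc, e2⟩ := o2.zero h h2 p0 hp
  have hc' := HatP.nF l hc P
  have e3 : φ k * (g₀⁻¹ * g₁) * (φ k)⁻¹ * (g₀⁻¹ * g₁)⁻¹ = UN.z C φ p (σ l * l * c) * UN.z C φ p c := by
    rw [← h.z_smul hp hc, ← e1, ← h.z_conj k hp hc]
    rcases e2 with e2 | e2
    · rw [e2, inv_eq_of_mul_eq_one_right (h.z_sq hp hc)]
    · rw [e2, mul_inv_rev, inv_eq_of_mul_eq_one_right (h.z_sq hp hc), ← mul_assoc (φ k), (h.tφ k).eq,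
        mul_assoc t, mul_assoc t, mul_assoc t, ← mul_assoc _ _ t⁻¹, UN.z, ← map_inv, ← map_mul, ← map_mul,
        ← map_mul, ← mul_assoc t, (h.tφ _).symm.mul_inv_cancel]
  refine ⟨r + (σ l * l * c + c) + r', by rw [map_add, map_add, map_add, hr, hr', hc, hc'], ?_⟩
  have hd : σ (σ l * l * c + c) = σ l * l * c + c := by rw [map_add, hc, hc']
  rw [← h.z_add hp hc' hc] at e3
  rw [h.z_add hp (by rw [map_add, hr, hd]) hr', h.z_add hp hr hd, mul_assoc _ (UN.z C φ p r), ← mul_assoc (UN.z C φ p r),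
    ← mul_assoc (UN.z C φ p r), h.z_sq hp hr, one_mul, ← mul_assoc, mul_assoc _ g₀⁻¹,
    ← (o₀.cz h hp hd).inv_right.eq, ← e3]
  group

variable (ex : ∀ s, σ s = s → ∃ g, Ov C φ t p s g)
include ex

theorem O1.exi (hs : σ s = s) : ∃ g, O1 C φ t l p s g := by
  obtain ⟨f, hf⟩ := h.toMod.exists_hp p0 hp
  obtain ⟨k, -, e, -⟩ := h.toMod.exists_diag1 hf l0 hl
  obtain ⟨g, o⟩ := ex (s / (l * l + 1)) (by simp [hs, hl])
  have := o.cm h h2 p0 hp e l0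
  rw [hl, ← add_one_mul, mul_div_cancel₀ _ (nu h l1)] at this
  exact ⟨_, this, g, _, k, 0, o, e, map_zero σ, by rw [HatP.z0 h.toEmb hp, mul_one]⟩

theorem Ov.or (o : Ov C φ t p s g) : O1 C φ t l p s g ∨ O1 C φ t l p s (t * g) := by
  obtain ⟨g₁, o₁⟩ := O1.exi h h2 p0 hp hl l0 l1 ex o.hs
  have o2 := (o₁.1.inv h h2 p0 hp).mul h h2 p0 hp o
  rw [h.toMod.add_self] at o2
  obtain ⟨c, hc, e | e⟩ := o2.zero h h2 p0 hp
  · exact .inl (inv_mul_eq_iff_eq_mul.1 e ▸ o₁.mulz h h2 p0 hp hc)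
  · right
    rw [inv_mul_eq_iff_eq_mul.1 e, ← mul_assoc, t_mul h hp o₁.1, mul_assoc g₁, ← mul_assoc, mul_assoc g₁, UN.z,
      mul_assoc t, (h.tφ _).eq, ← mul_assoc t, h.t2, one_mul]
    exact (o₁.mulz h h2 p0 hp o.hs).mulz h h2 p0 hp hc

theorem O1.comm (o : O1 C φ t l p s g) (o' : O1 C φ t l p s' g') : Commute g g' := by
  have m := h.toMod
  obtain ⟨g₁, o₁⟩ := O1.exi h h2 p0 hp hl l0 l1 ex (map_one σ)
  obtain ⟨κ, hκ, e1⟩ := (h.mem_Z hp).1 ((td1 h h2 p0 hp).tr_sq (zE h hp (map_one σ)) (o₁.1.tr h))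
  have sq : ∀ s g, O1 C φ t l p s g → g * g = UN.z C φ p (s * κ) := fun s g o => by
    have k1 : ∀ g', O1 C φ t l p s g' → g * g = g' * g' := fun g' o' => by
      obtain ⟨r, hr, rfl⟩ := o'.uq h h2 p0 hp hl l0 l1 o
      rw [mul_assoc, ← mul_assoc (UN.z _ _ _ _), (o'.1.cz h hp hr).eq, mul_assoc, h.z_sq hp hr, mul_one]
    by_cases s0 : s = 0
    · subst s0
      rw [k1 _ (O1.z h h2 p0 hp hl l0 (map_zero σ)), zero_mul, HatP.z0 h.toEmb hp, mul_one]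
    obtain ⟨c, rfl, hc, -⟩ := m.exists_sqrt s
    have c0 : c ≠ 0 := fun e => s0 (by rw [e, mul_zero])
    obtain ⟨f, hf⟩ := m.exists_hp p0 hp
    obtain ⟨k, -, e, -⟩ := m.exists_diag1 hf c0 (hc o.1.hs)
    have := (e ▸ o₁.conj h hp k).smul h hp c0
    rw [hc o.1.hs, mul_one] at this
    rw [k1 _ this, conj_mul, e1, h.z_conj k hp hκ, e, h.z_smul hp hκ, hc o.1.hs]
  have e2 := sq _ _ (o.mul h h2 p0 hp l0 o')
  rw [add_mul, h.z_add hp (by rw [map_mul, hκ, o.1.hs]) (by rw [map_mul, hκ, o'.1.hs]), ← sq _ _ o, ← sq _ _ o',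
    mul_assoc, mul_assoc, mul_left_cancel_iff, ← mul_assoc, ← mul_assoc, mul_right_cancel_iff] at e2
  exact e2.symm

end PA

end CfsgLib.UN
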