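import Cfsg.Agent.Lib.UN.Geo

/-! Radicals -/

set_option autoImplicit false
set_option linter.unusedSectionVars false
set_option linter.unusedSimpArgs false
set_option linter.unusedVariables false

namespace CfsgLib.UN

open Subgroup Module CfsgLib.Forms CfsgLib.LieMult
open CfsgLib.HX (Std CO Two Mv Tr LR Heis NF Fus4 Has4 M2)
open Submodule (span)
open scoped commutatorElement Pointwise

universe u

variable {K : Type} [Field K] [Finite K] {σ : K →+* K} {V : Type} [AddCommGroup V] [Module K V]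
  [FiniteDimensional K V] {P : PQ σ V} {S : Type} [Group S] [Finite S] {G : Type u} [Group G]
  [Finite G] {C : CG P S} {φ : S →* G} {t : G}

theorem rad_le_fix (U : Submodule K V) : Rad C U ≤ C.fixG U := fun _ hs => hs.1

theorem fix_le_stb (U : Submodule K V) : C.fixG U ≤ Stb C U := fun s hs v =>
  ⟨fun hv => by rw [← (C.act s).injective (hs _ hv)]; exact hv, fun hv => by rw [hs v hv]; exact hv⟩

theorem ti_span {s : Set V} : TI P (span K s) ↔ ∀ a ∈ s, ∀ b ∈ s, P.B a b = 0 := 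
  Submodule.span_le.trans ⟨fun H a ha _ hb => P.mem_perp_span.1 (H hb) a ha,
    fun H _ hb => P.mem_perp_span.2 fun a ha => H a ha _ hb⟩

theorem TI.B_eq {U : Submodule K V} (hU : TI P U) {a b : V} (ha : a ∈ U) (hb : b ∈ U) :
    P.B a b = 0 := P.mem_perp.1 (hU hb) a ha

theorem ti_pt {e : V} (he : P.B e e = 0) : TI P (span K {e}) :=
  ti_span.2 (by rintro _ rfl _ rfl; exact he)

theorem HH.ti {e f e' f' : V} (k : HH P e f e' f') : TI P (span K {e, e'}) :=
  ti_span.2 (by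
    rintro a (rfl | rfl) b (rfl | rfl)
    exacts [k.h₁.se.self_eq, k.ee, k.symm.ee, k.h₂.se.self_eq])

theorem mem_fix_pt {e : V} {s : S} : s ∈ C.fixG (span K {e}) ↔ C.act s e = e :=
  ⟨fun H => H e (Submodule.mem_span_singleton_self e), fun H v hv => by
    obtain ⟨c, rfl⟩ := Submodule.mem_span_singleton.1 hv
    rw [map_smul, H]⟩

theorem stb_perp (U : Submodule K V) : Stb C U ≤ Stb C (P.perp U) := fun s hs v => by
  rw [P.mem_perp, P.mem_perp]
  refine ⟨fun H u hu => by rw [← C.B_act s, H _ ((hs u).2 hu)], fun H u hu => ?_⟩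
  rw [← C.apply_inv s u, C.B_act, H _ ((hs _).1 (by rw [C.apply_inv]; exact hu))]

theorem stb_norm_fix (U : Submodule K V) : Stb C U ≤ normalizer (C.fixG U : Set S) :=
  le_normalizer_iff.2 fun g hg s hs v hv => by
    rw [C.mul_apply, C.mul_apply, hs _ ((inv_mem hg v).2 hv), C.apply_inv]

theorem uni_two (h2 : (2 : K) = 0) {M : ℕ → Submodule K V} (h0 : M 0 = ⊥) {k : ℕ} (hk : M k = ⊤) :
    IsPGroup 2 (Uni C M) := by
  intro s
  have a : ∀ j i, ∀ v ∈ M (i + j + 1), C.act (s ^ 2 ^ j).1 v - v ∈ M i := fun j => by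
    induction j with
    | zero => intro i v hv; simpa using (s.2 i).2 v hv
    | succ j ih =>
      intro i v hv
      have b := ((s ^ 2 ^ j).2 i).2 _ (ih (i + 1) v (by rwa [add_right_comm i 1 j]))
      rw [pow_succ, pow_mul, sq, Subgroup.coe_mul, C.mul_apply]
      generalize C.act (s ^ 2 ^ j).1 = g at b ⊢
      rw [show g (g v) - v = g (g v - v) - (g v - v) + (2 : K) • (g v - v) by rw [map_sub]; module, h2,
        zero_smul, add_zero]
      exact b
  refine ⟨k - 1, Subtype.ext (C.ext fun v => ?_)⟩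
  rw [OneMemClass.coe_one, C.one_apply, ← sub_eq_zero, ← Submodule.mem_bot K, ← h0]
  rcases k with _ | k
  · rw [hk]; trivial
  · exact a _ 0 v (by rw [zero_add, Nat.add_sub_cancel, hk]; trivial)

namespace Mod

variable (h : Mod C) {U : Submodule K V} {e f e' f' : V}
include h

theorem T_mem_rad (hU : TI P U) {p a : V} {c : K} (k : TOk P p a c) (hp : p ∈ U)
    (ha : a ∈ P.perp U) : C.T p a c ∈ Rad C U := 
  ⟨fun v hv => C.T_fix k (hU.B_eq hp hv) (P.mem_perp'.1 ha v hv), fun v hv => by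
    rw [C.T_perp k (P.mem_perp.1 hv p hp), add_sub_cancel_left]; exact U.smul_mem _ hp⟩

theorem T_mem_E (hU : TI P U) {p a : V} {c : K} (k : TOk P p a c) (hp : p ∈ U) (ha : a ∈ U) :
    C.T p a c ∈ C.fixG (P.perp U) := 
  fun _ hv => C.T_fix k (P.mem_perp.1 hv p hp) (P.mem_perp.1 hv a ha)

theorem E_le_rad (hU : TI P U) : C.fixG (P.perp U) ≤ Rad C U := fun _ hs =>
  ⟨fun v hv => hs v (hU hv), fun v hv => by rw [hs v hv, sub_self]; exact zero_mem _⟩

theorem fix_range {s : S} (hs : s ∈ C.fixG U) (v : V) : C.act s v - v ∈ P.perp U :=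
  P.mem_perp.2 fun w hw => by rw [map_sub, ← C.B_act s w v, hs w hw, sub_self]

theorem E_range {s : S} (hs : s ∈ C.fixG (P.perp U)) (v : V) : C.act s v - v ∈ U := by
  have := h.fix_range hs v
  rwa [P.perp_perp C.nondeg] at this

theorem mem_rad_hp (hf : HP P e f) {s : S} :
    s ∈ Rad C (span K {e}) ↔ ∃ a c, TOk P e a c ∧ P.B f a = 0 ∧ s = C.T e a c := by
  have he := hf.se.self_eq
  have m : ∀ {a c}, TOk P e a c → C.T e a c ∈ Rad C (span K {e}) := fun k =>
    h.T_mem_rad (ti_pt he) k (Submodule.mem_span_singleton_self e) (P.mem_perp_span_singleton.2 k.perp)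
  refine ⟨fun hs => ?_, by rintro ⟨a, c, k, -, rfl⟩; exact m k⟩
  have a1 := mem_fix_pt.1 (rad_le_fix _ hs)
  have a2 : P.B e (C.act s f) = 1 := by rw [← hf.ef, ← C.B_act s e f, a1]
  obtain ⟨a, c, k, k1, k2, -⟩ := C.exists_T_map hf (C.sing_act s hf.sf) (by rw [a2]; exact one_ne_zero)
  rw [a2, one_smul] at k2
  refine ⟨a, c, k, k1, (inv_mul_eq_one.1 (C.ext fun v => ?_)).symm⟩
  have a3 := mul_mem (inv_mem (m k)) hs
  have a4 : C.act ((C.T e a c)⁻¹ * s) f = f := by rw [C.mul_apply, C.inv_apply_eq k2]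
  generalize (C.T e a c)⁻¹ * s = u at a3 a4
  obtain ⟨w, w1, w2, w3⟩ := h.hp_decomp hf v
  obtain ⟨l, hl⟩ := Submodule.mem_span_singleton.1 (a3.2 w (P.mem_perp_span_singleton.2 w1))
  have a5 := congrArg (P.B f) hl
  rw [map_sub, ← C.B_act u f w, a4, sub_self, map_smul, hf.fe, smul_eq_mul, mul_one] at a5
  rw [a5, zero_smul] at hl
  rw [C.one_apply, w3, map_add, map_add, map_smul, map_smul, a4, mem_fix_pt.1 (rad_le_fix _ a3),
    sub_eq_zero.1 hl.symm]

theorem mem_rad_pt (h0 : e ≠ 0) (he : P.B e e = 0) {s : S} :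
    s ∈ Rad C (span K {e}) ↔ ∃ a c, TOk P e a c ∧ s = C.T e a c := by
  obtain ⟨f, hf⟩ := h.exists_hp h0 he
  refine ⟨fun hs => ?_, ?_⟩
  · obtain ⟨a, c, k, -, e1⟩ := (h.mem_rad_hp hf).1 hs
    exact ⟨a, c, k, e1⟩
  · rintro ⟨a, c, k, rfl⟩
    exact h.T_mem_rad (ti_pt he) k (Submodule.mem_span_singleton_self e)
      (P.mem_perp_span_singleton.2 k.perp)

theorem mem_E_pt (he : P.B e e = 0) {s : S} :
    s ∈ C.fixG (P.perp (span K {e})) ↔ ∃ r, σ r = r ∧ s = C.T e 0 r := by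
  refine ⟨fun hs => ?_, ?_⟩
  · by_cases h0 : e = 0
    · subst h0
      refine ⟨0, map_zero σ, C.ext fun v => ?_⟩
      rw [hs v (P.mem_perp_span_singleton.2 (by simp)), h.z_app he (map_zero σ)]; simp
    obtain ⟨f, hf⟩ := h.exists_hp h0 he
    obtain ⟨a, c, k, k1, rfl⟩ := (h.mem_rad_hp hf).1 (h.E_le_rad (ti_pt he) hs)
    have a1 : a = 0 := C.nondeg a fun v => by
      obtain ⟨w, w1, w2, w3⟩ := h.hp_decomp hf v
      have := hs w (P.mem_perp_span_singleton.2 w1)
      rw [C.T_perp k w1, add_eq_left, smul_eq_zero, or_iff_left h0] at this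
      rw [w3]
      simp [this, h.B_comm k1, h.B_comm k.perp]
    subst a1
    exact ⟨c, (h.eq_of_add (by simpa using (h.tok.1 k).2.2)).symm, rfl⟩
  · rintro ⟨r, hr, rfl⟩
    exact h.T_mem_E (ti_pt he) (h.tok0 he hr) (Submodule.mem_span_singleton_self e) (zero_mem _)

theorem E_sq (hU : TI P U) {s : S} (hs : s ∈ C.fixG (P.perp U)) : s * s = 1 := C.ext fun v => by
  have := hs _ (hU (h.E_range hs v))
  rw [map_sub, h.vsub_eq, h.vsub_eq, add_comm (C.act s v)] at this
  rw [C.mul_apply, C.one_apply, add_right_cancel this]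

theorem E_cent (hU : TI P U) : C.fixG (P.perp U) ≤ centralizer (C.fixG U : Set S) := fun s hs =>
  mem_centralizer_iff.2 fun g hg => C.ext fun v => by
    have a1 := hg _ (h.E_range hs v)
    have a2 := hs _ (h.fix_range hg v)
    rw [map_sub] at a1 a2
    rw [C.mul_apply, C.mul_apply]
    linear_combination (norm := module) a1 - a2

/-- `s - 1` is self-adjoint for `s ∈ E(U)` -/
theorem E_adj (hU : TI P U) {s : S} (hs : s ∈ C.fixG (P.perp U)) (v w : V) :
    P.B (C.act s v - v) w = P.B v (C.act s w - w) := by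
  have a1 := hU.B_eq (h.E_range hs v) (h.E_range hs w)
  have a2 := C.B_act s v w
  simp only [P.B_sub_left, P.B_sub_right] at a1 ⊢
  linear_combination a2 - a1 + (P.B v w - P.B v (C.act s w)) * h.two

theorem E_eq (hU : TI P U) :
    C.fixG (P.perp U) = closure {s | ∃ p ∈ U, ∃ r, σ r = r ∧ s = C.T p 0 r} := by
  refine le_antisymm ?_ ((closure_le _).2 ?_)
  swap
  · rintro _ ⟨p, hp, r, hr, rfl⟩
    exact h.T_mem_E hU (h.tok0 (hU.B_eq hp hp) hr) hp (zero_mem _)
  suffices H : ∀ W : Submodule K V, ∀ s ∈ C.fixG (P.perp U), s ∈ C.fixG W →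
      s ∈ closure {s | ∃ p ∈ U, ∃ r, σ r = r ∧ s = C.T p 0 r} from
    fun s hs => H _ s hs hs
  intro W
  induction W using WellFoundedGT.induction with
  | ind W ih =>
  intro s hs hW
  by_cases H : ∀ u, P.B u (C.act s u - u) = 0
  · obtain ⟨θ, hθ⟩ := h.herm.exists_trace_one
    have a : ∀ v w, P.B v (C.act s w - w) + P.B w (C.act s v - v) = 0 := fun v w => by
      have a1 := H (v + w)
      have a2 := H v
      have a3 := H w
      simp only [map_add, map_sub, LinearMap.add_apply] at a1 a2 a3 ⊢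
      linear_combination a1 - a2 - a3
    rw [show s = 1 from C.ext fun w => by
      rw [C.one_apply, ← sub_eq_zero]
      refine PQ.Nondeg.right C.nondeg _ fun v => ?_
      have a1 := a v w
      have a2 := a (θ • v) w
      rw [map_smul (C.act s), ← smul_sub, P.B_smul_left, P.B_smul_right] at a2
      linear_combination a2 - θ * a1 - P.B v (C.act s w - w) * hθ +
        θ * P.B v (C.act s w - w) * h.two]
    exact one_mem _
  obtain ⟨u, hu⟩ := not_forall.1 H
  have hp := h.E_range hs u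
  have a1 := h.E_adj hU hs u
  obtain ⟨p, e1⟩ : ∃ p, p = C.act s u - u := ⟨_, rfl⟩
  rw [← e1] at hu hp a1
  have a2 : P.B p u = P.B u p := by rw [a1, e1]
  have hr : σ (P.B u p)⁻¹ = (P.B u p)⁻¹ := by rw [map_inv₀, h.conj, a2]
  have pp := hU.B_eq hp hp
  have m := h.T_mem_E hU (h.tok0 pp hr) hp (zero_mem _)
  have a3 : u ∉ W := fun hw => hu (by rw [e1, hW u hw, sub_self, map_zero])
  have := ih (W ⊔ span K {u}) (left_lt_sup.2 fun e => a3 (e (Submodule.mem_span_singleton_self u)))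
    _ (mul_mem hs m) (fun v hv => by
      obtain ⟨w, hw, _, hx, rfl⟩ := Submodule.mem_sup.1 hv
      obtain ⟨c, rfl⟩ := Submodule.mem_span_singleton.1 hx
      rw [map_add, map_smul, C.mul_apply, C.mul_apply, h.z_app pp hr, h.z_app pp hr, a1 w, hW w hw,
        sub_self, map_zero, mul_zero, zero_smul, add_zero, hW w hw, a2, inv_mul_cancel₀ hu, one_smul,
        map_add, hs p (hU hp), e1, h.vsub_eq, ← add_assoc, h.vadd_self, zero_add])
  refine (mul_mem_cancel_right (Subgroup.subset_closure ?_)).1 this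
  exact ⟨p, hp, _, hr, rfl⟩

theorem rad_eq (hU : TI P U) :
    Rad C U = closure {s | ∃ p ∈ U, ∃ a ∈ P.perp U, ∃ c, TOk P p a c ∧ s = C.T p a c} := by
  refine le_antisymm ?_ ((closure_le _).2 ?_)
  swap
  · rintro _ ⟨p, hp, a, ha, c, k, rfl⟩
    exact h.T_mem_rad hU k hp ha
  suffices H : ∀ W : Submodule K V, U ≤ W → W ≤ P.perp U → ∀ s ∈ Rad C U, s ∈ C.fixG W →
      s ∈ closure {s | ∃ p ∈ U, ∃ a ∈ P.perp U, ∃ c, TOk P p a c ∧ s = C.T p a c} from
    fun s hs => H U le_rfl hU s hs hs.1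
  intro W
  induction W using WellFoundedGT.induction with
  | ind W ih =>
  intro w1 w2 s hs hW
  by_cases H : s ∈ C.fixG (P.perp U)
  · rw [h.E_eq hU] at H
    refine closure_mono ?_ H
    rintro _ ⟨p, hp, r, hr, rfl⟩
    exact ⟨p, hp, 0, zero_mem _, r, h.tok0 (hU.B_eq hp hp) hr, rfl⟩
  obtain ⟨u, hu, u1⟩ : ∃ u ∈ P.perp U, C.act s u ≠ u := by
    by_contra H'
    exact H fun u hu => by by_contra H''; exact H' ⟨u, hu, H''⟩
  have a3 : u ∉ W := fun hw => u1 (hW u hw)
  obtain ⟨a, a1, a2⟩ := P.exists_dual_vec C.nondeg W a3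
  have ha : a ∈ P.perp U := P.mem_perp'.2 fun w hw => a2 w (w1 hw)
  have hp := hs.2 u hu
  obtain ⟨c, k⟩ := h.exists_tok (hU.B_eq hp hp) (P.mem_perp.1 ha _ hp)
  have := ih (W ⊔ span K {u}) (left_lt_sup.2 fun e => a3 (e (Submodule.mem_span_singleton_self u)))
    (le_sup_of_le_left w1) (sup_le w2 ((Submodule.span_singleton_le_iff_mem _ _).2 hu))
    _ (mul_mem hs (h.T_mem_rad hU k hp ha)) (fun v hv => by
      obtain ⟨w, hw, _, hx, rfl⟩ := Submodule.mem_sup.1 hv
      obtain ⟨d, rfl⟩ := Submodule.mem_span_singleton.1 hx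
      rw [map_add, map_smul, C.mul_apply, C.mul_apply,
        C.T_fix k (P.mem_perp.1 (w2 hw) _ hp) (a2 w hw), hW w hw, C.T_perp k (P.mem_perp.1 hu _ hp),
        a1, one_smul, map_add, hs.1 _ hp, h.vsub_eq, ← add_assoc, h.vadd_self, zero_add])
  refine (mul_mem_cancel_right (Subgroup.subset_closure ?_)).1 this
  exact ⟨_, hp, a, ha, c, k, rfl⟩

theorem rad_sq {s : S} (hs : s ∈ Rad C U) : s * s ∈ C.fixG (P.perp U) := fun v hv => by
  have := hs.1 _ (hs.2 v hv)
  rw [map_sub, h.vsub_eq, h.vsub_eq, add_comm (C.act s v)] at this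
  rw [C.mul_apply, add_right_cancel this]

theorem rad_two (hU : TI P U) : IsPGroup 2 (Rad C U) := fun s =>
  ⟨2, Subtype.ext (by
    have := h.E_sq hU (h.rad_sq s.2)
    rw [SubgroupClass.coe_pow, OneMemClass.coe_one, ← this]
    norm_num [pow_succ, mul_assoc])⟩

theorem stb_norm (U : Submodule K V) : Stb C U ≤ normalizer (C.fixG U : Set S) ⊓
    normalizer (Rad C U : Set S) ⊓ normalizer (C.fixG (P.perp U) : Set S) := by
  refine le_inf (le_inf (stb_norm_fix U) (le_normalizer_iff.2 fun g hg s hs => ⟨?_, fun v hv => ?_⟩))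
    ((stb_perp U).trans (stb_norm_fix _))
  · exact le_normalizer_iff.1 (stb_norm_fix U) g hg s hs.1
  · have := (hg _).2 (hs.2 _ ((inv_mem (stb_perp U hg) v).2 hv))
    rwa [map_sub, C.apply_inv, ← C.mul_apply, ← C.mul_apply] at this

theorem tok_line (k : HH P e f e' f') (v : K) : TOk P e (v • e') 0 :=
  h.tok1 k.h₁.se.self_eq (by simp [k.h₂.se.self_eq]) (by simp [k.ee]) (map_zero σ)

theorem line_app (k : HH P e f e' f') {r r' : K} (v : K) (hr : σ r = r) (hr' : σ r' = r') (x : V) :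
    C.act (C.T e 0 r * C.T e (v • e') 0 * C.T e' 0 r') x =
      x + (r * P.B e x + σ v * P.B e' x) • e + (v * P.B e x + r' * P.B e' x) • e' := by
  simp only [C.mul_apply, h.z_app k.h₁.se.self_eq hr, h.z_app k.h₂.se.self_eq hr',
    h.T_app (h.tok_line k v), map_add, map_smul, map_zero, P.B_smul_left, smul_eq_mul, k.ee,
    k.h₁.se.self_eq, k.h₂.se.self_eq]
  module

theorem mem_E_line (k : HH P e f e' f') {s : S} : s ∈ C.fixG (P.perp (span K {e, e'})) ↔
    ∃ r v r' : K, σ r = r ∧ σ r' = r' ∧ s = C.T e 0 r * C.T e (v • e') 0 * C.T e' 0 r' := by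
  have he : e ∈ span K {e, e'} := Submodule.subset_span (by simp)
  have he' : e' ∈ span K {e, e'} := Submodule.subset_span (by simp)
  refine ⟨fun hs => ?_, ?_⟩
  swap
  · rintro ⟨r, v, r', hr, hr', rfl⟩
    exact mul_mem (mul_mem (h.T_mem_E k.ti (h.tok0 k.h₁.se.self_eq hr) he (zero_mem _))
      (h.T_mem_E k.ti (h.tok_line k v) he (Submodule.smul_mem _ _ he')))
      (h.T_mem_E k.ti (h.tok0 k.h₂.se.self_eq hr') he' (zero_mem _))
  obtain ⟨r, v, a1⟩ := Submodule.mem_span_pair.1 (h.E_range hs f)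
  obtain ⟨u, r', a2⟩ := Submodule.mem_span_pair.1 (h.E_range hs f')
  have b1 := h.E_adj k.ti hs f f
  have b2 := h.E_adj k.ti hs f f'
  have b3 := h.E_adj k.ti hs f' f'
  simp only [← a1, ← a2, P.B_add_left, P.B_add_right, P.B_smul_left, P.B_smul_right, k.h₁.ef, k.h₁.fe,
    k.h₂.ef, k.h₂.fe, k.ef, k.fe, k.symm.ef, k.symm.fe, mul_zero, mul_one, add_zero,
    zero_add] at b1 b2 b3
  refine ⟨r, v, r', b1, b3, C.ext fun x => ?_⟩
  obtain ⟨w, w1, -, w3, -, w5⟩ := h.hh_decomp k x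
  rw [h.line_app k v b1 b3, b2]
  conv_lhs => rw [w5]
  rw [map_add, map_add, map_add, map_add, map_smul, map_smul, map_smul, map_smul,
    hs w (CG.mem_perp_pair.2 ⟨w1, w3⟩), hs e (k.ti he), hs e' (k.ti he'), eq_sub_iff_add_eq.1 a1 |>.symm,
    eq_sub_iff_add_eq.1 a2 |>.symm]
  linear_combination (norm := module) -w5

theorem E_line_inj (k : HH P e f e' f') {r v r' s u s' : K} (hr : σ r = r) (hr' : σ r' = r')
    (hs : σ s = s) (hs' : σ s' = s') (e1 : C.T e 0 r * C.T e (v • e') 0 * C.T e' 0 r' =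
      C.T e 0 s * C.T e (u • e') 0 * C.T e' 0 s') : r = s ∧ v = u ∧ r' = s' := by
  have a1 := congrArg (fun g => P.B f (C.act g f)) e1
  have a2 := congrArg (fun g => P.B f' (C.act g f)) e1
  have a3 := congrArg (fun g => P.B f' (C.act g f')) e1
  simp only [h.line_app k _ hr hr', h.line_app k _ hs hs', P.B_add_right, P.B_smul_right, k.h₁.ef,
    k.h₁.fe, k.h₂.ef, k.h₂.fe, k.ef, k.fe, k.symm.ef, k.symm.fe, mul_zero, mul_one, add_zero,
    zero_add, add_right_inj] at a1 a2 a3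
  exact ⟨a1, a2, a3⟩

/-- the pointwise stabiliser of a non-degenerate subspace is generated by transvections -/
theorem fix_gen (hU : Disjoint U (P.perp U)) (big : 4 ≤ finrank K (P.perp U) ∨ ¬ Small σ)
    {H : Subgroup S} (hH : ∀ p ∈ P.perp U, ∀ s, P.B p p = 0 → σ s = s → C.T p 0 s ∈ H) :
    C.fixG U ≤ H := by
  intro y hy
  let T₀ : Subgroup (P.perp U ≃ₗ[K] P.perp U) :=
    { carrier := {g | ∃ s ∈ H ⊓ C.fixG U, ∀ w : P.perp U, C.act s w = g w}
      one_mem' := ⟨1, one_mem _, fun w => C.one_apply _⟩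
      mul_mem' := by
        rintro a b ⟨s, hs, a1⟩ ⟨s', hs', a2⟩
        exact ⟨s * s', mul_mem hs hs', fun w => by rw [C.mul_apply, a2, a1]; rfl⟩
      inv_mem' := by
        rintro a ⟨s, hs, a1⟩
        exact ⟨s⁻¹, inv_mem hs, fun w => C.inv_apply_eq (by rw [a1]; simp)⟩ }
  have hW := h.herm.restrict (P.perp U)
  have nd := P.restrict_nondeg_iff.2 (P.disjoint_perp_perp C.nondeg hU)
  have hd : ∀ g : P.perp U ≃ₗ[K] P.perp U, g ∈ (LinearEquiv.det (R := K) (M := P.perp U)).ker ↔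
      LinearMap.det g.toLinearMap = 1 := fun g => by
    rw [MonoidHom.mem_ker, ← LinearEquiv.coe_det, Units.val_eq_one]
  have m : C.act y ∈ linStab (P.perp U) := fun v => (stb_perp U (fix_le_stb U hy) v).symm
  obtain ⟨⟨s, hs, a1⟩, -⟩ := hW.mem_of_transvections nd
    (T := T₀ ⊓ ((P.restrict (P.perp U)).isom ⊓ LinearEquiv.det.ker)) (fun g x d xx hd' hg => by
      obtain ⟨g', b1, b2, b3⟩ := hW.exists_transvection nd xx hd'
      obtain rfl : g = g' := LinearEquiv.ext fun v => by rw [hg, b3]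
      have e1 := (h.eq_of_add hd').symm
      refine ⟨⟨C.T x 0 d, ⟨hH _ x.2 d xx e1, fun u hu => C.T_fix (h.tok0 xx e1)
        (P.mem_perp'.1 x.2 u hu) (by simp)⟩, fun w => ?_⟩, b1, (hd g).2 b2⟩
      rw [h.z_app (e := x) xx e1, hg]; rfl)
    (big.imp id h.exists_big) (fun t ht => ⟨ht.2.1, (hd t).1 ht.2.2⟩) (linStabRes _ ⟨_, m⟩)
    (P.isIso_linStabRes _ (C.iso y)) (by
      have b1 := (C.act y).toLinearMap.det_eq_det_mul_det (P.perp U) fun v hv => (m v).1 hv
      rw [h.det, show (P.perp U).mapQ (P.perp U) (C.act y).toLinearMap _ = LinearMap.id from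
        Submodule.linearMap_qext _ (LinearMap.ext fun v => (Submodule.Quotient.eq _).2
          (h.fix_range hy v)), LinearMap.det_id, mul_one] at b1
      exact b1.symm)
  obtain rfl : s = y := C.inj (P.eq_of_eqOn_perp C.nondeg hU (fun w hw => by rw [hs.2 w hw, hy w hw])
    fun w hw => a1 ⟨w, hw⟩)
  exact hs.1

theorem T_mem_Q {a : V} {c : K} (k : TOk P e a c) : C.T e a c ∈ Rad C (span K {e}) :=
  h.T_mem_rad (ti_pt k.sing.self_eq) k (Submodule.mem_span_singleton_self e)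
    (P.mem_perp_span_singleton.2 k.perp)

/-- a transvection is a commutator of Eichler elements -/
theorem z_eq_comm {a b : V} (he : P.B e e = 0) (k : HP P a b) (ha : P.B e a = 0) (hb : P.B e b = 0)
    {r : K} (hr : σ r = r) : ∃ θ : K, TOk P e a 0 ∧ TOk P e (θ • b) 0 ∧
      C.T e 0 r = ⁅C.T e a 0, C.T e (θ • b) 0⁆ := by
  obtain ⟨θ, hθ⟩ := h.exists_tr hr
  have k1 := h.tok1 he k.se.self_eq ha (map_zero σ)
  have k2 := h.tok1 (a := θ • b) he (by simp [k.sf.self_eq]) (by simp [hb]) (map_zero σ)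
  refine ⟨θ, k1, k2, ?_⟩
  rw [C.T_commutator k1 k2, P.B_smul_left, P.B_smul_right, k.ef, k.fe, mul_one, mul_one, h.sub_eq,
    add_comm, hθ]

theorem rad_le_comm (h0 : e ≠ 0) (he : P.B e e = 0) :
    Rad C (span K {e}) ≤ ⁅Rad C (span K {e}), C.fixG (span K {e})⁆ := by
  have hZ : ∀ r, σ r = r → C.T e 0 r ∈ ⁅Rad C (span K {e}), C.fixG (span K {e})⁆ := fun r hr => by
    obtain ⟨f, hf⟩ := h.exists_hp h0 he
    obtain ⟨a, b, k⟩ := h.exists_hh hf
    obtain ⟨θ, k1, k2, e1⟩ := h.z_eq_comm he k.h₂ k.ee k.ef hr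
    rw [e1]
    exact commutator_mem_commutator (h.T_mem_Q k1) (rad_le_fix _ (h.T_mem_Q k2))
  have a1 : ∀ a c d, TOk P e a c → TOk P e a d → C.T e a d ∈ ⁅Rad C (span K {e}), C.fixG (span K {e})⁆ →
      C.T e a c ∈ ⁅Rad C (span K {e}), C.fixG (span K {e})⁆ := fun a c d k k' H => by
    have hr : σ (c + d) = c + d := by
      rw [map_add]; linear_combination k.trace C - k'.trace C + (σ d - c) * h.two
    have := mul_mem (hZ _ hr) H
    rw [C.T_mul (h.tok0 he hr) k', zero_add, map_zero, add_zero, add_assoc, h.add_self,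
      add_zero] at this
    exact this
  intro s hs
  obtain ⟨a, c, k, rfl⟩ := (h.mem_rad_pt h0 he).1 hs
  have a2 := h.iso_span (ti_pt he) (by rw [finrank_span_singleton h0]; have := h.d4; omega)
    (P.mem_perp_span_singleton.2 k.perp)
  suffices H : ∃ d, TOk P e a d ∧ C.T e a d ∈ ⁅Rad C (span K {e}), C.fixG (span K {e})⁆ from
    H.elim fun d hd => a1 a c d k hd.1 hd.2
  refine AddSubgroup.closure_induction (p := fun a _ => ∃ d, TOk P e a d ∧
    C.T e a d ∈ ⁅Rad C (span K {e}), C.fixG (span K {e})⁆) ?_ ⟨0, h.tok0 he (map_zero σ),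
      hZ 0 (map_zero σ)⟩ ?_ ?_ a2
  · rintro a ⟨ha, aa⟩
    rw [P.mem_perp_span_singleton] at ha
    by_cases H : a ∈ span K {e}
    · obtain ⟨l, rfl⟩ := Submodule.mem_span_singleton.1 H
      obtain ⟨b1, -, b3⟩ := h.T_shift (h.tok0 he (map_zero σ)) l
      rw [zero_add] at b1 b3
      exact ⟨0, b1, b3 ▸ hZ _ (by rw [zero_add, map_add, h.σσ, add_comm])⟩
    obtain ⟨f, b, k⟩ := h.exists_hh' he aa ha h0 H
    have k1 := h.tok1 he k.h₂.sf.self_eq k.ef (map_zero σ)
    have m : C.T a 0 1 ∈ C.fixG (span K {e}) :=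
      mem_fix_pt.2 (C.T_fix (h.tok0 aa (map_one σ)) k.symm.ee (by simp))
    have := commutator_mem_commutator m (h.T_mem_Q k1)
    have k2 := k1.act C (C.T a 0 1)
    rw [commutatorElement_def, C.T_conj _ k1, C.T_inv k1, commutator_comm] at this
    rw [mem_fix_pt.1 m, h.z_app aa (map_one σ), k.h₂.ef, mul_one, one_smul] at this k2
    rw [C.T_mul k2 (k1.neg C)] at this
    have k3 := k2.add (k1.neg C)
    rw [add_neg_cancel_comm] at this k3
    exact ⟨_, k3, this⟩
  · rintro a b _ _ ⟨c, k1, m1⟩ ⟨d, k2, m2⟩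
    exact ⟨_, k1.add k2, C.T_mul k1 k2 ▸ mul_mem m1 m2⟩
  · rintro a _ ⟨c, k1, m1⟩
    exact ⟨_, k1.neg C, C.T_inv k1 ▸ inv_mem m1⟩

theorem exists_hp3 (k : HH P e f e' f') (h6 : 6 ≤ finrank K V) : ∃ a b, HP P a b ∧ P.B e a = 0 ∧
    P.B f a = 0 ∧ P.B e' a = 0 ∧ P.B f' a = 0 ∧ P.B e b = 0 ∧ P.B f b = 0 ∧ P.B e' b = 0 ∧
      P.B f' b = 0 := by
  obtain ⟨a, ha, b, hb, k'⟩ := h.exists_hp_perp (P.disjoint_perp_sup (h.hp_disj k.h₁) (h.hp_disj k.h₂)
    (Submodule.span_le.2 (by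
      rintro x (rfl | rfl)
      exacts [CG.mem_perp_pair.2 ⟨k.ee, k.fe⟩, CG.mem_perp_pair.2 ⟨k.ef, k.ff⟩]))) (by
    have := Submodule.finrank_add_le_finrank_add_finrank (span K {e, f}) (span K {e', f'})
    rw [h.hp_rank k.h₁, h.hp_rank k.h₂] at this
    omega)
  rw [P.perp_sup, Submodule.mem_inf, CG.mem_perp_pair, CG.mem_perp_pair] at ha hb
  exact ⟨a, b, k', ha.1.1, ha.1.2, ha.2.1, ha.2.2, hb.1.1, hb.1.2, hb.2.1, hb.2.2⟩

/-- the stabiliser of `e` is `Q_e` times the stabiliser of a hyperbolic pair -/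
theorem fix_decomp (hf : HP P e f) {s : S} (hs : C.act s e = e) :
    ∃ u ∈ Rad C (span K {e}), u⁻¹ * s ∈ C.fixG (span K {e, f}) := by
  have a2 : P.B e (C.act s f) = 1 := by rw [← hf.ef, ← C.B_act s e f, hs]
  obtain ⟨a, c, k, -, k2, -⟩ := C.exists_T_map hf (C.sing_act s hf.sf) (by rw [a2]; exact one_ne_zero)
  rw [a2, one_smul] at k2
  refine ⟨_, h.T_mem_Q k, fun v hv => ?_⟩
  obtain ⟨x, y, rfl⟩ := Submodule.mem_span_pair.1 hv
  rw [map_add, map_smul, map_smul, C.mul_apply, C.mul_apply, hs, C.inv_apply_eq k2,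
    C.inv_apply_eq (C.T_self k)]

theorem fix_perf (h0 : e ≠ 0) (he : P.B e e = 0) :
    C.fixG (span K {e}) ≤ ⁅C.fixG (span K {e}), C.fixG (span K {e})⁆ := by
  obtain ⟨f, hf⟩ := h.exists_hp h0 he
  have a1 : C.fixG (span K {e, f}) ≤ ⁅C.fixG (span K {e}), C.fixG (span K {e})⁆ := by
    have b1 := P.finrank_perp C.nondeg (span K {e, f})
    rw [h.hp_rank hf] at b1
    refine h.fix_gen (h.hp_disj hf) ((em (Small σ)).imp (fun H => by have := h.d7 H; omega) id)
      fun p hp r pp hr => ?_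
    by_cases p0 : p = 0
    · subst p0
      rw [h.T_zero' _ (h.tok0 pp hr)]
      exact one_mem _
    obtain ⟨p', hp', k⟩ := C.exists_HP (h.hp_disj hf) (h.sing.2 pp) p0 hp
    rw [CG.mem_perp_pair] at hp hp'
    have k' : HH P e f p p' := ⟨hf, k, hp.1, hp'.1, hp.2, hp'.2⟩
    by_cases H : Small σ
    · obtain ⟨a, b, k1, c1, -, c2, -, c3, -, c4, -⟩ := h.exists_hp3 k' (by have := h.d7 H; omega)
      obtain ⟨θ, k2, k3, e1⟩ := h.z_eq_comm pp k1 c2 c4 hr
      rw [e1]
      exact commutator_mem_commutator (mem_fix_pt.2 (C.T_fix k2 k'.symm.ee (h.B_comm c1)))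
        (mem_fix_pt.2 (C.T_fix k3 k'.symm.ee (by simp [h.B_comm c3])))
    obtain ⟨l, hl, l0, l1⟩ := h.exists_big H
    obtain ⟨d, -, d1, -, d2⟩ := h.exists_diag1 k l0 hl
    have l2 : l * l + 1 ≠ 0 := fun e => l1 (h.eq_one_of_sq (h.eq_of_add e))
    have hr' : σ (r / (l * l + 1)) = r / (l * l + 1) := by simp [hr, hl]
    have k1 := h.tok0 pp hr'
    have := commutator_mem_commutator (mem_fix_pt.2 (d2 e k'.symm.ee k'.symm.fe))
      (mem_fix_pt.2 (C.T_fix k1 k'.symm.ee (by simp)))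
    have k2 := k1.smul (σ l)
    rw [h.σσ, smul_zero] at k2
    rw [commutatorElement_def, C.T_conj _ k1, d1, map_zero, C.T_smul_left k1, C.T_inv k1, smul_zero,
      C.T_mul k2 (k1.neg C), hl, hr'] at this
    simp only [neg_zero, add_zero, map_zero] at this
    rwa [show l * l * (r / (l * l + 1)) + r / (l * l + 1) = r by
      rw [← add_one_mul, mul_div_cancel₀ _ l2]] at this
  intro s hs
  obtain ⟨u, hu, a2⟩ := h.fix_decomp hf (mem_fix_pt.1 hs)
  exact (mul_mem_cancel_left (inv_mem (commutator_mono (rad_le_fix _) le_rfl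
    (h.rad_le_comm h0 he hu)))).1 (a1 a2)

theorem perf : (⊤ : Subgroup S) ≤ ⁅(⊤ : Subgroup S), (⊤ : Subgroup S)⁆ := by
  rw [top_le_iff]
  refine h.gen _ fun p s pp hs => ?_
  by_cases p0 : p = 0
  · subst p0
    rw [h.T_zero' _ (h.tok0 pp hs)]
    exact one_mem _
  exact commutator_mono le_top le_top (h.rad_le_comm p0 pp (h.T_mem_Q (h.tok0 pp hs)))

/-- `Q_e` fixes only the point `e` -/
theorem rad_fix_pt (h0 : e ≠ 0) (he : P.B e e = 0) {p : V}
    (hp : ∀ s ∈ Rad C (span K {e}), C.act s p ∈ span K {p}) : p ∈ span K {e} := by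
  have a1 : ∀ {v : V} {c : K}, c ≠ 0 → p + c • e ∈ span K {p} → p ∈ span K {e} := fun c0 H => by
    obtain ⟨l, hl⟩ := Submodule.mem_span_singleton.1 ((Submodule.smul_mem_iff _ c0).1
      ((add_mem_cancel_left (Submodule.mem_span_singleton_self p)).1 H))
    have l0 : l ≠ 0 := by rintro rfl; exact h0 (by rw [← hl, zero_smul])
    exact Submodule.mem_span_singleton.2 ⟨l⁻¹, by rw [← hl, smul_smul, inv_mul_cancel₀ l0, one_smul]⟩
  by_cases b : P.B e p = 0
  · rw [← P.perp_perp C.nondeg (span K {e}), P.mem_perp]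
    by_contra H
    obtain ⟨a, ha, a2⟩ : ∃ a ∈ P.perp (span K {e}), P.B a p ≠ 0 := by
      by_contra H'
      exact H fun a ha => by by_contra H''; exact H' ⟨a, ha, H''⟩
    obtain ⟨c, k⟩ := h.exists_tok he (P.mem_perp_span_singleton.1 ha)
    have := hp _ (h.T_mem_Q k)
    rw [C.T_perp k b] at this
    exact H fun w hw => P.mem_perp'.1 hw p (a1 (v := p) a2 this)
  · have := hp _ (h.T_mem_Q (h.tok0 he (map_one σ)))
    rw [h.z_app he (map_one σ), one_mul] at this
    exact a1 (v := p) b this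

theorem mem_fix_of_two {s : S} (h2 : IsPGroup 2 (zpowers s)) {p : V}
    (hp : C.act s p ∈ span K {p}) : C.act s p = p := by
  obtain ⟨l, hl⟩ := Submodule.mem_span_singleton.1 hp
  obtain ⟨k, hk⟩ := h2 ⟨s, mem_zpowers s⟩
  have e1 : s ^ 2 ^ k = 1 := congrArg Subtype.val hk
  have a1 : ∀ n : ℕ, C.act (s ^ n) p = l ^ n • p := fun n => by
    induction n with
    | zero => simp
    | succ n ih => rw [pow_succ, C.mul_apply, ← hl, map_smul, ih, smul_smul, pow_succ']
  have a2 : ∀ n : ℕ, l ^ 2 ^ n = 1 → l = 1 := fun n => by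
    induction n with
    | zero => simp
    | succ n ih => exact fun H => ih (h.eq_one_of_sq (by rw [← H, pow_succ, pow_mul, sq]))
  by_cases p0 : p = 0
  · rw [p0, map_zero]
  have a3 := a1 (2 ^ k)
  rw [e1, C.one_apply] at a3
  rw [← hl, a2 k (smul_left_injective K p0 (by simpa using a3.symm)), one_smul]

end Mod

end CfsgLib.UN
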