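import Cfsg.Agent.Lib.UN.Odd

/-! Transvections of a symmetric bilinear space in characteristic two -/

set_option autoImplicit false
set_option linter.unusedSectionVars false

namespace CfsgLib.UN

open Subgroup Module CfsgLib.Forms CfsgLib.LieMult
open CfsgLib.HX (Std CO Two Mv Tr LR Heis NF Fus4 Has4 M2)
open Submodule (span)
open scoped commutatorElement Pointwise

universe u

variable {K : Type} [Field K] [Finite K] {σ : K →+* K} {V : Type} [AddCommGroup V] [Module K V]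
  [FiniteDimensional K V] {P : PQ σ V} {S : Type} [Group S] [Finite S] {G : Type u} [Group G]
  [Finite G] {C : CG P S} {φ : S →* G} {t : G}

theorem card_dvd_of_trans {H A : Type*} [Group H] [Finite H] [MulAction H A] {X : Set H} {U : Set A}
    (hX : ∀ g ∈ X, ∀ a ∈ U, g • a ∈ U) (ht : ∀ a ∈ U, ∀ b ∈ U, ∃ g ∈ closure X, g • a = b)
    (h0 : U.Nonempty) : U.ncard ∣ Nat.card (closure X) := by
  have h1 : ∀ g ∈ closure X, ∀ a ∈ U, g • a ∈ U := by
    intro g hg
    induction hg using closure_induction with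
    | mem g hg => exact hX g hg
    | one => intro a ha; rwa [one_smul]
    | mul g k _ _ h1 h2 => intro a ha; rw [mul_smul]; exact h1 _ (h2 a ha)
    | inv g _ h1 =>
      have h2 : ∀ n : ℕ, ∀ a ∈ U, g ^ n • a ∈ U := fun n => by
        induction n with
        | zero => intro a ha; rwa [pow_zero, one_smul]
        | succ n ih => intro a ha; rw [pow_succ, mul_smul]; exact ih _ (h1 a ha)
      have h3 : g⁻¹ = g ^ (orderOf g - 1) := by
        rw [inv_eq_iff_mul_eq_one, ← pow_succ', Nat.sub_add_cancel (orderOf_pos g),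
          pow_orderOf_eq_one]
      rw [h3]
      exact h2 _
  obtain ⟨a, ha⟩ := h0
  have h2 : MulAction.orbit (closure X) a = U := by
    ext b
    refine ⟨?_, fun hb => ?_⟩
    · rintro ⟨g, rfl⟩
      exact h1 g g.2 a ha
    · obtain ⟨g, hg, e⟩ := ht a ha b hb
      exact ⟨⟨g, hg⟩, e⟩
  rw [← h2, ← MulAction.index_stabilizer]
  exact index_dvd_card _

theorem braid_mem_Od {H : Type*} [Group H] {M : Subgroup H} {s t : H} (hs : s ∈ M) (ht : t ∈ M)
    (t2 : t * t = 1) (s2 : s * s = 1) (h : s * t * s = t * s * t) : s * t ∈ Od M := by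
  refine subset_closure ⟨mul_mem hs ht, Odd.of_dvd_nat (n := 3) (by decide)
    (orderOf_dvd_of_pow_eq_one ?_)⟩
  calc (s * t) ^ 3 = s * t * s * (t * s * t) := by rw [pow_succ, pow_two]; simp only [mul_assoc]
    _ = t * (s * (t * t) * s) * t := by rw [h]; simp only [mul_assoc]
    _ = 1 := by rw [t2, mul_one, s2, mul_one, t2]

theorem card_Od2_dvd {H G' : Type*} [Group H] [Finite H] [Group G'] [Finite G'] (f : H →* G')
    (hf : Function.Injective f) {M : Subgroup G'} (hM : ∀ g, f g ∈ M) :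
    Nat.card (Od2 (⊤ : Subgroup H)) ∣ Nat.card (Od2 M) := by
  rw [← card_map_of_injective hf]
  refine card_dvd_of_le ?_
  rw [Od2, MonoidHom.map_closure]
  refine closure_mono ?_
  rintro _ ⟨g, ⟨h1, h2⟩, rfl⟩
  exact ⟨by rw [← map_mul, h1, map_one],
    Od_mono (by rintro _ ⟨k, -, rfl⟩; exact hM k) (map_Od f ⊤ ⟨g, h2, rfl⟩)⟩

theorem ncard_ne_zero_sub {F W : Type} [Field F] [Finite F] [AddCommGroup W] [Module F W]
    [FiniteDimensional F W] (U : Submodule F W) :
    ((U : Set W) \ {0}).ncard = Nat.card F ^ finrank F U - 1 := by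
  haveI : Finite W := Module.finite_of_finite F
  rw [Set.ncard_sdiff_singleton_of_mem U.zero_mem, ← Module.natCard_eq_pow_finrank,
    ← Nat.card_coe_set_eq]
  rfl

namespace SymD

variable {F W H : Type} [Field F] [Finite F] [AddCommGroup W] [Module F W] [FiniteDimensional F W]
  [Group H] [Finite H] {β : LinearMap.BilinForm F W} {ρ : H →* (W ≃ₗ[F] W)} {τ : W → H}
  (h : SymD β ρ τ)
include h

theorem ext' {g k : H} (e : ∀ v, ρ g v = ρ k v) : g = k := h.inj (LinearEquiv.ext e)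

omit h in
theorem mul_app (g k : H) (v : W) : ρ (g * k) v = ρ g (ρ k v) := by rw [map_mul]; rfl

theorem sqrt (c : F) : ∃ d, d ^ 2 = c := by
  have h2 := h.two
  exact Finite.surjective_of_injective (f := fun d : F => d ^ 2) (fun a b e => by
    have : (a - b) ^ 2 = 0 := by
      change a ^ 2 = b ^ 2 at e
      linear_combination e + (b ^ 2 - a * b) * h2
    exact sub_eq_zero.1 (pow_eq_zero_iff two_ne_zero |>.1 this)) c

theorem sq_inj {a b : F} (e : a ^ 2 = b ^ 2) : a = b := by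
  have : (a - b) ^ 2 = 0 := by linear_combination e + (b ^ 2 - a * b) * h.two
  exact sub_eq_zero.1 (pow_eq_zero_iff two_ne_zero |>.1 this)

theorem nondeg : β.Nondegenerate :=
  ⟨h.nd, fun v hv => h.nd v fun w => by rw [h.symm, hv]⟩

theorem refl' : β.IsRefl := fun v w e => by rw [h.symm, e]

theorem tau_sq {a : W} (ha : β a a = 0) : τ a * τ a = 1 := h.ext' fun v => by
  simp only [mul_app, h.tau a ha, map_add, map_smul, ha, map_one, LinearEquiv.coe_one, id_eq]
  linear_combination (norm := module) h.two • (β a v • a)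

theorem tau_zero : τ 0 = 1 := h.ext' fun v => by simp [h.tau 0 (by simp)]

theorem tau_iso {a : W} (ha : β a a = 0) (v w : W) : β (ρ (τ a) v) (ρ (τ a) w) = β v w := by
  simp only [h.tau a ha, map_add, map_smul, LinearMap.add_apply, LinearMap.smul_apply, ha,
    smul_eq_mul, h.symm v a]
  linear_combination (β a v * β a w) * h.two

theorem tau_conj {g : H} (hg : ∀ v w, β (ρ g v) (ρ g w) = β v w) {a : W} (ha : β a a = 0) :
    g * τ a * g⁻¹ = τ (ρ g a) := by
  rw [mul_inv_eq_iff_eq_mul]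
  exact h.ext' fun v => by
    simp only [mul_app, h.tau a ha, h.tau _ ((hg a a).trans ha), map_add, map_smul, hg]

theorem link {a b : W} (ha : β a a = 0) (hb : β b b = 0) (hab : β a b = 1) :
    τ a * τ b ∈ Od (⊤ : Subgroup H) := by
  refine braid_mem_Od (mem_top _) (mem_top _) (h.tau_sq hb) (h.tau_sq ha) (h.ext' fun v => ?_)
  have hba : β b a = 1 := by rw [h.symm, hab]
  simp only [mul_app, h.tau a ha, h.tau b hb, map_add, map_smul, ha, hb, hab, hba, smul_eq_mul]
  linear_combination (norm := module) h.two • (β a v • a) - h.two • (β b v • b)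

theorem add_iso {a b : W} (ha : β a a = 0) (hb : β b b = 0) : β (a + b) (a + b) = 0 := by
  simp only [map_add, LinearMap.add_apply, ha, hb, h.symm b a]
  linear_combination β a b * h.two

theorem link2 {e a a' : W} (he : β e e = 0) (ha : β a a = 0) (ha' : β a' a' = 0)
    (h2 : β e a' = 0) (h3 : β a a' = 1) : τ (a + e) * τ a ∈ Od (⊤ : Subgroup H) := by
  have := mul_mem (h.link (h.add_iso ha he) ha' (by simp [h2, h3]))
    (h.link ha' ha (by rw [h.symm, h3]))
  rwa [mul_assoc, ← mul_assoc (τ a'), h.tau_sq ha', one_mul] at this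

theorem sieg {e a : W} (he : β e e = 0) (ha : β a a = 0) (h1 : β e a = 0) (v : W) :
    ρ (τ (a + e) * τ a * τ e) v = v + β a v • e + β e v • a := by
  have h2 : β a e = 0 := by rw [h.symm, h1]
  simp only [mul_app, h.tau a ha, h.tau e he, h.tau _ (h.add_iso ha he), map_add, map_smul, ha, he,
    h1, h2, LinearMap.add_apply, smul_eq_mul]
  linear_combination (norm := module) h.two • (β a v • a) + h.two • (β e v • e)

theorem od_core {e a b a' b' c' : W} (he : β e e = 0) (ha : β a a = 0) (hb : β b b = 0)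
    (hea : β e a = 0) (heb : β e b = 0) (hab : β a b = 0) (ha' : β a' a' = 0) (hb' : β b' b' = 0)
    (hc' : β c' c' = 0) (h1 : β e a' = 0) (h2 : β e b' = 0) (h3 : β e c' = 0) (k1 : β a a' = 1)
    (k2 : β b b' = 1) (k3 : β (a + b) c' = 1) : τ e ∈ Od (⊤ : Subgroup H) := by
  have hc := h.add_iso ha hb
  have e1 : τ (a + e) * τ a * τ e * (τ (b + e) * τ b * τ e) =
      τ (a + b + e) * τ (a + b) * τ e := h.ext' fun v => by
    have hae : β a e = 0 := by rw [h.symm, hea]
    rw [mul_app, h.sieg he ha hea, h.sieg he hb heb, h.sieg he hc (by simp [hea, heb])]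
    simp only [map_add, map_smul, he, heb, hae, hab, LinearMap.add_apply, smul_eq_mul]
    module
  have e2 := h.link2 he ha ha' h1 k1
  have e3 := conj_mem_Od (h.link2 he hb hb' h2 k2) (mem_top (τ e))
  have e4 := h.link2 he hc hc' h3 k3
  have e5 := mul_mem (inv_mem e4) (mul_mem e2 e3)
  have e6 : (τ e)⁻¹ = τ e := inv_eq_of_mul_eq_one_right (h.tau_sq he)
  rwa [e6, show τ (a + e) * τ a * (τ e * (τ (b + e) * τ b) * τ e) =
    τ (a + e) * τ a * τ e * (τ (b + e) * τ b * τ e) by simp only [mul_assoc], e1,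
    inv_mul_cancel_left] at e5

theorem od {e a a' : W} (he : β e e = 0) (ha : β a a = 0) (ha' : β a' a' = 0) (h1 : β e a = 0)
    (h2 : β e a' = 0) (h3 : β a a' = 1) (h4 : Nat.card F = 2 → ∃ b b', β b b = 0 ∧ β b' b' = 0 ∧
      β b b' = 1 ∧ β e b = 0 ∧ β e b' = 0 ∧ β a b = 0 ∧ β a' b = 0 ∧ β a b' = 0) :
    τ e ∈ Od (⊤ : Subgroup H) ∧ τ (a + e) * τ a * τ e ∈ Od (⊤ : Subgroup H) := by
  suffices k : τ e ∈ Od (⊤ : Subgroup H) from ⟨k, mul_mem (h.link2 he ha ha' h2 h3) k⟩
  by_cases hF : Nat.card F = 2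
  · obtain ⟨b, b', k1, k2, k3, k4, k5, k6, k7, -⟩ := h4 hF
    exact h.od_core he ha k1 h1 k4 k6 ha' k2 ha' h2 k5 h2 h3 k3 (by simp [h3, h.symm b a', k7])
  · obtain ⟨l, l0, l1⟩ : ∃ l : F, l ≠ 0 ∧ l ≠ 1 := by
      by_contra! k
      exact hF ((Nat.card_eq_two_iff' (0 : F)).2 ⟨1, one_ne_zero, fun y hy => k y hy⟩)
    have l2 : 1 + l ≠ 0 := fun e => l1 (by linear_combination e - h.two)
    refine h.od_core (b := l • a) (b' := l⁻¹ • a') (c' := (1 + l)⁻¹ • a') he ha (by simp [ha]) h1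
      (by simp [h1]) (by simp [ha]) ha' (by simp [ha']) (by simp [ha']) h2 (by simp [h2])
      (by simp [h2]) h3 (by simp [h3, l0]) ?_
    simp only [map_add, map_smul, LinearMap.add_apply, LinearMap.smul_apply, h3, smul_eq_mul]
    field_simp

omit h in
theorem exists_perp {k : ℕ} (x : Fin k → W) :
    ∃ U : Submodule F W, finrank F W ≤ finrank F U + k ∧ ∀ v ∈ U, ∀ i, β (x i) v = 0 := by
  refine ⟨LinearMap.ker (LinearMap.pi fun i => β (x i)), ?_, fun v hv i => congrFun hv i⟩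
  have h1 := LinearMap.finrank_range_add_finrank_ker (LinearMap.pi fun i => β (x i))
  have h2 := Submodule.finrank_le (LinearMap.range (LinearMap.pi fun i => β (x i)))
  rw [finrank_fin_fun] at h2
  omega

omit h in
theorem exists_ne {k : ℕ} (x : Fin k → W) (hk : k < finrank F W) :
    ∃ e, e ≠ 0 ∧ ∀ i, β (x i) e = 0 := by
  obtain ⟨U, h1, h2⟩ := exists_perp (β := β) x
  obtain ⟨e, he, h0⟩ := Submodule.exists_mem_ne_zero_of_ne_bot (p := U) (by
    rintro rfl
    rw [finrank_bot] at h1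
    omega)
  exact ⟨e, h0, h2 e he⟩

theorem exists_hp {k : ℕ} (x : Fin k → W) (hk : 2 * k < finrank F W) :
    ∃ a a', (∀ i, β (x i) a = 0) ∧ (∀ i, β (x i) a' = 0) ∧ β a a' = 1 := by
  obtain ⟨U, h1, h2⟩ := exists_perp (β := β) x
  obtain ⟨a, ha, b, hb, hab⟩ : ∃ a ∈ U, ∃ b ∈ U, β a b ≠ 0 := by
    by_contra! k
    have h3 : U ≤ β.orthogonal U := fun v hv u hu => k u hu v hv
    have h4 := Submodule.finrank_mono h3
    rw [LinearMap.BilinForm.finrank_orthogonal h.nondeg] at h4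
    omega
  exact ⟨a, (β a b)⁻¹ • b, h2 a ha, h2 _ (U.smul_mem _ hb), by simp [hab]⟩

theorem exists_w0 : ∃ w, ∀ v, β v v = β w v ^ 2 := by
  choose s hs using h.sqrt
  let f : W →ₗ[F] F :=
    { toFun := fun v => s (β v v)
      map_add' := fun v w => h.sq_inj (by
        rw [hs, add_sq, hs, hs]
        simp only [map_add, LinearMap.add_apply, h.symm w v]
        linear_combination (β v w - s (β v v) * s (β w w)) * h.two)
      map_smul' := fun c v => h.sq_inj (by
        simp only [RingHom.id_apply, smul_eq_mul, mul_pow, hs, map_smul, LinearMap.smul_apply]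
        ring) }
  obtain ⟨w, hw⟩ := (LinearMap.injective_iff_surjective_of_finrank_eq_finrank
    (f := (β : W →ₗ[F] Module.Dual F W)) Subspace.dual_finrank_eq.symm).1
    ((injective_iff_map_eq_zero _).2 fun v hv => h.nd v fun w => by rw [hv]; rfl) f
  exact ⟨w, fun v => by rw [hw]; exact (hs _).symm⟩

theorem od' {w : W} (hw : ∀ v, β v v = β w v ^ 2) : ∃ a a', β w a = 0 ∧ β w a' = 0 ∧
    β a a' = 1 ∧ (∃ e, e ≠ 0 ∧ β w e = 0 ∧ β e a = 0 ∧ β e a' = 0 ∧ τ e ∈ Od (⊤ : Subgroup H) ∧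
      τ (a + e) * τ a * τ e ∈ Od (⊤ : Subgroup H)) ∧
      (β w w = 0 → τ w ∈ Od (⊤ : Subgroup H)) := by
  have d4 := h.d4
  have hi : ∀ v, β w v = 0 → β v v = 0 := fun v e => by rw [hw, e]; simp
  obtain ⟨a, a', h1, h2, h3⟩ := h.exists_hp ![w] (by omega)
  replace h1 : β w a = 0 := h1 0
  replace h2 : β w a' = 0 := h2 0
  refine ⟨a, a', h1, h2, h3, ?_⟩
  by_cases hF : Nat.card F = 2
  · have d7 := h.d7 hF
    obtain ⟨b, b', k1, k2, k3⟩ := h.exists_hp ![w, a, a'] (by omega)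
    obtain ⟨e, e0, k4⟩ := exists_ne (β := β) ![w, a, a', b, b'] (by omega)
    have ea : β e a = 0 := by rw [h.symm]; exact k4 1
    have ea' : β e a' = 0 := by rw [h.symm]; exact k4 2
    exact ⟨⟨e, e0, k4 0, ea, ea', h.od (hi e (k4 0)) (hi a h1) (hi a' h2) ea ea' h3 fun _ =>
      ⟨b, b', hi b (k1 0), hi b' (k2 0), k3, by rw [h.symm]; exact k4 3,
        by rw [h.symm]; exact k4 4, k1 1, k1 2, k2 1⟩⟩,
      fun hww => (h.od hww (hi a h1) (hi a' h2) h1 h2 h3 fun _ =>
        ⟨b, b', hi b (k1 0), hi b' (k2 0), k3, k1 0, k2 0, k1 1, k1 2, k2 1⟩).1⟩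
  · obtain ⟨e, e0, k4⟩ := exists_ne (β := β) ![w, a, a'] (by omega)
    have ea : β e a = 0 := by rw [h.symm]; exact k4 1
    have ea' : β e a' = 0 := by rw [h.symm]; exact k4 2
    exact ⟨⟨e, e0, k4 0, ea, ea', h.od (hi e (k4 0)) (hi a h1) (hi a' h2) ea ea' h3
      fun e => absurd e hF⟩,
      fun hww => (h.od hww (hi a h1) (hi a' h2) h1 h2 h3 fun e => absurd e hF).1⟩

theorem exists_T : ∃ e a, β e e = 0 ∧ β a a = 0 ∧ β e a = 0 ∧ e ≠ 0 ∧ a ∉ span F {e} ∧
    τ (a + e) * τ a * τ e ∈ Od (⊤ : Subgroup H) := by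
  obtain ⟨w, hw⟩ := h.exists_w0
  obtain ⟨a, a', h1, -, h3, ⟨e, e0, k1, k2, k3, -, k4⟩, -⟩ := h.od' hw
  refine ⟨e, a, by rw [hw, k1]; simp, by rw [hw, h1]; simp, k2, e0, fun k => ?_, k4⟩
  obtain ⟨c, rfl⟩ := Submodule.mem_span_singleton.1 k
  simp [k3] at h3

theorem exists_w : ∃ w, (∀ v, β v v = β w v ^ 2) ∧ (β w w = 0 → τ w ∈ Od (⊤ : Subgroup H)) := by
  obtain ⟨w, hw⟩ := h.exists_w0
  obtain ⟨a, a', -, -, -, -, k⟩ := h.od' hw
  exact ⟨w, hw, k⟩

theorem trans_nd {U : Submodule F W} (hU : ∀ a ∈ U, β a a = 0)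
    (nd : ∀ a ∈ U, (∀ v ∈ U, β a v = 0) → a = 0) {x y : W} (hx : x ∈ U) (x0 : x ≠ 0) (hy : y ∈ U)
    (y0 : y ≠ 0) : ∃ g ∈ closure (τ '' U), ρ g x = y := by
  have step : ∀ x ∈ U, ∀ y ∈ U, β x y ≠ 0 → ∃ g ∈ closure (τ '' U), ρ g x = y := by
    intro x hx y hy e
    obtain ⟨c, hc⟩ := h.sqrt (β x y)⁻¹
    have hu := U.smul_mem c (U.add_mem hx hy)
    refine ⟨τ (c • (x + y)), subset_closure ⟨_, hu, rfl⟩, ?_⟩
    rw [h.tau _ (hU _ hu)]
    simp only [map_add, map_smul, LinearMap.add_apply, LinearMap.smul_apply, hU x hx, h.symm y x,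
      smul_eq_mul]
    have e1 : c ^ 2 * β x y = 1 := by rw [hc, inv_mul_cancel₀ e]
    linear_combination (norm := module) e1 • (x + y) + h.two • x
  obtain ⟨z, hz, k1, k2⟩ : ∃ z ∈ U, β x z ≠ 0 ∧ β z y ≠ 0 := by
    obtain ⟨u, hu, e1⟩ : ∃ u ∈ U, β x u ≠ 0 := by
      by_contra! k
      exact x0 (nd x hx k)
    obtain ⟨v, hv, e2⟩ : ∃ v ∈ U, β y v ≠ 0 := by
      by_contra! k
      exact y0 (nd y hy k)
    rw [h.symm] at e2
    by_cases e3 : β u y = 0
    · by_cases e4 : β x v = 0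
      · exact ⟨u + v, U.add_mem hu hv, by simpa [e4] using e1, by simpa [e3] using e2⟩
      · exact ⟨v, hv, e4, e2⟩
    · exact ⟨u, hu, e1, e3⟩
  obtain ⟨g, hg, e1⟩ := step x hx z hz k1
  obtain ⟨g', hg', e2⟩ := step z hz y hy k2
  exact ⟨g' * g, mul_mem hg' hg, by rw [mul_app, e1, e2]⟩

theorem exists_nd {w : W} (hw : ∀ v, β v v = β w v ^ 2)
    (nd : ∀ a, β w a = 0 → (∀ v, β w v = 0 → β a v = 0) → a = 0) {k : ℕ}
    (hk : 2 * k ≤ finrank F W) : ∃ U : Submodule F W, finrank F U = 2 * k ∧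
      (∀ a ∈ U, β w a = 0) ∧ ∀ a ∈ U, (∀ v ∈ U, β a v = 0) → a = 0 := by
  induction k with
  | zero => exact ⟨⊥, finrank_bot _ _, by simp, by simp⟩
  | succ k ih =>
    obtain ⟨U, h1, h2, h3⟩ := ih (by omega)
    have hi : ∀ v, β w v = 0 → β v v = 0 := fun v e => by rw [hw, e]; simp
    have hc : IsCompl U (β.orthogonal U) :=
      (LinearMap.BilinForm.isCompl_orthogonal_iff_disjoint h.refl').2
        (Submodule.disjoint_def.2 fun a ha ha' => h3 a ha fun v hv => by
          rw [h.symm]; exact ha' v hv)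
    obtain ⟨a, ⟨ha, ha'⟩, a0⟩ := Submodule.exists_mem_ne_zero_of_ne_bot
      (p := β.orthogonal U ⊓ LinearMap.ker (β w)) (fun e => by
        have e1 := Submodule.finrank_sup_add_finrank_inf_eq (β.orthogonal U) (LinearMap.ker (β w))
        have e2 := Submodule.finrank_le (β.orthogonal U ⊔ LinearMap.ker (β w))
        have e3 := LinearMap.finrank_range_add_finrank_ker (β w)
        have e4 := Submodule.finrank_le (LinearMap.range (β w))
        rw [e, finrank_bot, LinearMap.BilinForm.finrank_orthogonal h.nondeg] at e1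
        rw [finrank_self] at e4
        omega)
    obtain ⟨b, hb, hb', hab⟩ : ∃ b ∈ β.orthogonal U, β w b = 0 ∧ β a b = 1 := by
      obtain ⟨v, hv, e⟩ : ∃ v, β w v = 0 ∧ β a v ≠ 0 := by
        by_contra! k
        exact a0 (nd a ha' k)
      obtain ⟨u, hu, r, hr, rfl⟩ := Submodule.mem_sup.1
        (hc.sup_eq_top ▸ Submodule.mem_top : v ∈ U ⊔ β.orthogonal U)
      have e1 : β a u = 0 := by rw [h.symm]; exact ha u hu
      rw [map_add, h2 u hu, zero_add] at hv
      rw [map_add, e1, zero_add] at e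
      exact ⟨(β a r)⁻¹ • r, Submodule.smul_mem _ _ hr, by simp [hv], by simp [e]⟩
    have haa := hi a ha'
    have hbb := hi b hb'
    have hba : β b a = 1 := by rw [h.symm, hab]
    have hmem : ∀ x ∈ U ⊔ span F {a} ⊔ span F {b}, ∃ u ∈ U, ∃ s t : F, x = u + s • a + t • b := by
      intro x hx
      obtain ⟨y, hy, z, hz, rfl⟩ := Submodule.mem_sup.1 hx
      obtain ⟨u, hu, y', hy', rfl⟩ := Submodule.mem_sup.1 hy
      obtain ⟨s, rfl⟩ := Submodule.mem_span_singleton.1 hy'
      obtain ⟨t, rfl⟩ := Submodule.mem_span_singleton.1 hz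
      exact ⟨u, hu, s, t, rfl⟩
    refine ⟨U ⊔ span F {a} ⊔ span F {b}, ?_, fun x hx => ?_, fun x hx e => ?_⟩
    · rw [Submodule.finrank_sup_span_singleton, Submodule.finrank_sup_span_singleton, h1]
      · rfl
      · intro e
        rw [hb a e] at hab
        exact zero_ne_one hab
      · intro e
        obtain ⟨u, hu, y, hy, e⟩ := Submodule.mem_sup.1 e
        obtain ⟨s, rfl⟩ := Submodule.mem_span_singleton.1 hy
        rw [← e] at hba
        simp [ha u hu, haa] at hba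
    · obtain ⟨u, hu, s, t, rfl⟩ := hmem x hx
      have : β w a = 0 := ha'
      simp [h2 u hu, this, hb']
    · obtain ⟨u, hu, s, t, rfl⟩ := hmem x hx
      have e1 := e a (Submodule.mem_sup_left (Submodule.mem_sup_right
        (Submodule.mem_span_singleton_self a)))
      have e2 := e b (Submodule.mem_sup_right (Submodule.mem_span_singleton_self b))
      simp [ha u hu, hb u hu, haa, hbb, hab, hba] at e1 e2
      subst e1 e2
      simp only [zero_smul, add_zero] at e ⊢
      exact h3 u hu fun v hv => e v (Submodule.mem_sup_left (Submodule.mem_sup_left hv))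

theorem big (hw : (∀ v, β v v = 0) ∨ ∃ w, (∀ v, β v v = β w v ^ 2) ∧ β w w ≠ 0) {n : ℕ}
    (hn : Even n) (h0 : 0 < n) (h1 : n ≤ finrank F W) :
    Nat.card F ^ n - 1 ∣ Nat.card (Od2 (⊤ : Subgroup H)) := by
  obtain ⟨w, hw, nd⟩ : ∃ w, (∀ v, β v v = β w v ^ 2) ∧
      ∀ a, β w a = 0 → (∀ v, β w v = 0 → β a v = 0) → a = 0 := by
    rcases hw with hw | ⟨w, hw, hww⟩
    · exact ⟨0, by simpa using hw, fun a _ e => h.nd a fun v => e v (by simp)⟩
    · refine ⟨w, hw, fun a ha e => h.nd a fun v => ?_⟩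
      have := e (v - (β w v / β w w) • w) (by simp [hww])
      simpa [h.symm a w, ha] using this
  have hi : ∀ v, β w v = 0 → β v v = 0 := fun v e => by rw [hw, e]; simp
  have hall : ∀ a, β w a = 0 → τ a ∈ Od (⊤ : Subgroup H) := by
    obtain ⟨-, -, -, -, -, ⟨e, e0, k1, -, -, k2, -⟩, -⟩ := h.od' hw
    intro a ha
    by_cases a0 : a = 0
    · rw [a0, h.tau_zero]
      exact one_mem _
    obtain ⟨g, hg, rfl⟩ := h.trans_nd (U := LinearMap.ker (β w)) hi nd k1 e0 ha a0
    rw [← h.tau_conj _ (hi e k1)]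
    · exact conj_mem_Od k2 (mem_top g)
    · clear ha a0
      induction hg using closure_induction with
      | mem g hg =>
        obtain ⟨u, hu, rfl⟩ := hg
        exact h.tau_iso (hi u hu)
      | one => simp
      | mul g k _ _ e1 e2 => intro v w; rw [mul_app, mul_app, e1, e2]
      | inv g _ e1 => intro v w; rw [← e1, ← mul_app, ← mul_app]; simp
  obtain ⟨k, rfl⟩ := hn
  obtain ⟨U, hU, h2, h3⟩ := h.exists_nd hw nd (k := k) (by omega)
  letI : MulAction H W := MulAction.compHom W ρ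
  have h4 := card_dvd_of_trans (H := H) (X := τ '' U) (U := (U : Set W) \ {0}) (by
    rintro _ ⟨u, hu, rfl⟩ a ⟨ha, a0⟩
    change ρ (τ u) a ∈ _
    refine ⟨?_, fun e => a0 ((ρ (τ u)).map_eq_zero_iff.1 e)⟩
    rw [h.tau u (hi u (h2 u hu))]
    exact U.add_mem ha (U.smul_mem _ hu))
    (fun a ha b hb => h.trans_nd (fun u hu => hi u (h2 u hu)) h3 ha.1 ha.2 hb.1 hb.2) (by
      obtain ⟨a, ha, a0⟩ := Submodule.exists_mem_ne_zero_of_ne_bot (p := U) (by
        rintro rfl
        rw [finrank_bot] at hU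
        omega)
      exact ⟨a, ha, a0⟩)
  rw [ncard_ne_zero_sub, hU, two_mul] at h4
  refine h4.trans (card_dvd_of_le (closure_mono ?_))
  rintro _ ⟨u, hu, rfl⟩
  exact ⟨h.tau_sq (hi u (h2 u hu)), hall u (h2 u hu)⟩

end SymD

end CfsgLib.UN
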